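import Cfsg.Agent.Lib.PGroup.FpfSections
import Cfsg.Agent.Lib.PGroup.ShultGross.Main
import Cfsg.Agent.Lib.Coprime.Fitting
import Cfsg.Agent.Lib.Coprime.Component

/-!
# Membership in the Fitting subgroup, and chains with nilpotent factors
-/

set_option autoImplicit false
set_option linter.style.haveILetI false
set_option linter.unusedSectionVars false

namespace CfsgLib.PGroup.GrossTwo

open CfsgLib.PGroup
open Subgroup
open scoped commutatorElement

universe u

variable {G : Type u} [Group G] [Finite G]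

/-- An element of a normal `r`-section over the Fitting subgroup that commutes with every `O_l`,
`l ≠ r`, lies in the Fitting subgroup. -/
theorem mem_fitting_of_commute {r : ℕ} [hrf : Fact r.Prime] (X : Subgroup G) [X.Normal]
    (hX : ∀ x ∈ X, ∃ k : ℕ, x ^ r ^ k ∈ Cfsg.fittingSubgroup G) {d : G} (hd : d ∈ X)
    (hc : ∀ l : ℕ, l.Prime → l ≠ r → ∀ z ∈ Cfsg.pCore l G, Commute d z) :
    d ∈ Cfsg.fittingSubgroup G := by
  classical
  set F := Cfsg.fittingSubgroup G
  set E : Subgroup G := ⨆ l : {l : Nat.Primes // (l : ℕ) ≠ r}, Cfsg.pCore (l.1 : ℕ) G with hE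
  haveI : ∀ l : {l : Nat.Primes // (l : ℕ) ≠ r}, (Cfsg.pCore (l.1 : ℕ) G).Normal :=
    fun l => CfsgLib.Coprime.pCore_normal' _
  haveI : E.Normal := Subgroup.iSup_normal _
  set C := X ⊓ centralizer (E : Set G) with hC
  have hdC : d ∈ C := by
    refine Subgroup.mem_inf.2 ⟨hd, ?_⟩
    suffices hs : E ≤ centralizer ({d} : Set G) from
      mem_centralizer_iff.2 fun e he => mem_centralizer_singleton_iff.1 (hs he)
    exact iSup_le fun l z hz => mem_centralizer_singleton_iff.2 (hc _ l.1.2 l.2 z hz).eq.symm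
  have hCn : C.Normal := inferInstance
  have hCnil : Group.IsNilpotent C := by
    let g : C →* G ⧸ E := (QuotientGroup.mk' E).comp C.subtype
    have himg : IsPGroup r g.range := by
      rintro ⟨_, c, rfl⟩
      obtain ⟨k, hk⟩ := hX c (Subgroup.mem_inf.1 c.2).1
      have hFle : F ≤ Cfsg.pCore r G ⊔ E := by
        rw [show F = _ from CfsgLib.Coprime.fitting_eq_iSup_pCore]
        refine iSup_le fun s => ?_
        by_cases hs : (s : ℕ) = r
        · exact le_sup_of_le_left (hs ▸ le_rfl)
        · exact le_sup_of_le_right (le_iSup (fun l : {l : Nat.Primes // (l : ℕ) ≠ r} =>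
            Cfsg.pCore (l.1 : ℕ) G) ⟨s, hs⟩)
      have h1 := mem_map_of_mem (QuotientGroup.mk' E) (hFle hk)
      rw [Subgroup.map_sup, QuotientGroup.map_mk'_self, sup_bot_eq] at h1
      obtain ⟨j, hj⟩ := (CfsgLib.Coprime.pCore_isPGroup (G := G) r).map (QuotientGroup.mk' E) ⟨_, h1⟩
      refine ⟨k + j, Subtype.ext ?_⟩
      have hj' := congrArg Subtype.val hj
      rw [SubgroupClass.coe_pow, OneMemClass.coe_one] at hj'
      rw [SubgroupClass.coe_pow, OneMemClass.coe_one, pow_add, pow_mul]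
      show ((QuotientGroup.mk' E) (c : G) ^ r ^ k) ^ r ^ j = 1
      rw [← map_pow]
      exact hj'
    haveI : Group.IsNilpotent g.range := himg.isNilpotent
    refine Subgroup.isNilpotent_of_ker_le_center g.rangeRestrict ?_
    rw [MonoidHom.ker_rangeRestrict]
    intro c hc
    have hcE : (c : G) ∈ E := (QuotientGroup.eq_one_iff (c : G)).1 hc
    rw [mem_center_iff]
    intro e
    exact Subtype.ext (mem_centralizer_iff.1 (Subgroup.mem_inf.1 e.2).2 _ hcE).symm
  exact CfsgLib.Coprime.le_fitting hCnil hdC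

/-- An element of a normal `r`-section over the Fitting subgroup acting trivially on every Frattini
quotient of `O_l`, `l ≠ r`, lies in the Fitting subgroup. -/
theorem mem_fitting_of_frattini {r : ℕ} [hrf : Fact r.Prime] (X : Subgroup G) [X.Normal]
    (hX : ∀ x ∈ X, ∃ k : ℕ, x ^ r ^ k ∈ Cfsg.fittingSubgroup G) {d : G} (hdX : d ∈ X)
    (hc : ∀ l : ℕ, l.Prime → l ≠ r → ∀ z ∈ Cfsg.pCore l G,
      ⁅d, z⁆ ∈ (frattini (Cfsg.pCore l G)).map (Cfsg.pCore l G).subtype) :
    d ∈ Cfsg.fittingSubgroup G := by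
  classical
  set F := Cfsg.fittingSubgroup G
  haveI : F.Normal := CfsgLib.Coprime.fitting_normal
  obtain ⟨k, hk⟩ := hX d hdX
  have hk' : QuotientGroup.mk' F d ^ r ^ k = 1 := by
    rw [← map_pow]; exact (QuotientGroup.eq_one_iff _).2 hk
  obtain ⟨h, hh, hhd, hhp⟩ := exists_lift_pElement (QuotientGroup.mk' F) (L := zpowers d)
    (mem_zpowers d) hk'
  have hhF : h ∈ F := by
    refine mem_fitting_of_commute X hX (zpowers_le.2 hdX hh) fun l hl hlr z hz => ?_
    haveI : Fact l.Prime := ⟨hl⟩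
    set L := Cfsg.pCore l G
    haveI : L.Normal := CfsgLib.Coprime.pCore_normal' _
    haveI : L.Characteristic := CfsgLib.Coprime.pCore_characteristic _
    set Φ := (frattini L).map L.subtype
    haveI : Φ.Normal := CfsgLib.Coprime.map_subtype_normal_of_characteristic L (frattini L)
    have hS : ∀ g ∈ zpowers h, ∀ z ∈ L, g * z * g⁻¹ * z⁻¹ ∈ Φ := by
      intro g hg z hz
      obtain ⟨i, rfl⟩ := mem_zpowers_iff.1 ((zpowers_le.2 hh) hg)
      have hcd : ∀ w ∈ L, Commute (QuotientGroup.mk' Φ d) (QuotientGroup.mk' Φ w) := fun w hw => by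
        rw [← commutatorElement_eq_one_iff_commute, ← map_commutatorElement]
        exact (QuotientGroup.eq_one_iff _).2 (hc l hl hlr w hw)
      refine (QuotientGroup.eq_one_iff _).1 ?_
      show QuotientGroup.mk' Φ (d ^ i * z * (d ^ i)⁻¹ * z⁻¹) = 1
      rw [← commutatorElement_def, map_commutatorElement, commutatorElement_eq_one_iff_commute, map_zpow]
      exact (hcd z hz).zpow_left i
    have hle : zpowers h ≤ centralizer (L : Set G) := by
      refine CfsgLib.Coprime.le_centralizer_of_trivial_on_frattini_quotient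
        (by rw [normalizer_eq_top]; exact le_top) ?_ hS
      obtain ⟨a, ha⟩ := IsPGroup.iff_card.1 hhp
      obtain ⟨b, hb⟩ := IsPGroup.iff_card.1 ((CfsgLib.Coprime.pCore_isPGroup (G := G) l).to_subgroup
        (frattini L))
      rw [ha, hb]
      exact Nat.Coprime.pow a b ((Nat.coprime_primes hrf.out hl).2 hlr.symm)
    exact (mem_centralizer_iff.1 (hle (mem_zpowers h)) z hz).symm
  refine (QuotientGroup.eq_one_iff d).1 ?_
  show QuotientGroup.mk' F d = 1
  rw [← hhd]
  exact (QuotientGroup.eq_one_iff h).2 hhF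

/-- An involutory automorphism of a soluble group of odd order fixing the Fitting subgroup is
trivial. -/
theorem eq_one_of_fix_fitting [Group.IsSolvable G] (hodd : ¬ 2 ∣ Nat.card G) {f : MulAut G}
    (hf : f ^ 2 = 1) (hK : ∀ z ∈ Cfsg.fittingSubgroup G, f z = z) : f = 1 := by
  refine MulEquiv.ext fun g => ?_
  set K := Cfsg.fittingSubgroup G
  haveI : K.Normal := CfsgLib.Coprime.fitting_normal
  have hk : g⁻¹ * f g ∈ K := by
    refine CfsgLib.Coprime.centralizer_fitting_le (mem_centralizer_iff.2 fun z hz => ?_)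
    have h1 := hK _ ((inferInstance : K.Normal).conj_mem z hz g)
    rw [map_mul, map_mul, map_inv, hK z hz] at h1
    calc z * (g⁻¹ * f g) = g⁻¹ * (g * z * g⁻¹) * f g := by group
      _ = g⁻¹ * (f g * z * (f g)⁻¹) * f g := by rw [h1]
      _ = g⁻¹ * f g * z := by group
  have h2 : (f ^ 2) g = g * (g⁻¹ * f g) ^ 2 := by
    rw [pow_two f, MulAut.mul_apply, pow_two]
    have e : f (f g) = f g * (g⁻¹ * f g) := by
      conv_lhs => rw [show f g = g * (g⁻¹ * f g) by group, map_mul, hK _ hk]
    rw [e]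
    group
  rw [hf, MulAut.one_apply, left_eq_mul] at h2
  have hone : g⁻¹ * f g = 1 := orderOf_eq_one_iff.1 (Nat.eq_one_of_dvd_coprimes
    (Nat.prime_two.coprime_iff_not_dvd.2 hodd).symm (_root_.orderOf_dvd_natCard _)
    (orderOf_dvd_of_pow_eq_one h2))
  rw [MulAut.one_apply]
  exact (inv_mul_eq_one.1 hone).symm

/-- A chain on the quotient by the Fitting subgroup extends by one step. -/
theorem chain_succ {n : ℕ} [(Cfsg.fittingSubgroup G).Normal]
    (h : ∃ F : Fin (n + 1) → Subgroup (G ⧸ Cfsg.fittingSubgroup G), F 0 = ⊥ ∧ F (Fin.last n) = ⊤ ∧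
      Monotone F ∧ (∀ i, (F i).Normal) ∧
      ∀ i : Fin n, ∃ k : ℕ, (F i.succ).lowerCentralSeries k ≤ F i.castSucc) :
    ∃ F : Fin (n + 1 + 1) → Subgroup G, F 0 = ⊥ ∧ F (Fin.last (n + 1)) = ⊤ ∧ Monotone F ∧
      (∀ i, (F i).Normal) ∧
      ∀ i : Fin (n + 1), ∃ k : ℕ, (F i.succ).lowerCentralSeries k ≤ F i.castSucc := by
  set F₁ := Cfsg.fittingSubgroup G with hF₁
  obtain ⟨Fb, hF0, hFl, hFm, hFn, hFk⟩ := h
  let F : Fin (n + 1 + 1) → Subgroup G :=
    Fin.cases ⊥ fun i => (Fb i).comap (QuotientGroup.mk' F₁)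
  refine ⟨F, rfl, ?_, ?_, ?_, ?_⟩
  · rw [← Fin.succ_last]
    show (Fb (Fin.last n)).comap _ = ⊤
    rw [hFl, comap_top]
  · refine Fin.monotone_iff_le_succ.2 fun i => ?_
    induction i using Fin.cases with
    | zero => exact bot_le
    | succ i =>
      rw [← Fin.succ_castSucc]
      exact comap_mono (hFm (Fin.castSucc_lt_succ (i := i)).le)
  · intro i
    induction i using Fin.cases with
    | zero => exact (inferInstance : (⊥ : Subgroup G).Normal)
    | succ i => exact (hFn i).comap _
  · intro i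
    induction i using Fin.cases with
    | zero =>
      show ∃ k, ((Fb 0).comap (QuotientGroup.mk' F₁)).lowerCentralSeries k ≤ ⊥
      rw [hF0, MonoidHom.comap_bot, QuotientGroup.ker_mk']
      haveI := CfsgLib.Coprime.fitting_isNilpotent (G := G)
      obtain ⟨k, hk⟩ := (Subgroup.isNilpotent_iff_lowerCentralSeries (S := F₁)).1 inferInstance
      exact ⟨k, hk.le⟩
    | succ i =>
      obtain ⟨k, hk⟩ := hFk i
      refine ⟨k, ?_⟩
      rw [← Fin.succ_castSucc]
      show ((Fb i.succ).comap (QuotientGroup.mk' F₁)).lowerCentralSeries k ≤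
        (Fb i.castSucc).comap (QuotientGroup.mk' F₁)
      rw [← map_le_iff_le_comap, Subgroup.map_lowerCentralSeries,
        map_comap_eq_self_of_surjective (QuotientGroup.mk'_surjective F₁)]
      exact hk

end CfsgLib.PGroup.GrossTwo
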