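import Cfsg.Agent.Lib.PGroup.GrossTwo.Action
import Cfsg.Agent.Lib.PGroup.GrossTwo.Fitting
import Cfsg.Agent.Lib.CFun.Critical

/-!
# The socle on the second Fitting layer
-/

set_option autoImplicit false
set_option linter.style.haveILetI false
set_option linter.unusedSectionVars false
set_option maxHeartbeats 800000

namespace CfsgLib.PGroup.GrossTwo

open CfsgLib.PGroup
open Subgroup
open scoped commutatorElement

universe u

/-- A subgroup of a characteristic subgroup, characteristic there, is characteristic. -/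
theorem characteristic_of_subgroupOf {G : Type u} [Group G] {Q A : Subgroup G} [Q.Characteristic]
    (hAQ : A ≤ Q) (hA : (A.subgroupOf Q).Characteristic) : A.Characteristic := by
  haveI := hA
  refine characteristic_iff_map_le.2 fun f => ?_
  rintro _ ⟨a, ha, rfl⟩
  exact mem_subgroupOf.1 (characteristic_iff_map_le.1 hA (ShultGross.resChar Q f)
    (mem_map_of_mem _ (show (⟨a, hAQ ha⟩ : Q) ∈ A.subgroupOf Q from mem_subgroupOf.2 ha)))

/-- The centre of a characteristic subgroup is characteristic. -/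
theorem characteristic_cen {G : Type u} [Group G] (A : Subgroup G) [hA : A.Characteristic] :
    (CfsgLib.CFun.cen A).Characteristic := by
  refine characteristic_iff_map_le.2 fun f => ?_
  rintro _ ⟨z, hz, rfl⟩
  refine Subgroup.mem_inf.2 ⟨CfsgLib.CFun.mem_of_map_conj f hz.1, mem_centralizer_iff.2 fun c hc => ?_⟩
  have := congrArg f (mem_centralizer_iff.1 hz.2 _ (CfsgLib.CFun.mem_of_map_conj f.symm hc))
  simpa using this

variable {G : Type u} [Group G] [Finite G]

theorem pow_apply_mem {σ : MulAut G} {X : Subgroup G} (hX : ∀ x ∈ X, σ x ∈ X) (i : ℕ) :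
    ∀ x ∈ X, (σ ^ i) x ∈ X := by
  induction i with
  | zero => exact fun x hx => hx
  | succ i ih => exact fun x hx => by rw [pow_succ']; exact hX _ (ih x hx)

/-- The section carried by the Frattini quotient of `O_l`. -/
theorem exists_sectionAction {σ : MulAut G} {n r : ℕ} (hr : r.Prime) (hr2 : r ≠ 2)
    (hodd : ¬ 2 ∣ Nat.card G) (hσ : σ ^ 2 ^ (n + 1) = 1) (hfp : ∀ g, σ g = g → g = 1)
    {C Z : Subgroup G} [C.Normal] (hZC : Z ≤ C)
    (hCr : ∀ c ∈ C, ∃ k : ℕ, c ^ r ^ k ∈ Cfsg.fittingSubgroup G)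
    (hcomm : ∀ c ∈ C, ∀ d ∈ C, ⁅c, d⁆ ∈ Z)
    (hcen : ∀ c ∈ C, ∀ z ∈ Z, ⁅c, z⁆ ∈ Cfsg.fittingSubgroup G)
    (hpow : ∀ c ∈ C, c ^ r ∈ Z) (hCσ : ∀ c ∈ C, σ c ∈ C) (hZσ : ∀ z ∈ Z, σ z ∈ Z)
    {l : ℕ} (hl : l.Prime) (hlr : l ≠ r) :
    (∀ z ∈ Cfsg.pCore l G, z = 1) ∨
    ∃ (V : Type u) (_ : CommGroup V) (_ : Finite V) (θ : G →* MulAut V) (A : MulAut V),
      SectionAction σ n r l θ A C Z ∧ ∀ g, θ g = 1 → ∀ z ∈ Cfsg.pCore l G,
        ⁅g, z⁆ ∈ (frattini (Cfsg.pCore l G)).map (Cfsg.pCore l G).subtype := by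
  classical
  haveI := Fact.mk hl
  set F := Cfsg.fittingSubgroup G
  set L := Cfsg.pCore l G with hL
  have hLp : IsPGroup l L := CfsgLib.Coprime.pCore_isPGroup l
  by_cases hl2 : l = 2
  · left
    intro z hz
    obtain ⟨k, hk⟩ := hLp ⟨z, hz⟩
    refine orderOf_eq_one_iff.1 (Nat.eq_one_of_dvd_coprimes
      ((Nat.prime_two.coprime_iff_not_dvd.2 hodd).symm.pow_right k) (orderOf_dvd_natCard z)
      (orderOf_dvd_of_pow_eq_one ?_))
    rw [← hl2]
    exact congrArg Subtype.val hk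
  right
  haveI : L.Characteristic := CfsgLib.Coprime.pCore_characteristic l
  letI : CommGroup (L ⧸ frattini L) := { (inferInstance : Group (L ⧸ frattini L)) with
    mul_comm := fun u v => by
      obtain ⟨a, rfl⟩ := QuotientGroup.mk_surjective u
      obtain ⟨b, rfl⟩ := QuotientGroup.mk_surjective v
      rw [← QuotientGroup.mk_mul, ← QuotientGroup.mk_mul, QuotientGroup.eq]
      have h1 := CfsgLib.Coprime.commutator_le_frattini hLp
        (commutator_mem_commutator (mem_top (b⁻¹)) (mem_top (a⁻¹)))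
      rwa [commutatorElement_def, inv_inv, inv_inv,
        show b⁻¹ * a⁻¹ * b * a = (a * b)⁻¹ * (b * a) by group] at h1 }
  let Θ : MulAut G →* MulAut (L ⧸ frattini L) :=
    (ShultGross.quotChar (frattini L)).comp (ShultGross.resChar L)
  let θ : G →* MulAut (L ⧸ frattini L) := Θ.comp MulAut.conj
  have hθσ : ∀ g, θ (σ g) = Θ σ * θ g * (Θ σ)⁻¹ := fun g => by
    show Θ (MulAut.conj (σ g)) = _
    rw [← ShultGross.conj_aut, map_mul, map_mul, map_inv]
    rfl
  have hF : F ≤ θ.ker := by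
    rw [show F = _ from CfsgLib.Coprime.fitting_eq_iSup_pCore]
    refine iSup_le fun s => ?_
    intro y hy
    rw [MonoidHom.mem_ker]
    refine MulEquiv.ext fun v => ?_
    obtain ⟨w, rfl⟩ := QuotientGroup.mk_surjective v
    show ((ShultGross.resChar L (MulAut.conj y) w : L) : L ⧸ frattini L) = (w : L ⧸ frattini L)
    by_cases hs : (s : ℕ) = l
    · rw [hs] at hy
      rw [show ShultGross.resChar L (MulAut.conj y) w = (⟨y, hy⟩ : L) * w * (⟨y, hy⟩ : L)⁻¹ from Subtype.ext rfl,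
        QuotientGroup.mk_mul, QuotientGroup.mk_mul, QuotientGroup.mk_inv,
        mul_comm ((⟨y, hy⟩ : L) : L ⧸ frattini L), mul_inv_cancel_right]
    · haveI : Fact (s : ℕ).Prime := ⟨s.2⟩
      have hd := (CfsgLib.Coprime.pCore_isPGroup (G := G) (s : ℕ)).disjoint_of_ne _ _ hs _ _ hLp
      have hc := Subgroup.commute_of_normal_of_disjoint _ _ (CfsgLib.Coprime.pCore_normal' (G := G) (s : ℕ))
        (CfsgLib.Coprime.pCore_normal' (G := G) l) hd y w hy w.2
      congr 1
      refine Subtype.ext ?_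
      show y * (w : G) * y⁻¹ = w
      rw [hc.eq, mul_inv_cancel_right]
  refine ⟨L ⧸ frattini L, inferInstance, inferInstance, θ, Θ σ,
    { primeR := hr
      oddR := hr2
      primeL := hl
      oddL := hl2
      ne := hlr.symm
      exponent := fun v => by
        obtain ⟨a, rfl⟩ := QuotientGroup.mk_surjective v
        rw [← QuotientGroup.mk_pow, QuotientGroup.eq_one_iff]
        exact CfsgLib.Coprime.pow_mem_frattini hLp a
      pow := by rw [← map_pow, hσ, map_one]
      equiv := hθσ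
      noFixed := fun v hv => by
        obtain ⟨a, rfl⟩ := QuotientGroup.mk_surjective v
        have hv' : ((ShultGross.resChar L σ a : L) : L ⧸ frattini L) = (a : L ⧸ frattini L) := hv
        have h1 : (a : G)⁻¹ * σ a ∈ (frattini L).map L.subtype :=
          ⟨a⁻¹ * ShultGross.resChar L σ a, QuotientGroup.eq.1 hv'.symm, rfl⟩
        have h2 := ShultGross.mem_of_fpf hfp _ (by
          rintro _ ⟨b, hb, rfl⟩
          exact ⟨ShultGross.resChar L σ b, characteristic_iff_map_le.1 inferInstance (ShultGross.resChar L σ)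
            (mem_map_of_mem _ hb), rfl⟩) h1
        obtain ⟨b, hb, e⟩ := h2
        exact (QuotientGroup.eq_one_iff _).2 ((Subtype.ext e : b = a) ▸ hb)
      fpf := hfp
      isR := by
        rintro ⟨_, y, hy, rfl⟩
        obtain ⟨k, hk⟩ := hCr y hy
        refine ⟨k, Subtype.ext ?_⟩
        rw [SubgroupClass.coe_pow, OneMemClass.coe_one, ← map_pow]
        exact hF hk
      le := hZC
      cen := fun c hc z hz => by
        rw [← commutatorElement_eq_one_iff_commute, ← map_commutatorElement]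
        exact hF (hcen c hc z hz)
      comm := hcomm
      powMem := hpow
      stableC := hCσ
      stableZ := hZσ }, ?_⟩
  intro g hg z hz
  have h4 := DFunLike.congr_fun hg ((⟨z, hz⟩ : L) : L ⧸ frattini L)
  have h5 : ((ShultGross.resChar L (MulAut.conj g) ⟨z, hz⟩ : L) : L ⧸ frattini L) =
      ((⟨z, hz⟩ : L) : L ⧸ frattini L) := h4
  rw [eq_comm, QuotientGroup.eq] at h5
  haveI : (frattini L).Normal := inferInstance
  have h6 := (inferInstance : (frattini L).Normal).conj_mem _ h5 ⟨z, hz⟩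
  refine ⟨_, h6, ?_⟩
  show z * (z⁻¹ * (g * z * g⁻¹)) * z⁻¹ = _
  rw [commutatorElement_def]
  group

section Layer

variable {n : ℕ} {σ : MulAut G} (hσ : σ ^ 2 ^ (n + 1) = 1) (hfp : ∀ g, σ g = g → g = 1)
  [(Cfsg.fittingSubgroup G).Normal] [(Cfsg.fittingSubgroup G).Characteristic]
include hσ hfp

/-- What the class two sections tell about the socle on `O_r` of the quotient by the Fitting
subgroup. -/
theorem socle_on_critical {r : ℕ} (hr : r.Prime) (hr2 : r ≠ 2) :
    ∃ A : Subgroup (G ⧸ Cfsg.fittingSubgroup G), A ≤ Cfsg.pCore r (G ⧸ Cfsg.fittingSubgroup G) ∧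
      A.Normal ∧ A.Characteristic ∧
      (∀ φ : MulAut (Cfsg.pCore r (G ⧸ Cfsg.fittingSubgroup G)), (orderOf φ).Coprime r →
        (∀ a : Cfsg.pCore r (G ⧸ Cfsg.fittingSubgroup G), (a : G ⧸ Cfsg.fittingSubgroup G) ∈ A → φ a = a) →
          φ = 1) ∧
      (∀ z ∈ CfsgLib.CFun.cen A,
        ShultGross.quotChar (Cfsg.fittingSubgroup G) (σ ^ 2 ^ n) z = z) ∧
      (∀ x ∈ Cfsg.pCore r (G ⧸ Cfsg.fittingSubgroup G), ∀ c ∈ A, ⁅x, c⁆ ∈ CfsgLib.CFun.cen A) ∧
      (n = 1 → ∀ c ∈ A,
        c⁻¹ * ShultGross.quotChar (Cfsg.fittingSubgroup G) (σ ^ 2 ^ n) c ∈ CfsgLib.CFun.cen A) ∧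
      (∀ q : ℕ, q.Prime → q ≠ 2 → q ≠ r → ∀ X : Subgroup G, X.Normal → (∀ x ∈ X, σ x ∈ X) →
        (∀ x ∈ X, ∃ k : ℕ, ((x ^ q ^ k : G) : G ⧸ Cfsg.fittingSubgroup G) ∈
          Cfsg.fittingSubgroup (G ⧸ Cfsg.fittingSubgroup G)) →
        ∀ x ∈ X, ∀ c ∈ A, ⁅((x⁻¹ * (σ ^ 2 ^ n) x : G) : G ⧸ Cfsg.fittingSubgroup G), c⁆ ∈
          CfsgLib.CFun.cen A) := by
  classical
  haveI := Fact.mk hr
  set F₁ := Cfsg.fittingSubgroup G with hF₁
  set π := QuotientGroup.mk' F₁
  set Q := Cfsg.pCore r (G ⧸ F₁) with hQ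
  haveI : Q.Normal := CfsgLib.Coprime.pCore_normal' r
  haveI : Q.Characteristic := CfsgLib.Coprime.pCore_characteristic r
  have hQp : IsPGroup r Q := CfsgLib.Coprime.pCore_isPGroup r
  obtain ⟨A, hAQ, hAn, hAc, hApow, hAA, hQA, -, hfix⟩ := CfsgLib.CFun.exists_critical_in hQp
  haveI := hAn
  haveI hAchar : A.Characteristic := characteristic_of_subgroupOf hAQ hAc
  haveI := characteristic_cen A
  have hodd := ShultGross.not_dvd_card hfp Nat.prime_two hσ
  set C : Subgroup G := A.comap π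
  set Z : Subgroup G := (CfsgLib.CFun.cen A).comap π
  haveI : C.Normal := hAn.comap π
  haveI : Z.Normal := (inferInstance : (CfsgLib.CFun.cen A).Normal).comap π
  have hZC : Z ≤ C := comap_mono inf_le_left
  have hCr : ∀ c ∈ C, ∃ k : ℕ, c ^ r ^ k ∈ F₁ := by
    intro c hc
    obtain ⟨k, hk⟩ := hQp ⟨π c, hAQ hc⟩
    refine ⟨k, (QuotientGroup.eq_one_iff _).1 ?_⟩
    show π (c ^ r ^ k) = 1
    rw [map_pow]
    exact congrArg Subtype.val hk
  have hstab : ∀ (T : Subgroup (G ⧸ F₁)) [T.Characteristic], ∀ c ∈ T.comap π, σ c ∈ T.comap π := by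
    intro T hT c hc
    exact characteristic_iff_map_le.1 hT (ShultGross.quotChar F₁ σ) ⟨π c, hc, rfl⟩
  have hsa : ∀ {l : ℕ}, l.Prime → l ≠ r → (∀ z ∈ Cfsg.pCore l G, z = 1) ∨
      ∃ (V : Type u) (_ : CommGroup V) (_ : Finite V) (θ : G →* MulAut V) (B : MulAut V),
      SectionAction σ n r l θ B C Z ∧ ∀ g, θ g = 1 → ∀ z ∈ Cfsg.pCore l G,
        ⁅g, z⁆ ∈ (frattini (Cfsg.pCore l G)).map (Cfsg.pCore l G).subtype := by
    intro l hl hlr
    refine exists_sectionAction hr hr2 hodd hσ hfp hZC hCr ?_ ?_ ?_ (hstab A) (hstab _) hl hlr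
    · intro c hc d hd
      show π ⁅c, d⁆ ∈ CfsgLib.CFun.cen A
      rw [map_commutatorElement]
      exact CfsgLib.CFun.commutator_le_cen_of_classTwo hAA (commutator_mem_commutator hc hd)
    · intro c hc z hz
      refine (QuotientGroup.eq_one_iff _).1 ?_
      show π ⁅c, z⁆ = 1
      rw [map_commutatorElement, commutatorElement_eq_one_iff_commute]
      exact (CfsgLib.CFun.commute_of_mem_cen (hz : π z ∈ CfsgLib.CFun.cen A) hc).symm
    · intro c hc
      show π (c ^ r) ∈ CfsgLib.CFun.cen A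
      rw [map_pow]
      exact hApow _ hc
  -- from trivial action on all modules to membership in the Fitting subgroup
  have hmem : ∀ g ∈ C, (∀ l : ℕ, l.Prime → l ≠ r → ∀ (V : Type u) [CommGroup V] [Finite V]
      (θ : G →* MulAut V) (B : MulAut V), SectionAction σ n r l θ B C Z → θ g = 1) → g ∈ F₁ := by
    intro g hg h
    refine mem_fitting_of_frattini C hCr hg fun l hl hlr z hz => ?_
    rcases hsa hl hlr with h0 | ⟨V, _, _, θ, B, hS, hker⟩
    · rw [h0 z hz, commutatorElement_one_right]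
      exact one_mem _
    · exact hker g (h l hl hlr V θ B hS) z hz
  have hcenA : ∀ g ∈ C, (∀ y ∈ C, ⁅g, y⁆ ∈ F₁) → π g ∈ CfsgLib.CFun.cen A := by
    intro g hg h
    refine Subgroup.mem_inf.2 ⟨hg, mem_centralizer_iff.2 fun a ha => ?_⟩
    obtain ⟨y, rfl⟩ := QuotientGroup.mk'_surjective F₁ a
    have h1 : π ⁅g, y⁆ = 1 := (QuotientGroup.eq_one_iff _).2 (h y ha)
    rw [map_commutatorElement, commutatorElement_eq_one_iff_commute] at h1
    exact h1.eq.symm
  refine ⟨A, hAQ, hAn, hAchar, hfix, ?_, fun x hx c hc => hQA (commutator_mem_commutator hx hc),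
    fun hn => ?_, ?_⟩
  · intro z hz
    obtain ⟨z, rfl⟩ := QuotientGroup.mk'_surjective F₁ z
    have hz' : z ∈ Z := hz
    show ((((σ ^ 2 ^ n) z : G)) : G ⧸ F₁) = (z : G ⧸ F₁)
    rw [eq_comm, QuotientGroup.eq]
    refine hmem _ (mul_mem (inv_mem (hZC hz')) (pow_apply_mem (hstab A) _ _ (hZC hz')))
      fun l hl hlr V _ _ θ B hS => ?_
    haveI := Fact.mk hl
    rw [map_mul, map_inv, hS.socle_centralizes_Z hz', inv_mul_cancel]
  · intro c hc
    obtain ⟨c, rfl⟩ := QuotientGroup.mk'_surjective F₁ c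
    have hc' : c ∈ C := hc
    have hm : c⁻¹ * (σ ^ 2 ^ n) c ∈ C := mul_mem (inv_mem hc') (pow_apply_mem (hstab A) _ _ hc')
    show π (c⁻¹ * (σ ^ 2 ^ n) c) ∈ _
    refine hcenA _ hm fun y hy => ?_
    refine hmem _ ?_ fun l hl hlr V _ _ θ B hS => ?_
    · rw [commutatorElement_def]
      exact mul_mem (mul_mem (mul_mem hm hy) (inv_mem hm)) (inv_mem hy)
    haveI := Fact.mk hl
    exact hS.socle_fix_mod_one hn hc' hy
  · intro q hq hq2 hqr X hXn hXσ hXq x hx c hc
    haveI := hXn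
    obtain ⟨c, rfl⟩ := QuotientGroup.mk'_surjective F₁ c
    have hc' : c ∈ C := hc
    set d := x⁻¹ * (σ ^ 2 ^ n) x
    have hm : ⁅d, c⁆ ∈ C := by
      rw [commutatorElement_def]
      exact mul_mem ((inferInstance : C.Normal).conj_mem c hc' d) (inv_mem hc')
    show ⁅π d, π c⁆ ∈ _
    rw [← map_commutatorElement]
    refine hcenA _ hm fun y hy => ?_
    refine hmem _ ?_ fun l hl hlr V _ _ θ B hS => ?_
    · rw [commutatorElement_def]
      exact mul_mem (mul_mem (mul_mem hm hy) (inv_mem hm)) (inv_mem hy)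
    haveI := Fact.mk hl
    refine hS.commutator_trivial hq hq2 hqr hodd hXσ (fun z hz => ?_) hx hc' hy
    obtain ⟨k, hk⟩ := hXq z hz
    refine ⟨k, fun b hb => ?_⟩
    show π ⁅z ^ q ^ k, b⁆ ∈ CfsgLib.CFun.cen A
    rw [map_commutatorElement]
    -- the Fitting subgroup of the quotient acts trivially modulo the centre
    have hle : Cfsg.fittingSubgroup (G ⧸ F₁) ≤ Q ⊔ centralizer (Q : Set (G ⧸ F₁)) := by
      rw [CfsgLib.Coprime.fitting_eq_iSup_pCore]
      refine iSup_le fun s => ?_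
      by_cases hs : (s : ℕ) = r
      · exact le_sup_of_le_left (hs ▸ le_rfl)
      · refine le_sup_of_le_right fun w hw => mem_centralizer_iff.2 fun v hv => ?_
        haveI : Fact (s : ℕ).Prime := ⟨s.2⟩
        have hd := (CfsgLib.Coprime.pCore_isPGroup (G := G ⧸ F₁) (s : ℕ)).disjoint_of_ne _ _ hs _ _ hQp
        exact (Subgroup.commute_of_normal_of_disjoint _ _
          (CfsgLib.Coprime.pCore_normal' (G := G ⧸ F₁) (s : ℕ)) (inferInstance : Q.Normal) hd w v hw hv).eq.symm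
    have hk2 := hle hk
    rw [← SetLike.mem_coe, Subgroup.normal_mul, Set.mem_mul] at hk2
    obtain ⟨u, hu, w, hw, huw⟩ := hk2
    have e : π (z ^ q ^ k) = u * w := huw.symm
    rw [e, show ⁅u * w, π b⁆ = ⁅u, π b⁆ from by
      have hwb : w * π b * w⁻¹ = π b := by
        rw [(mem_centralizer_iff.1 hw _ (hAQ hb)).symm, mul_inv_cancel_right]
      rw [commutatorElement_def, commutatorElement_def, mul_inv_rev]
      calc u * w * π b * (w⁻¹ * u⁻¹) * (π b)⁻¹ = u * (w * π b * w⁻¹) * u⁻¹ * (π b)⁻¹ := by group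
        _ = _ := by rw [hwb]]
    exact hQA (commutator_mem_commutator hu hb)

/-- For `n = 1` the socle fixes the Fitting subgroup of the quotient. -/
theorem socle_fix_fitting_one (hn : n = 1) :
    ∀ z ∈ Cfsg.fittingSubgroup (G ⧸ Cfsg.fittingSubgroup G),
      ShultGross.quotChar (Cfsg.fittingSubgroup G) (σ ^ 2 ^ n) z = z := by
  classical
  set F₁ := Cfsg.fittingSubgroup G
  set τ' := ShultGross.quotChar F₁ (σ ^ 2 ^ n) with hτ'
  have hodd := ShultGross.not_dvd_card hfp Nat.prime_two hσ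
  have hsq : τ' * τ' = 1 := by rw [hτ', ← map_mul, ← pow_add, ← two_mul, ← pow_succ', hσ, map_one]
  have hle : Cfsg.fittingSubgroup (G ⧸ F₁) ≤ τ'.toMonoidHom.eqLocus (MonoidHom.id _) := by
    rw [CfsgLib.Coprime.fitting_eq_iSup_pCore]
    refine iSup_le fun r => ?_
    haveI : Fact (r : ℕ).Prime := ⟨r.2⟩
    intro x hx
    show τ' x = x
    by_cases hr2 : (r : ℕ) = 2
    · obtain ⟨k, hk⟩ := CfsgLib.Coprime.pCore_isPGroup (G := G ⧸ F₁) (r : ℕ) ⟨_, hx⟩
      have hx1 : x = 1 := by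
        refine orderOf_eq_one_iff.1 (Nat.eq_one_of_dvd_coprimes
          ((Nat.prime_two.coprime_iff_not_dvd.2 hodd).symm.pow_right k)
          ((_root_.orderOf_dvd_natCard _).trans (Subgroup.card_quotient_dvd_card F₁))
          (orderOf_dvd_of_pow_eq_one ?_))
        rw [← hr2]
        exact congrArg Subtype.val hk
      rw [hx1, map_one]
    obtain ⟨A, hAQ, -, hAc, hfix, hcen, -, h1, -⟩ := socle_on_critical hσ hfp r.2 hr2
    set Q := Cfsg.pCore (r : ℕ) (G ⧸ F₁)
    haveI : Q.Characteristic := CfsgLib.Coprime.pCore_characteristic _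
    have hQp : IsPGroup (r : ℕ) Q := CfsgLib.Coprime.pCore_isPGroup _
    have hfixA : ∀ c ∈ A, τ' c = c := by
      intro c hc
      have hzc := h1 hn c hc
      set z := c⁻¹ * τ' c with hz
      have e1 : τ' c = c * z := by rw [hz, mul_inv_cancel_left]
      have e2 : τ' (τ' c) = c := by rw [← MulAut.mul_apply, hsq, MulAut.one_apply]
      rw [e1, map_mul, e1, hcen z hzc, mul_assoc, mul_eq_left, ← sq] at e2
      obtain ⟨k, hk⟩ := hQp ⟨z, hAQ hzc.1⟩
      have hz1 : z = 1 := orderOf_eq_one_iff.1 (Nat.eq_one_of_dvd_coprimes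
        (((Nat.coprime_primes Nat.prime_two r.2).2 (Ne.symm hr2)).pow_right k)
        (orderOf_dvd_of_pow_eq_one e2) (orderOf_dvd_of_pow_eq_one (congrArg Subtype.val hk)))
      rw [e1, hz1, mul_one]
    have hres : ShultGross.resChar Q τ' = 1 := by
      refine hfix _ ?_ fun a ha => Subtype.ext (hfixA _ ha)
      refine Nat.Coprime.coprime_dvd_left (orderOf_dvd_of_pow_eq_one ?_)
        ((Nat.coprime_primes Nat.prime_two r.2).2 (Ne.symm hr2))
      rw [← map_pow, pow_two, hsq, map_one]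
    exact congrArg Subtype.val (DFunLike.congr_fun hres ⟨x, hx⟩)
  exact fun z hz => hle hz

/-- On the third layer the socle acts trivially. -/
theorem inv_mul_mem_comap_fitting {q : ℕ} (hq : q.Prime) (hq2 : q ≠ 2) (X : Subgroup G) [X.Normal]
    (hXσ : ∀ x ∈ X, σ x ∈ X)
    (hXq : ∀ x ∈ X, ∃ k : ℕ, ((x ^ q ^ k : G) : G ⧸ Cfsg.fittingSubgroup G) ∈
      Cfsg.fittingSubgroup (G ⧸ Cfsg.fittingSubgroup G)) :
    ∀ x ∈ X, ((x⁻¹ * (σ ^ 2 ^ n) x : G) : G ⧸ Cfsg.fittingSubgroup G) ∈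
      Cfsg.fittingSubgroup (G ⧸ Cfsg.fittingSubgroup G) := by
  classical
  haveI := Fact.mk hq
  intro x hx
  set F₁ := Cfsg.fittingSubgroup G
  set π := QuotientGroup.mk' F₁
  set F₂ := Cfsg.fittingSubgroup (G ⧸ F₁)
  haveI : F₂.Normal := CfsgLib.Coprime.fitting_normal
  have hodd := ShultGross.not_dvd_card hfp Nat.prime_two hσ
  set d := x⁻¹ * (σ ^ 2 ^ n) x with hd
  have hdX : d ∈ X := mul_mem (inv_mem hx) (pow_apply_mem hXσ _ _ hx)
  haveI : (X.map π).Normal := (inferInstance : X.Normal).map π (QuotientGroup.mk'_surjective F₁)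
  have hX' : ∀ y ∈ X.map π, ∃ k : ℕ, y ^ q ^ k ∈ F₂ := by
    rintro _ ⟨y, hy, rfl⟩
    obtain ⟨k, hk⟩ := hXq y hy
    exact ⟨k, by rw [← map_pow]; exact hk⟩
  obtain ⟨k, hk⟩ := hX' (π d) (mem_map_of_mem π hdX)
  have hk' : QuotientGroup.mk' F₂ (π d) ^ q ^ k = 1 := by
    rw [← map_pow]; exact (QuotientGroup.eq_one_iff _).2 hk
  obtain ⟨h, hh, hhd, hhp⟩ := exists_lift_pElement (QuotientGroup.mk' F₂) (L := zpowers (π d))
    (mem_zpowers _) hk'
  have hhX : h ∈ X.map π := zpowers_le.2 (mem_map_of_mem π hdX) hh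
  have hhF : h ∈ F₂ := by
    refine mem_fitting_of_commute (X.map π) hX' hhX fun r hr hrq w hw => ?_
    haveI := Fact.mk hr
    by_cases hr2 : r = 2
    · obtain ⟨j, hj⟩ := CfsgLib.Coprime.pCore_isPGroup (G := G ⧸ F₁) r ⟨_, hw⟩
      have hw1 : w = 1 := by
        refine orderOf_eq_one_iff.1 (Nat.eq_one_of_dvd_coprimes
          ((Nat.prime_two.coprime_iff_not_dvd.2 hodd).symm.pow_right j)
          ((_root_.orderOf_dvd_natCard _).trans (Subgroup.card_quotient_dvd_card F₁))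
          (orderOf_dvd_of_pow_eq_one ?_))
        rw [← hr2]
        exact congrArg Subtype.val hj
      rw [hw1]
      exact Commute.one_right h
    obtain ⟨A, hAQ, hAn, hAc, hfix, hcen, -, -, htriv⟩ := socle_on_critical hσ hfp hr hr2
    set Q := Cfsg.pCore r (G ⧸ F₁)
    haveI : Q.Normal := CfsgLib.Coprime.pCore_normal' r
    haveI := hAc
    haveI := characteristic_cen A
    set τ' := ShultGross.quotChar F₁ (σ ^ 2 ^ n)
    -- `d` commutes with the centre
    have hdz : ∀ z ∈ CfsgLib.CFun.cen A, Commute (π d) z := by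
      intro z hz
      have hconj := (inferInstance : (CfsgLib.CFun.cen A).Normal).conj_mem z hz (π x)
      have e := hcen _ hconj
      rw [map_mul, map_mul, map_inv, hcen z hz] at e
      have e' : π d = (π x)⁻¹ * τ' (π x) := by
        rw [hd, map_mul, map_inv]; rfl
      rw [e']
      show (π x)⁻¹ * τ' (π x) * z = z * ((π x)⁻¹ * τ' (π x))
      calc (π x)⁻¹ * τ' (π x) * z = (π x)⁻¹ * (τ' (π x) * z * (τ' (π x))⁻¹) * τ' (π x) := by group
        _ = (π x)⁻¹ * (π x * z * (π x)⁻¹) * τ' (π x) := by rw [e]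
        _ = z * ((π x)⁻¹ * τ' (π x)) := by group
    obtain ⟨i, hi⟩ := mem_zpowers_iff.1 hh
    have hhz : ∀ z ∈ CfsgLib.CFun.cen A, Commute h z := fun z hz => hi ▸ (hdz z hz).zpow_left i
    have hhA : ∀ c ∈ A, ⁅h, c⁆ ∈ CfsgLib.CFun.cen A := by
      intro c hc
      have h1 := htriv q hq hq2 hrq.symm X inferInstance hXσ hXq x hx c hc
      refine (QuotientGroup.eq_one_iff _).1 ?_
      show QuotientGroup.mk' (CfsgLib.CFun.cen A) ⁅h, c⁆ = 1
      rw [map_commutatorElement, commutatorElement_eq_one_iff_commute, ← hi, map_zpow]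
      refine Commute.zpow_left ?_ i
      rw [← commutatorElement_eq_one_iff_commute, ← map_commutatorElement]
      exact (QuotientGroup.eq_one_iff _).2 h1
    obtain ⟨j, hj⟩ := hhp ⟨h, mem_zpowers h⟩
    have hj' : h ^ q ^ j = 1 := congrArg Subtype.val hj
    have hfixA : ∀ c ∈ A, h * c * h⁻¹ = c := by
      intro c hc
      set z := ⁅h, c⁆ with hz
      have e0 : h * c * h⁻¹ = z * c := by rw [hz, commutatorElement_def, inv_mul_cancel_right]
      have epow : ∀ m : ℕ, h ^ m * c * (h ^ m)⁻¹ = z ^ m * c := by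
        intro m
        induction m with
        | zero => simp
        | succ m ih =>
          calc h ^ (m + 1) * c * (h ^ (m + 1))⁻¹ = h * (h ^ m * c * (h ^ m)⁻¹) * h⁻¹ := by
                rw [pow_succ']; group
            _ = (h * z ^ m * h⁻¹) * (h * c * h⁻¹) := by rw [ih]; group
            _ = z ^ m * (z * c) := by
                rw [((hhz z (hhA c hc)).pow_right m).eq, mul_inv_cancel_right, e0]
            _ = z ^ (m + 1) * c := by rw [pow_succ, mul_assoc]
      have e1 := epow (q ^ j)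
      rw [hj', one_mul, inv_one, mul_one, right_eq_mul] at e1
      obtain ⟨e, he⟩ := CfsgLib.Coprime.pCore_isPGroup (G := G ⧸ F₁) r ⟨z, hAQ (hhA c hc).1⟩
      have hz1 : z = 1 := orderOf_eq_one_iff.1 (Nat.eq_one_of_dvd_coprimes
        ((((Nat.coprime_primes hq hr).2 hrq.symm).pow_left j).pow_right e)
        (orderOf_dvd_of_pow_eq_one e1) (orderOf_dvd_of_pow_eq_one (congrArg Subtype.val he)))
      rw [e0, hz1, one_mul]
    let φ : MulAut Q := Q.normalizerMonoidHom ⟨h, by rw [normalizer_eq_top]; exact mem_top h⟩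
    have hφ : φ = 1 := by
      refine hfix φ ?_ fun a ha => Subtype.ext (hfixA _ ha)
      refine Nat.Coprime.coprime_dvd_left (orderOf_dvd_of_pow_eq_one ?_)
        (((Nat.coprime_primes hq hr).2 hrq.symm).pow_left j)
      rw [← map_pow]
      convert map_one Q.normalizerMonoidHom
      exact Subtype.ext hj'
    have e : h * w * h⁻¹ = w := by
      have e' : ((φ (⟨w, hw⟩ : Q) : Q) : G ⧸ F₁) = w := by rw [hφ]; rfl
      exact e'
    exact mul_inv_eq_iff_eq_mul.1 e
  refine (QuotientGroup.eq_one_iff (π d)).1 ?_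
  show QuotientGroup.mk' F₂ (π d) = 1
  rw [← hhd]
  exact (QuotientGroup.eq_one_iff h).2 hhF

end Layer

end CfsgLib.PGroup.GrossTwo
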