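import Cfsg.Agent.Lib.PGroup.GrossTwo.Spectrum
import Cfsg.Agent.Lib.PGroup.ShultGross.Centralize
import Cfsg.Agent.Lib.PGroup.HallHighmanFrob
import Cfsg.Agent.Lib.PGroup.PqWeights

/-!
# A `2`-power operator of rank two

If `a ^ 2 ^ (n + 1) = 1`, `n ≥ 1`, and `a - 1` has rank at most two on a faithful module, then
`a ^ 2 ^ n` centralizes every odd group of prime power order in coprime characteristic that `a`
normalizes, unless that prime is `3` and `n = 1`.
-/

set_option autoImplicit false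
set_option linter.style.haveILetI false
set_option linter.unusedSectionVars false
set_option maxHeartbeats 800000

namespace CfsgLib.PGroup.GrossTwo

open CfsgLib.PGroup
open Subgroup
open scoped commutatorElement

universe u v w

variable {H : Type u} [Group H] {k : Type v} [Field k] {W : Type w} [AddCommGroup W] [Module k W]

/-- An operator moving an eigencharacter in an orbit of length above three has rank at least three. -/
theorem three_le_rank [FiniteDimensional k W] (ρ : H →* Module.End k W) {Y : Subgroup H} [Fintype Y]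
    (hk : (Fintype.card Y : k) ≠ 0) {a : H} (haY : a ∈ normalizer (Y : Set H)) {μ : Y →* kˣ} {f : W}
    (hf : IsEigen ρ Y μ f) (hf0 : f ≠ 0) (hfree : ∀ i, i ≤ 3 → i ≠ 0 → a ^ i ∉ charStab Y μ) :
    3 ≤ Module.finrank k (LinearMap.range (ρ a - 1)) := by
  classical
  have hpow : ∀ i : ℕ, a ^ i ∈ normalizer (Y : Set H) := fun i => pow_mem haY i
  let g : ℕ → W := fun i => ρ (a ^ i) f
  have hg0 : ∀ i, g i ≠ 0 := fun i e => hf0 (rep_injective ρ _ (e.trans (map_zero _).symm))
  let P : ℕ → Module.End k W := fun i => eigProj ρ (twist Y (hpow i) μ)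
  have hself : ∀ i, P i (g i) = (Fintype.card Y : k) • g i := fun i =>
    eigProj_self ρ (hf.map ρ (hpow i))
  have hne : ∀ i j, i ≤ 3 → j ≤ 3 → i ≠ j → P i (g j) = 0 := by
    suffices h : ∀ i j, i < j → j ≤ 3 → twist Y (hpow i) μ ≠ twist Y (hpow j) μ by
      intro i j hi hj hij
      refine eigProj_ne ρ (hf.map ρ (hpow j)) ?_
      rcases lt_or_gt_of_ne hij with h1 | h1
      · exact h i j h1 hj
      · exact (h j i h1 hi).symm
    intro i j hij hj e
    obtain ⟨d, rfl⟩ := Nat.exists_eq_add_of_le hij.le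
    rw [twist_congr (pow_add a i d) _ (mul_mem (hpow i) (hpow d)), ← twist_twist (hpow i) (hpow d)] at e
    exact hfree d (by omega) (by omega) ⟨hpow d, (twist_injective (hpow i) e).symm⟩
  let L : (Fin 3 → k) →ₗ[k] W :=
    (ρ a - 1).comp (Fintype.linearCombination k fun i : Fin 3 => g i)
  have hL : ∀ c, L c = (-c 0) • g 0 + (c 0 - c 1) • g 1 + (c 1 - c 2) • g 2 + c 2 • g 3 := by
    intro c
    have e : ∀ i, ρ a (g i) = g (i + 1) := fun i => by
      show ρ a (ρ (a ^ i) f) = ρ (a ^ (i + 1)) f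
      rw [← rep_mul_apply, ← pow_succ']
    simp only [L, LinearMap.comp_apply, Fintype.linearCombination_apply, Fin.sum_univ_three,
      LinearMap.sub_apply, Module.End.one_apply, map_add, map_smul, Fin.val_zero, Fin.val_one,
      Fin.val_two, e, Nat.reduceAdd]
    module
  have hinj : Function.Injective L := by
    rw [injective_iff_map_eq_zero]
    intro c hc
    rw [hL] at hc
    have key : ∀ i, i ≤ 3 → ∀ x : k,
        P i ((-c 0) • g 0 + (c 0 - c 1) • g 1 + (c 1 - c 2) • g 2 + c 2 • g 3) =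
          x • ((Fintype.card Y : k) • g i) → x = 0 := by
      intro i _ x e
      rw [hc, map_zero] at e
      exact ((smul_eq_zero.1 e.symm).resolve_right (smul_ne_zero hk (hg0 i)))
    have h0 : -c 0 = 0 := key 0 (by omega) _ (by
      simp only [map_add, map_smul, hself, hne 0 1 (by omega) (by omega) (by omega),
        hne 0 2 (by omega) (by omega) (by omega), hne 0 3 (by omega) (by omega) (by omega),
        smul_zero, add_zero])
    have h1 : c 0 - c 1 = 0 := key 1 (by omega) _ (by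
      simp only [map_add, map_smul, hself, hne 1 0 (by omega) (by omega) (by omega),
        hne 1 2 (by omega) (by omega) (by omega), hne 1 3 (by omega) (by omega) (by omega),
        smul_zero, add_zero, zero_add])
    have h2 : c 1 - c 2 = 0 := key 2 (by omega) _ (by
      simp only [map_add, map_smul, hself, hne 2 0 (by omega) (by omega) (by omega),
        hne 2 1 (by omega) (by omega) (by omega), hne 2 3 (by omega) (by omega) (by omega),
        smul_zero, add_zero, zero_add])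
    rw [neg_eq_zero] at h0
    rw [h0, zero_sub, neg_eq_zero] at h1
    rw [h1, zero_sub, neg_eq_zero] at h2
    funext i
    fin_cases i <;> assumption
  calc 3 = Module.finrank k (Fin 3 → k) := (Module.finrank_fin_fun k).symm
    _ = Module.finrank k (LinearMap.range L) := (LinearMap.finrank_range_of_inj hinj).symm
    _ ≤ _ := Submodule.finrank_mono (by rintro _ ⟨c, rfl⟩; exact ⟨_, rfl⟩)

/-- Operators commuting up to a root of unity of order `r` need dimension at least `r`. -/
theorem le_finrank_of_comm_root [IsAlgClosed k] [FiniteDimensional k W] [Nontrivial W]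
    (ρ : H →* Module.End k W) {r : ℕ} (hr : r.Prime) {x y : H} {ζ : k} (hζr : ζ ^ r = 1) (hζ : ζ ≠ 1)
    (h : ρ (x * y) = ζ • ρ (y * x)) : r ≤ Module.finrank k W := by
  obtain ⟨c, hc⟩ := Module.End.exists_eigenvalue (ρ x)
  obtain ⟨v, hv⟩ := hc.exists_hasEigenvector
  have hv1 : ρ x v = c • v := hv.apply_eq_smul
  have hc0 : c ≠ 0 := fun e => hv.2 (rep_injective ρ x (by rw [hv1, e, zero_smul, map_zero]))
  let g : ℕ → W := fun i => ρ (y ^ i) v
  have hg : ∀ i, ρ x (g i) = (c * ζ ^ i) • g i := by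
    intro i
    induction i with
    | zero => simp [g, hv1]
    | succ i ih =>
      have e : g (i + 1) = ρ y (g i) := by
        show ρ (y ^ (i + 1)) v = ρ y (ρ (y ^ i) v)
        rw [← rep_mul_apply, ← pow_succ']
      rw [e, ← rep_mul_apply, h, LinearMap.smul_apply, rep_mul_apply, ih, map_smul, smul_smul, pow_succ']
      congr 1
      ring
  have hord : orderOf ζ = r := by
    haveI := Fact.mk hr
    exact orderOf_eq_prime hζr hζ
  have hli : LinearIndependent k (fun i : Fin r => g i) := by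
    refine Module.End.eigenvectors_linearIndependent' (ρ x) (fun i : Fin r => c * ζ ^ (i : ℕ)) ?_ _ ?_
    · intro i j e
      have e' := mul_left_cancel₀ hc0 e
      exact Fin.ext (pow_injOn_Iio_orderOf (by rw [Set.mem_Iio, hord]; exact i.2)
        (by rw [Set.mem_Iio, hord]; exact j.2) e')
    · exact fun i => ⟨Module.End.mem_eigenspace_iff.2 (hg i),
        fun e => hv.2 (rep_injective ρ _ (e.trans (map_zero _).symm))⟩
  simpa using hli.fintype_card_le_finrank

theorem arith_rank_two {N d S C : ℕ} (hN : 4 ≤ N) (hd : 3 ≤ d) (hdS : d ≤ S) (hC : S ≤ C)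
    (hfix : (d - 2) * (d - 2) ≤ S) (h : N * C + 1 ≤ d * d + N) : d ≤ 4 ∧ N ≤ 5 := by
  obtain ⟨e, rfl⟩ : ∃ e, d = e + 3 := ⟨d - 3, by omega⟩
  rw [show e + 3 - 2 = e + 1 by omega] at hfix
  have h1 : N * S + 1 ≤ (e + 3) * (e + 3) + N :=
    le_trans (Nat.add_le_add_right (Nat.mul_le_mul_left N hC) 1) h
  have h2 : N * (e + 3) + 1 ≤ (e + 3) * (e + 3) + N :=
    le_trans (Nat.add_le_add_right (Nat.mul_le_mul_left N hdS) 1) h1
  have h3 : N * ((e + 1) * (e + 1)) + 1 ≤ (e + 3) * (e + 3) + N :=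
    le_trans (Nat.add_le_add_right (Nat.mul_le_mul_left N hfix) 1) h1
  have he : e ≤ 1 := by
    by_contra hlt
    obtain ⟨g, rfl⟩ : ∃ g, e = g + 2 := ⟨e - 2, by omega⟩
    nlinarith [Nat.mul_le_mul_right ((g + 3) * (g + 3) - 1) hN]
  interval_cases e <;> norm_num at * <;> omega

variable [Finite H] [IsAlgClosed k] [FiniteDimensional k W]

/-- The faithful case. -/
theorem centralizes_of_rank_faithful (ρ : H →* Module.End k W) (hinj : Function.Injective ρ) {r n : ℕ}
    (hr : r.Prime) (hr2 : r ≠ 2) (hrk : (r : k) ≠ 0) (h2k : (2 : k) ≠ 0) (hn : 1 ≤ n)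
    (hex : ¬ (r = 3 ∧ n = 1)) (a : H) (ha : a ^ 2 ^ (n + 1) = 1)
    (hrank : Module.finrank k (LinearMap.range (ρ a - 1)) ≤ 2) :
    ∀ (N : ℕ) (R : Subgroup H), Nat.card R ≤ N → IsPGroup r R → a ∈ normalizer (R : Set H) →
      ∀ x ∈ R, a ^ 2 ^ n * x * (a ^ 2 ^ n)⁻¹ = x := by
  classical
  haveI := Fact.mk hr
  have hr3 : 3 ≤ r := by have := hr.two_le; omega
  have h4 : 4 ≤ 2 ^ (n + 1) := by
    calc 4 = 2 ^ 2 := by norm_num
      _ ≤ _ := Nat.pow_le_pow_right (by norm_num) (by omega)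
  intro N
  induction N with
  | zero => exact fun R h => absurd h (Nat.not_le.2 Nat.card_pos)
  | succ N ih =>
  intro R hcard hR haR
  set t := a ^ 2 ^ n with ht
  have htR : t ∈ normalizer (R : Set H) := pow_mem haR _
  have htq : t ^ 2 = 1 := by rw [ht, ← pow_mul, ← pow_succ, ha]
  by_contra hne
  push Not at hne
  obtain ⟨x₁, hx₁, hx₁t⟩ := hne
  have hsub : ∀ S : Subgroup H, S ≤ R → a ∈ normalizer (S : Set H) → S ≠ R →
      ∀ x ∈ S, t * x * t⁻¹ = x := by
    intro S hS haS hSne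
    refine ih S ?_ (hR.to_le hS) haS
    have : Nat.card S < Nat.card R :=
      lt_of_not_ge fun h => hSne (eq_of_le_of_card_ge hS h)
    omega
  have hRcard : ∀ {S : Subgroup H}, S ≤ R → (Nat.card S : k) ≠ 0 := by
    intro S hS
    obtain ⟨e, he⟩ := IsPGroup.iff_card.1 (hR.to_le hS)
    rw [he, Nat.cast_pow]
    exact pow_ne_zero _ hrk
  -- free orbits
  have hfreeN : ∀ {S : Subgroup H}, t ∉ S → ∀ i, i < 2 ^ (n + 1) → i ≠ 0 → a ^ i ∉ S := by
    intro S htS i hi hi0 hmem
    obtain ⟨j, hj, hjm⟩ := ShultGross.exists_pow_prime_mem Nat.prime_two ha hi0 hmem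
    have hjn : j ≤ n := by
      by_contra h
      have := (Nat.pow_le_pow_right (show 0 < 2 by norm_num) (show n + 1 ≤ j by omega)).trans
        (Nat.le_of_dvd (Nat.pos_of_ne_zero hi0) hj)
      omega
    refine htS ?_
    rw [ht, ← Nat.add_sub_cancel' hjn, pow_add, pow_mul]
    exact pow_mem hjm _
  -- `R = [R, t]`
  set T := zpowers t with hT
  have hTR : T ≤ normalizer (R : Set H) := zpowers_le.2 htR
  have hTcard : (Nat.card T).Coprime (Nat.card R) := by
    obtain ⟨e, he⟩ := IsPGroup.iff_card.1 hR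
    rw [hT, Nat.card_zpowers, he]
    exact Nat.Coprime.coprime_dvd_left (orderOf_dvd_of_pow_eq_one htq)
      (((Nat.coprime_primes Nat.prime_two hr).2 hr2.symm).pow_right e)
  have hRsol : Group.IsSolvable R := CfsgLib.Coprime.isSolvable_of_isNilpotent hR.isNilpotent
  have hRT : ⁅R, T⁆ = R := by
    have hle : ⁅R, T⁆ ≤ R := le_normalizer_iff_commutator_le_left.1 hTR
    by_contra h
    have hn : a ∈ normalizer ((⁅R, T⁆ : Subgroup H) : Set H) := by
      rw [mem_normalizer_iff_map_conj_eq, map_commutator, mem_normalizer_iff_map_conj_eq.1 haR]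
      congr 1
      show (zpowers t).map (MulAut.conj a).toMonoidHom = T
      rw [MonoidHom.map_zpowers, show (MulAut.conj a).toMonoidHom t = t from ?_]
      show a * t * a⁻¹ = t
      rw [ht, ← pow_succ', pow_succ, mul_inv_cancel_right]
    have hc := hsub _ hle hn h
    have h2 : ⁅⁅R, T⁆, T⁆ = ⊥ := by
      rw [commutator_eq_bot_iff_le_centralizer]
      intro y hy
      rw [hT, zpowers_eq_closure, centralizer_closure, mem_centralizer_singleton_iff]
      exact (mul_inv_eq_iff_eq_mul.1 (hc y hy)).symm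
    rw [CfsgLib.Coprime.commutator_commutator_eq hTR hTcard (Or.inr hRsol),
      commutator_eq_bot_iff_le_centralizer] at h2
    have h3 := mem_centralizer_iff.1 (h2 hx₁) t (mem_zpowers t)
    exact hx₁t (by rw [h3, mul_inv_cancel_right])
  -- the Frattini subgroup
  set Z : Subgroup R := frattini R with hZ
  set Y : Subgroup H := Z.map R.subtype with hY
  have hYR : Y ≤ R := map_subtype_le _
  have hR1 : R ≠ ⊥ := fun e => hx₁t (by
    rw [e, mem_bot] at hx₁
    rw [hx₁, mul_one, mul_inv_cancel])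
  haveI : Nontrivial R := (nontrivial_iff_ne_bot R).2 hR1
  have hZtop : Z ≠ ⊤ := by
    intro e
    obtain ⟨M, hM, -⟩ := (eq_top_or_exists_le_coatom (⊥ : Subgroup R)).resolve_left bot_ne_top
    exact hM.1 (top_le_iff.1 (e.symm.le.trans (frattini_le_coatom hM)))
  have hYne : Y ≠ R := fun e => hZtop (map_injective R.subtype_injective (by
    rw [← hY, e, ← MonoidHom.range_eq_map, range_subtype]))
  have hnY : normalizer (R : Set H) ≤ normalizer (Y : Set H) := by
    intro g hg
    refine mem_normalizer_fintype ?_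
    rintro _ ⟨y, hy, rfl⟩
    exact ⟨R.normalizerMonoidHom ⟨g, hg⟩ y, characteristic_iff_map_le.1 inferInstance
      (R.normalizerMonoidHom ⟨g, hg⟩) (mem_map_of_mem _ hy), rfl⟩
  have haY : a ∈ normalizer (Y : Set H) := hnY haR
  have hYt : ∀ y ∈ Y, t * y * t⁻¹ = y := hsub Y hYR haY hYne
  have hRY : ⁅R, Y⁆ = ⊥ := by
    conv_lhs => rw [← hRT]
    have hTY : ⁅Y, T⁆ = ⊥ := by
      rw [commutator_eq_bot_iff_le_centralizer]
      intro y hy
      rw [hT, zpowers_eq_closure, centralizer_closure, mem_centralizer_singleton_iff]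
      exact (mul_inv_eq_iff_eq_mul.1 (hYt y hy)).symm
    refine Subgroup.commutator_commutator_eq_bot_of_rotate (H₁ := R) (H₂ := T) (H₃ := Y) ?_ ?_
    · rw [commutator_comm T Y, hTY, commutator_bot_left]
    · rw [eq_bot_iff, ← hTY]
      refine commutator_mono ?_ le_rfl
      exact le_normalizer_iff_commutator_le_left.1 (le_normalizer.trans hnY)
  have hYc : ∀ x ∈ R, ∀ y ∈ Y, Commute x y := fun x hx y hy =>
    (mem_centralizer_iff.1 (commutator_eq_bot_iff_le_centralizer.1 hRY hx) y hy).symm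
  -- the action on `R`
  set σR : MulAut R := R.normalizerMonoidHom ⟨a, haR⟩ with hσR
  have hσ : ∀ (i : ℕ) (x : R), (((σR ^ i) x : R) : H) = a ^ i * x * (a ^ i)⁻¹ := by
    intro i x
    rw [hσR, ← map_pow]
    rfl
  set τ : MulAut R := σR ^ 2 ^ n with hτ
  have hτv : ∀ x : R, ((τ x : R) : H) = t * x * t⁻¹ := fun x => hσ (2 ^ n) x
  have hτZ : ∀ z ∈ Z, τ z = z := fun z hz => Subtype.ext (by
    rw [hτv]; exact hYt _ (mem_map_of_mem _ hz))
  have hZc : ∀ (x : R), ∀ z ∈ Z, x * z = z * x := fun x z hz =>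
    Subtype.ext (hYc x x.2 z (mem_map_of_mem _ hz)).eq
  have hZmap : ∀ (f : MulAut R), ∀ z ∈ Z, f z ∈ Z := fun f z hz =>
    characteristic_iff_map_le.1 inferInstance f (mem_map_of_mem _ hz)
  letI : CommGroup (R ⧸ Z) := { (inferInstance : Group (R ⧸ Z)) with
    mul_comm := fun u v => by
      obtain ⟨x, rfl⟩ := QuotientGroup.mk_surjective u
      obtain ⟨y, rfl⟩ := QuotientGroup.mk_surjective v
      rw [← QuotientGroup.mk_mul, ← QuotientGroup.mk_mul, QuotientGroup.eq]
      have h1 := CfsgLib.Coprime.commutator_le_frattini hR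
        (commutator_mem_commutator (mem_top (y⁻¹)) (mem_top (x⁻¹)))
      rwa [commutatorElement_def, inv_inv, inv_inv,
        show y⁻¹ * x⁻¹ * y * x = (x * y)⁻¹ * (y * x) by group] at h1 }
  let ι : MulAut R →* MulAut (R ⧸ Z) :=
    { toFun := fun f => QuotientGroup.congr Z Z f (eq_of_le_of_card_ge
        (characteristic_iff_map_le.1 inferInstance f) (card_map_of_injective f.injective).ge)
      map_one' := MulEquiv.ext fun v => by
        induction v using QuotientGroup.induction_on with | _ x => rfl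
      map_mul' := fun f g => MulEquiv.ext fun v => by
        induction v using QuotientGroup.induction_on with | _ x => rfl }
  have hι : ∀ (f : MulAut R) (x : R), ι f (x : R ⧸ Z) = ((f x : R) : R ⧸ Z) := fun f x => rfl
  let ψ : R ⧸ Z →* R ⧸ Z :=
    MonoidHom.mk' (fun v => v⁻¹ * ι τ v) fun u v => by
      rw [map_mul, mul_inv, mul_mul_mul_comm]
  have hψ : ∀ x : R, ψ (x : R ⧸ Z) = ((x⁻¹ * τ x : R) : R ⧸ Z) := fun x => rfl
  have hψsurj : Function.Surjective ψ := by
    intro v
    obtain ⟨x, rfl⟩ := QuotientGroup.mk_surjective v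
    have hrange : ∀ (i : ℕ) (u : R ⧸ Z), u⁻¹ * (ι τ ^ i) u ∈ ψ.range := by
      intro i u
      induction i with
      | zero => rw [pow_zero, MulAut.one_apply, inv_mul_cancel]; exact one_mem _
      | succ i hi =>
        rw [show u⁻¹ * (ι τ ^ (i + 1)) u =
          (u⁻¹ * (ι τ ^ i) u) * (((ι τ ^ i) u)⁻¹ * ι τ ((ι τ ^ i) u)) by
            rw [pow_succ', MulAut.mul_apply]; group]
        exact mul_mem hi ⟨_, rfl⟩
    have h1 : ⁅R, T⁆ ≤ (ψ.range.comap (QuotientGroup.mk' Z)).map R.subtype := by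
      rw [commutator_le]
      intro y hy z hz
      obtain ⟨i, hi⟩ := (Submonoid.mem_powers_iff _ _).1
        ((isOfFinOrder_of_finite t).mem_powers_iff_mem_zpowers.2 hz)
      refine ⟨⟨y, hy⟩ * (τ ^ i) ⟨y, hy⟩⁻¹, ?_, ?_⟩
      · rw [SetLike.mem_coe, mem_comap, QuotientGroup.mk'_apply, QuotientGroup.mk_mul, ← hι, map_pow]
        have := hrange i ((⟨y, hy⟩⁻¹ : R) : R ⧸ Z)
        rwa [← QuotientGroup.mk_inv, inv_inv] at this
      · show y * (((τ ^ i) ⟨y, hy⟩⁻¹ : R) : H) = ⁅y, z⁆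
        rw [hτ, ← pow_mul, hσ, pow_mul, ← ht, hi, commutatorElement_def]
        show y * (z * y⁻¹ * z⁻¹) = _
        group
    rw [hRT] at h1
    obtain ⟨x', hx', e⟩ := h1 x.2
    exact (Subtype.ext e : x' = x) ▸ hx'
  have hψinj : Function.Injective ψ := Finite.injective_iff_surjective.2 hψsurj
  have hτfix : ∀ x : R, x⁻¹ * τ x ∈ Z → x ∈ Z := fun x hx => by
    have h1 : ψ (x : R ⧸ Z) = ψ 1 := by rw [hψ, map_one, QuotientGroup.eq_one_iff]; exact hx
    exact (QuotientGroup.eq_one_iff x).1 (hψinj h1)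
  -- invariant subgroups are central or everything
  have hmin : ∀ U : Subgroup R, U ≠ ⊤ → (∀ x ∈ U, σR x ∈ U) → U ≤ Z := by
    intro U hU hUσ x hx
    refine hτfix x ?_
    have hnU : a ∈ normalizer ((U.map R.subtype : Subgroup H) : Set H) := by
      refine mem_normalizer_fintype ?_
      rintro _ ⟨y, hy, rfl⟩
      exact ⟨σR y, hUσ y hy, rfl⟩
    have h1 := hsub _ (map_subtype_le U) hnU (fun e => hU (map_injective R.subtype_injective (by
      rw [e, ← MonoidHom.range_eq_map, range_subtype]))) _ (mem_map_of_mem _ hx)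
    rw [show τ x = x from Subtype.ext (by rw [hτv]; exact h1), inv_mul_cancel]
    exact one_mem Z
  by_cases habel : ∀ x ∈ R, ∀ y ∈ R, x * y = y * x
  · -- abelian image
    haveI := Fintype.ofFinite R
    have hk : (Fintype.card R : k) ≠ 0 := by
      rw [← Nat.card_eq_fintype_card]; exact hRcard le_rfl
    have hcom : ImgComm ρ R := fun x hx y hy => by rw [habel x hx y hy]
    have htx : t⁻¹ * x₁ * t ∈ R := (mem_normalizer_iff''.1 htR x₁).1 hx₁
    have h0 : ρ (t⁻¹ * x₁ * t) - ρ x₁ = 0 := by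
      refine eq_zero_of_forall_eigen ρ hcom hk _ (fun y hy w => ?_) fun μ f hf => ?_
      · rw [LinearMap.sub_apply, LinearMap.sub_apply, map_sub, ← rep_mul_apply, ← rep_mul_apply,
          ← rep_mul_apply, ← rep_mul_apply, habel y hy _ htx, habel y hy _ hx₁]
      by_cases hf0 : f = 0
      · rw [hf0, map_zero]
      have hts : t ∈ charStab R μ := by
        by_contra h
        have := three_le_rank ρ hk haR hf hf0 (fun i hi hi0 => hfreeN h i (by omega) hi0)
        omega
      have h2 := DFunLike.congr_fun ((mem_charStab htR).1 hts) ⟨x₁, hx₁⟩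
      rw [twist_apply] at h2
      rw [LinearMap.sub_apply, show ρ x₁ f = _ from hf ⟨x₁, hx₁⟩,
        show ρ (t⁻¹ * x₁ * t) f = _ from hf ⟨_, htx⟩, h2, sub_self]
    have h2 := hinj (sub_eq_zero.1 h0)
    apply hx₁t
    calc t * x₁ * t⁻¹ = t * (t⁻¹ * x₁ * t) * t⁻¹ := by rw [h2]
      _ = x₁ := by group
  push Not at habel
  obtain ⟨x₀, hx₀, y₀, hy₀, hne₀⟩ := habel
  have hcZ : ∀ x y : R, ⁅x, y⁆ ∈ Z := fun x y =>
    CfsgLib.Coprime.commutator_le_frattini hR (commutator_mem_commutator (mem_top x) (mem_top y))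
  haveI := Fintype.ofFinite Y
  have hYk : (Fintype.card Y : k) ≠ 0 := by
    rw [← Nat.card_eq_fintype_card]; exact hRcard hYR
  have hYi : ImgComm ρ Y := fun y hy z hz => by rw [(hYc y (hYR hy) z hz).eq]
  obtain ⟨χ, f, hf, hfne⟩ : ∃ (χ : Y →* kˣ) (f : W), IsEigen ρ Y χ f ∧
      (ρ ⁅x₀, y₀⁆ - 1) f ≠ 0 := by
    by_contra hc
    push Not at hc
    apply hne₀
    have hz : ⁅x₀, y₀⁆ ∈ Y := ⟨⁅(⟨x₀, hx₀⟩ : R), (⟨y₀, hy₀⟩ : R)⁆, hcZ _ _,
      by simp [commutatorElement_def]⟩
    refine commutatorElement_eq_one_iff_mul_comm.1 (hinj ?_)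
    rw [map_one]
    refine sub_eq_zero.1 (eq_zero_of_forall_eigen ρ hYi hYk _ (fun y hy w => ?_) hc)
    rw [LinearMap.sub_apply, LinearMap.sub_apply, map_sub, Module.End.one_apply, Module.End.one_apply,
      ← rep_mul_apply, ← rep_mul_apply, (hYc _ (hYR hz) y hy).eq]
  have hf0 : f ≠ 0 := fun e => hfne (by rw [e, map_zero])
  set S := charStab Y χ with hS
  have hRS : R ≤ S := fun x hx => commute_mem_charStab χ fun y => hYc x hx y y.2
  set U := eigSpace ρ Y χ with hU
  let σ := subRep ρ U S (eigSpace_invariant ρ)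
  have hσv : ∀ (g : S) (v : U), ((σ g v : U) : W) = ρ (g : H) (v : W) := fun _ _ => rfl
  haveI : Nontrivial U := Submodule.nontrivial_iff_ne_bot.2 fun e => hf0 (by
    have : f ∈ U := hf
    rwa [e, Submodule.mem_bot] at this)
  let ρR : R →* Module.End k U := σ.comp (inclusion hRS)
  have hρR : ∀ (x : R) (v : U), ((ρR x v : U) : W) = ρ (x : H) (v : W) := fun _ _ => rfl
  let χ' : Z →* kˣ := χ.comp (R.subtype.subgroupMap Z)
  have hχ' : ∀ z : Z, ρR (z : R) = (χ' z : k) • 1 := fun z => LinearMap.ext fun v => Subtype.ext (by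
    rw [hρR]; exact v.2 ⟨_, mem_map_of_mem R.subtype z.2⟩)
  have hxy : ∀ x y : R, ρR (x * y) = (χ' ⟨⁅x, y⁆, hcZ x y⟩ : k) • ρR (y * x) := by
    intro x y
    rw [show x * y = ⁅x, y⁆ * (y * x) by rw [commutatorElement_def]; group, map_mul ρR ⁅x, y⁆,
      hχ' ⟨_, hcZ x y⟩, smul_mul_assoc, one_mul]
  -- the radical
  let Rad : Subgroup R :=
    { carrier := {x | ∀ y, ρR (x * y) = ρR (y * x)}
      one_mem' := fun y => by rw [one_mul, mul_one]
      mul_mem' := fun {x x'} hx hx' y => by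
        rw [mul_assoc, map_mul, hx' y, ← map_mul, ← mul_assoc, map_mul, hx y, ← map_mul, mul_assoc]
      inv_mem' := fun {x} hx y => by
        calc ρR (x⁻¹ * y) = ρR x⁻¹ * (ρR (y * x) * ρR x⁻¹) := by
              rw [← map_mul, mul_inv_cancel_right, ← map_mul]
          _ = ρR x⁻¹ * (ρR (x * y) * ρR x⁻¹) := by rw [hx y]
          _ = ρR (y * x⁻¹) := by
              rw [← map_mul, ← map_mul]
              congr 1
              group }
  have hradc : ∀ x, x ∈ Rad ↔ ∀ y, χ' ⟨⁅x, y⁆, hcZ x y⟩ = 1 := by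
    intro x
    refine forall_congr' fun y => ⟨fun h => ?_, fun h => ?_⟩
    · rw [hxy] at h
      have := smul_rep_inj ρR (c := (χ' ⟨⁅x, y⁆, hcZ x y⟩ : k)) (d := 1) (x := y * x) (by rw [one_smul]; exact h)
      exact Units.ext this
    · rw [hxy, h, Units.val_one, one_smul]
  have hZRad : Z ≤ Rad := fun z hz y => by rw [hZc y z hz]
  have hRad0 : (⟨x₀, hx₀⟩ : R) ∉ Rad := by
    intro h
    apply hfne
    have h2 := (hradc _).1 h ⟨y₀, hy₀⟩
    have hz : ⁅x₀, y₀⁆ ∈ Y := ⟨⁅(⟨x₀, hx₀⟩ : R), (⟨y₀, hy₀⟩ : R)⁆, hcZ _ _,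
      by simp [commutatorElement_def]⟩
    rw [LinearMap.sub_apply, Module.End.one_apply, sub_eq_zero, show ρ ⁅x₀, y₀⁆ f = _ from hf ⟨_, hz⟩,
      show χ ⟨_, hz⟩ = 1 from ?_, Units.val_one, one_smul]
    rw [← h2]
    exact congrArg χ (Subtype.ext (map_commutatorElement R.subtype ⟨x₀, hx₀⟩ ⟨y₀, hy₀⟩).symm)
  -- a large invariant subspace
  let y₀' : R := ⟨y₀, hy₀⟩
  let x₀' : R := ⟨x₀, hx₀⟩
  obtain ⟨ζ, hζr, hζ1, hζ⟩ : ∃ ζ : k, ζ ^ r = 1 ∧ ζ ≠ 1 ∧ ρR (x₀' * y₀') = ζ • ρR (y₀' * x₀') := by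
    refine ⟨(χ' ⟨⁅x₀', y₀'⁆, hcZ _ _⟩ : k), ?_, fun e => ?_, hxy _ _⟩
    · have hcx : ∀ x : R, ∀ i : ℕ, χ' ⟨⁅x ^ i, y₀'⁆, hcZ _ _⟩ = χ' ⟨⁅x, y₀'⁆, hcZ _ _⟩ ^ i := by
        intro x i
        induction i with
        | zero =>
          refine Eq.trans ?_ (pow_zero _).symm
          refine Eq.trans (congrArg χ' (Subtype.ext ?_)) (map_one χ')
          show ⁅x ^ 0, y₀'⁆ = 1
          rw [pow_zero, commutatorElement_one_left]
        | succ i ih =>
          rw [pow_succ (χ' _), ← ih, ← map_mul]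
          refine congrArg χ' (Subtype.ext ?_)
          show ⁅x ^ (i + 1), y₀'⁆ = ⁅x ^ i, y₀'⁆ * ⁅x, y₀'⁆
          have h1 : x ^ i * ⁅x, y₀'⁆ = ⁅x, y₀'⁆ * x ^ i := hZc _ _ (hcZ _ _)
          have h2 : ⁅x ^ i, y₀'⁆ * ⁅x, y₀'⁆ = ⁅x, y₀'⁆ * ⁅x ^ i, y₀'⁆ := hZc _ _ (hcZ _ _)
          calc ⁅x ^ (i + 1), y₀'⁆ = x ^ i * ⁅x, y₀'⁆ * (x ^ i)⁻¹ * ⁅x ^ i, y₀'⁆ := by
                rw [pow_succ]; simp only [commutatorElement_def]; group
            _ = ⁅x, y₀'⁆ * ⁅x ^ i, y₀'⁆ := by rw [h1, mul_inv_cancel_right]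
            _ = _ := h2.symm
      have hz : χ' ⟨⁅x₀' ^ r, y₀'⁆, hcZ _ _⟩ = 1 := by
        rw [← map_one χ']
        refine congrArg χ' (Subtype.ext ?_)
        exact commutatorElement_eq_one_iff_mul_comm.2
          (hZc y₀' _ (CfsgLib.Coprime.pow_mem_frattini hR x₀')).symm
      rw [← Units.val_pow_eq_pow_val, ← hcx, hz, Units.val_one]
    · refine hfne ?_
      have hz : ⁅x₀, y₀⁆ ∈ Y := ⟨⁅x₀', y₀'⁆, hcZ _ _, by simp [x₀', y₀', commutatorElement_def]⟩
      rw [LinearMap.sub_apply, Module.End.one_apply, sub_eq_zero, show ρ ⁅x₀, y₀⁆ f = _ from hf ⟨_, hz⟩]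
      have e2 : χ ⟨_, hz⟩ = χ' ⟨⁅x₀', y₀'⁆, hcZ _ _⟩ :=
        congrArg χ (Subtype.ext (map_commutatorElement R.subtype x₀' y₀').symm)
      rw [e2, e, one_smul]
  have hdim : r ≤ Module.finrank k U := le_finrank_of_comm_root ρR hr hζr hζ1 hζ
  have haS : a ∈ S := by
    by_contra haS
    have h1 : ∀ v : U, ρ a (v : W) = v → v = 0 := by
      intro v hv
      by_contra hv0
      have h2 := v.2.map ρ haY
      rw [hv] at h2
      exact haS ⟨haY, IsEigen.unique ρ h2 v.2 (fun e => hv0 (Subtype.ext e))⟩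
    let L : U →ₗ[k] LinearMap.range (ρ a - 1) := (ρ a - 1).rangeRestrict.comp U.subtype
    have hL : Function.Injective L := by
      rw [injective_iff_map_eq_zero]
      intro v hv
      have e : (ρ a - 1) (v : W) = 0 := congrArg Subtype.val hv
      rw [LinearMap.sub_apply, Module.End.one_apply, sub_eq_zero] at e
      exact h1 v e
    have := LinearMap.finrank_le_finrank_of_injective hL
    omega
  set bs : S := ⟨a, haS⟩ with hbs
  have hrankS : ∀ (P : Submodule k U) (hP : ∀ v ∈ P, σ bs v ∈ P),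
      Module.finrank k (LinearMap.range ((σ bs).restrict hP - 1)) ≤ 2 := by
    intro P hP
    let L : LinearMap.range ((σ bs).restrict hP - 1) →ₗ[k] LinearMap.range (ρ a - 1) :=
      ((U.subtype.comp P.subtype).comp (LinearMap.range ((σ bs).restrict hP - 1)).subtype).codRestrict _ (by
        rintro ⟨_, v, rfl⟩
        exact ⟨((v : U) : W), by simp [hσv, hbs]⟩)
    have hL : Function.Injective L := fun v v' e =>
      Subtype.ext (Subtype.ext (Subtype.ext (by have := congrArg Subtype.val e; exact this)))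
    exact (LinearMap.finrank_le_finrank_of_injective hL).trans hrank
  set σE : MulAut R := σR with hσE
  have hσEv : ∀ x : R, ((σE x : R) : H) = a * x * a⁻¹ := fun x => by
    rw [← pow_one σE, hσE, hσ, pow_one]
  have hu : ∀ x : R, σ bs * ρR x = ρR (σE x) * σ bs := fun x => LinearMap.ext fun v => Subtype.ext (by
    rw [Module.End.mul_apply, Module.End.mul_apply, hσv, hρR, hρR, hσv, hσEv, ← rep_mul_apply,
      ← rep_mul_apply, inv_mul_cancel_right])
  have hcan : ∀ {X X' : Module.End k U}, X * σ bs = X' * σ bs → X = X' := fun {X X'} e => by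
    have := congrArg (· * σ bs⁻¹) e
    simpa [mul_assoc, ← map_mul] using this
  have hRadE : ∀ x ∈ Rad, σE x ∈ Rad := by
    intro x hx y
    obtain ⟨y, rfl⟩ := σE.surjective y
    refine hcan ?_
    rw [← map_mul, ← map_mul, ← hu, ← hu, hx y]
  have hRadτ : ∀ x ∈ Rad, τ x ∈ Rad := by
    intro x hx
    have hpow : ∀ i : ℕ, (σE ^ i) x ∈ Rad := fun i => by
      induction i with
      | zero => exact hx
      | succ i hi => rw [pow_succ']; exact hRadE _ hi
    exact hpow (2 ^ n)
  -- every element of the radical is a commutator with `t` modulo `Z`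
  have hRadsurj : ∀ x ∈ Rad, ∃ y ∈ Rad, (y⁻¹ * τ y)⁻¹ * x ∈ Z := by
    intro x hx
    let g : (Rad.map (QuotientGroup.mk' Z)) → (Rad.map (QuotientGroup.mk' Z)) := fun v => ⟨ψ v.1, by
      obtain ⟨y, hy, hyv⟩ := v.2
      exact ⟨y⁻¹ * τ y, mul_mem (inv_mem hy) (hRadτ y hy), by rw [← hyv]; rfl⟩⟩
    have hg : Function.Injective g := fun u v e => Subtype.ext (hψinj (congrArg Subtype.val e))
    obtain ⟨⟨_, y, hy, rfl⟩, e⟩ := Finite.injective_iff_surjective.1 hg ⟨_, mem_map_of_mem _ hx⟩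
    exact ⟨y, hy, QuotientGroup.eq.1 (congrArg Subtype.val e)⟩
  -- the radical acts by scalars
  have hRadscal : ∀ x ∈ Rad, x ∈ scalarSub ρR := by
    intro x hx
    obtain ⟨y, hy, hyz⟩ := hRadsurj x hx
    obtain ⟨z, hzdef⟩ : ∃ z : Z, z = ⟨_, hyz⟩ := ⟨_, rfl⟩
    refine ⟨χ' z, sub_eq_zero.1 ?_⟩
    let Rd : Subgroup S := Rad.map (inclusion hRS)
    haveI := Fintype.ofFinite Rd
    have hRdk : (Fintype.card Rd : k) ≠ 0 := by
      rw [← Nat.card_eq_fintype_card, card_map_of_injective (inclusion_injective hRS),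
        ← card_map_of_injective R.subtype_injective]
      exact hRcard (map_subtype_le _)
    have hRdi : ImgComm σ Rd := by
      rintro _ ⟨u, hu, rfl⟩ _ ⟨v, hv, rfl⟩
      rw [← map_mul, ← map_mul]
      exact hu v
    have hbRd : bs ∈ normalizer (Rd : Set S) := by
      refine mem_normalizer_fintype ?_
      rintro _ ⟨u, hu, rfl⟩
      exact ⟨σE u, hRadE u hu, Subtype.ext (hσEv u)⟩
    refine eq_zero_of_forall_eigen σ hRdi hRdk _ ?_ ?_
    · rintro _ ⟨u, hu, rfl⟩ v
      show (ρR x - (χ' z : k) • 1 : Module.End k U) (ρR u v) = ρR u ((ρR x - (χ' z : k) • 1 : Module.End k U) v)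
      rw [LinearMap.sub_apply, LinearMap.sub_apply, map_sub, LinearMap.smul_apply, LinearMap.smul_apply,
        Module.End.one_apply, Module.End.one_apply, map_smul, ← Module.End.mul_apply,
        ← Module.End.mul_apply, ← map_mul, ← map_mul, hx u]
    intro μ g hg
    by_cases hg0 : g = 0
    · rw [hg0, map_zero]
    have hbsq : bs ^ 2 ^ (n + 1) = 1 := Subtype.ext ha
    have htμ : bs ^ 2 ^ n ∈ charStab Rd μ := by
      by_contra hnot
      have h3 := three_le_rank σ hRdk hbRd hg hg0 (fun i hi hi0 hmem => by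
        obtain ⟨j, hj, hjm⟩ := ShultGross.exists_pow_prime_mem Nat.prime_two hbsq hi0 hmem
        have hj1 : j ≤ n := by
          by_contra h
          have := (Nat.pow_le_pow_right (show 0 < 2 by norm_num) (show n + 1 ≤ j by omega)).trans
            (Nat.le_of_dvd (Nat.pos_of_ne_zero hi0) hj)
          omega
        refine hnot ?_
        rw [← Nat.add_sub_cancel' hj1, pow_add, pow_mul]
        exact pow_mem hjm _)
      let L : LinearMap.range (σ bs - 1) →ₗ[k] LinearMap.range (ρ a - 1) :=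
        (U.subtype.comp (LinearMap.range (σ bs - 1)).subtype).codRestrict _ (by
          rintro ⟨_, v, rfl⟩
          exact ⟨(v : W), by simp [hσv, hbs]⟩)
      have hL : Function.Injective L := fun v v' e =>
        Subtype.ext (Subtype.ext (by have := congrArg Subtype.val e; exact this))
      have := (LinearMap.finrank_le_finrank_of_injective hL).trans hrank
      omega
    obtain ⟨htn, htw⟩ := htμ
    have hyR : inclusion hRS y ∈ Rd := mem_map_of_mem _ hy
    have hτyR : inclusion hRS (τ y) ∈ Rd := mem_map_of_mem _ (hRadτ y hy)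
    have hμ : μ ⟨_, hτyR⟩ = μ ⟨_, hyR⟩ := by
      have e1 := DFunLike.congr_fun htw ⟨_, hτyR⟩
      rw [twist_apply] at e1
      rw [← e1]
      refine congrArg μ (Subtype.ext (Subtype.ext ?_))
      show ((bs ^ 2 ^ n : S) : H)⁻¹ * ((τ y : R) : H) * ((bs ^ 2 ^ n : S) : H) = (y : H)
      rw [SubgroupClass.coe_pow, show ((bs : S) : H) = a from rfl, ← ht, hτv]
      group
    have e1 : σ (inclusion hRS (y⁻¹ * τ y)) g = g := by
      rw [show inclusion hRS (y⁻¹ * τ y) = ((⟨_, hyR⟩⁻¹ * ⟨_, hτyR⟩ : Rd) : S) from by rw [map_mul, map_inv]; rfl,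
        hg, map_mul, map_inv, hμ, inv_mul_cancel, Units.val_one, one_smul]
    have e2 : ρR x g = (χ' z : k) • g := by
      rw [show x = (y⁻¹ * τ y) * (z : R) by rw [hzdef]; group, map_mul, hχ', Module.End.mul_apply,
        LinearMap.smul_apply, Module.End.one_apply, map_smul]
      exact congrArg _ e1
    rw [LinearMap.sub_apply, LinearMap.smul_apply, Module.End.one_apply, e2, sub_self]
  have hsc : scalarSub ρR = Rad := by
    refine le_antisymm (fun x hx y => ?_) hRadscal
    obtain ⟨c, hc⟩ := hx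
    rw [map_mul, map_mul, hc, smul_mul_assoc, one_mul, mul_smul_comm, mul_one]
  have hE : ClassTwo ρR := fun x y => by
    refine ⟨χ' ⟨⁅x, y⁆, hcZ x y⟩, ?_⟩
    rw [← hχ' ⟨⁅x, y⁆, hcZ x y⟩]
    rfl
  have hnd : Nondeg ρR := fun x hx => hRadscal x hx
  have hmk : (Nat.card (ScalarQuot ρR) : k) ≠ 0 := by
    obtain ⟨e, he⟩ := IsPGroup.iff_card.1 hR
    obtain ⟨i, -, hi⟩ := (Nat.dvd_prime_pow hr).1 (he ▸ (scalarSub ρR).card_quotient_dvd_card)
    rw [show Nat.card (ScalarQuot ρR) = r ^ i from hi, Nat.cast_pow]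
    exact pow_ne_zero _ hrk
  have huq : σ bs ^ 2 ^ (n + 1) = 1 := by
    rw [← map_pow, show bs ^ 2 ^ (n + 1) = 1 from Subtype.ext ha, map_one]
  obtain ⟨V, hV, hV0, hVu, hirr⟩ :=
    exists_irred_inv_sub ρR hE hnd hmk (Nat.two_pow_pos (n + 1)) σE (σ bs) huq hu
  haveI : Nontrivial V := Submodule.nontrivial_iff_ne_bot.2 hV0
  set ρV := restrictRep ρR V hV with hρV
  have hsubV : scalarSub ρV = scalarSub ρR := scalarSub_restrictRep ρR hE hnd hV hV0
  let B : Module.End k V := (σ bs).restrict hVu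
  have hBn : ∀ (i : ℕ) (v : V), (((B ^ i) v : V) : U) = (σ bs ^ i) v := by
    intro i
    induction i with
    | zero => intro v; rfl
    | succ i ih =>
      intro v
      rw [pow_succ', Module.End.mul_apply, pow_succ', Module.End.mul_apply, ← ih]
      rfl
  have hBq : B ^ 2 ^ (n + 1) = 1 := LinearMap.ext fun v => Subtype.ext (by rw [hBn, huq]; rfl)
  have hBσ : ∀ x, B * ρV x = ρV (σE x) * B := fun x => LinearMap.ext fun v => Subtype.ext (by
    exact LinearMap.congr_fun (hu x) (v : U))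
  have hσV : ∀ x (c : k), ρV x = c • 1 → ρV (σE x) = c • 1 := by
    intro x c hc
    calc ρV (σE x) = ρV (σE x) * (B * B ^ (2 ^ (n + 1) - 1)) := by
          rw [← pow_succ', Nat.sub_add_cancel Nat.one_le_two_pow, hBq, mul_one]
      _ = B * ρV x * B ^ (2 ^ (n + 1) - 1) := by rw [hBσ, mul_assoc]
      _ = c • (B * B ^ (2 ^ (n + 1) - 1)) := by rw [hc, mul_smul_comm, mul_one, smul_mul_assoc]
      _ = c • 1 := by rw [← pow_succ', Nat.sub_add_cancel Nat.one_le_two_pow, hBq]
  have hiter : ∀ (i : ℕ) (x : R), σE^[i] x = (σR ^ i) x := by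
    intro i x
    induction i with
    | zero => rfl
    | succ i hi => rw [Function.iterate_succ_apply', hi, pow_succ', MulAut.mul_apply]
  have hfr := ShultGross.finrank_commute_le ρV hirr (fun x y => hsubV.symm ▸ hE x y)
    (by
      have hmk' := hmk
      unfold ScalarQuot at hmk' ⊢
      rw [hsubV]; exact hmk')
    Nat.prime_two (m := n) rfl (by rw [Nat.cast_pow, Nat.cast_ofNat]; exact pow_ne_zero _ h2k) σE
    (fun x => by
      rw [hiter]
      refine Subtype.ext ?_
      rw [hσ, ha, one_mul, inv_one, mul_one])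
    hσV B hBσ hBq
    (fun x hx => by
      rw [hsubV, hiter, ← hτ, hsc] at hx
      rw [hsubV, hsc]
      obtain ⟨y, hy, hyz⟩ := hRadsurj _ hx
      have h1 : ψ (x : R ⧸ Z) = ψ (y : R ⧸ Z) := by
        rw [hψ, hψ]; exact (QuotientGroup.eq.2 hyz).symm
      have h2 := QuotientGroup.eq.1 (hψinj h1)
      have h3 := mul_mem hy (inv_mem (hZRad h2))
      rwa [mul_inv_rev, inv_inv, mul_inv_cancel_left] at h3)
    (by rw [hsubV, hsc]; exact fun e => hRad0 (e ▸ mem_top _))
  rw [card_scalarQuot ρV hirr (fun x y => hsubV.symm ▸ hE x y) (by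
    have hmk' := hmk
    unfold ScalarQuot at hmk' ⊢
    rw [hsubV]; exact hmk')] at hfr
  have hdV : r ≤ Module.finrank k V := le_finrank_of_comm_root ρV hr hζr hζ1 (LinearMap.ext fun v =>
    Subtype.ext (LinearMap.congr_fun hζ (v : U)))
  have h1N : 1 < 2 ^ (n + 1) := by omega
  obtain ⟨Sd, hS1, hS2, hS3, -⟩ := exists_dims_forbidden h1N
    (show ((2 ^ (n + 1) : ℕ) : k) ≠ 0 by rw [Nat.cast_pow, Nat.cast_ofNat]; exact pow_ne_zero _ h2k) B hBq
  have hker : Module.finrank k V - 2 ≤ Module.finrank k (LinearMap.ker (B - 1)) := by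
    have := LinearMap.finrank_range_add_finrank_ker (B - 1)
    have := hrankS V hVu
    change Module.finrank k (LinearMap.range (B - 1)) ≤ 2 at this
    omega
  obtain ⟨e1, e2⟩ := arith_rank_two h4 (hr3.trans hdV) hS2 hS1
    ((Nat.mul_le_mul hker hker).trans ((sq _).symm.le.trans hS3)) hfr
  have hr4 : r ≠ 4 := fun e => by rw [e] at hr; norm_num at hr
  refine hex ⟨by omega, ?_⟩
  by_contra hn1
  have := Nat.pow_le_pow_right (show 0 < 2 by norm_num) (show 3 ≤ n + 1 by omega)
  omega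

/-- The form for automorphisms of an elementary abelian group. -/
theorem aut_centralizes_rank_two {V : Type u} [CommGroup V] [Finite V] {p r n : ℕ} [hp : Fact p.Prime]
    (hV : ∀ v : V, v ^ p = 1) (hp2 : p ≠ 2) (hr : r.Prime) (hr2 : r ≠ 2) (hrp : r ≠ p) (hn : 1 ≤ n)
    (hex : ¬ (r = 3 ∧ n = 1)) (A : MulAut V) (hA : A ^ 2 ^ (n + 1) = 1) (F : Subgroup V)
    (hF : ∀ v ∈ F, A v = v) (hidx : F.index ≤ p * p) (D : Subgroup (MulAut V)) (hD : IsPGroup r D)
    (hAD : A ∈ normalizer (D : Set (MulAut V))) : ∀ x ∈ D, A ^ 2 ^ n * x * (A ^ 2 ^ n)⁻¹ = x := by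
  classical
  let k := AlgebraicClosure (ZMod p)
  haveI : CharP k p := charP_of_injective_algebraMap (algebraMap (ZMod p) k).injective p
  obtain ⟨hfd, -⟩ := finrank_addHom (V := V) hV k
  have hcast : ∀ s : ℕ, s.Prime → p ≠ s → (s : k) ≠ 0 := fun s hs hls e =>
    hls ((Nat.prime_dvd_prime_iff_eq hp.out hs).1 ((CharP.cast_eq_zero_iff k p s).1 e))
  let c : MulAut V →* MulAut V := MonoidHom.id _
  have hinj : Function.Injective (dRep k c) := by
    intro x y e
    have h : dRep k c (x⁻¹ * y) = 1 := by rw [map_mul, ← e, ← map_mul, inv_mul_cancel, map_one]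
    exact inv_mul_eq_one.1 (eq_one_of_dRep (l := p) hV c h)
  have hVF : ∀ v : V ⧸ F, v ^ p = 1 := fun v => by
    obtain ⟨w, rfl⟩ := QuotientGroup.mk_surjective v
    rw [← QuotientGroup.mk_pow, hV, QuotientGroup.mk_one]
  obtain ⟨hfd', hcard⟩ := finrank_addHom (V := V ⧸ F) hVF k
  have hle : Module.finrank k (Additive (V ⧸ F) →+ k) ≤ 2 := by
    refine (Nat.pow_le_pow_iff_right hp.out.one_lt).1 ?_
    rw [← hcard, ← index_eq_card, sq]
    exact hidx
  let Φ : (Additive (V ⧸ F) →+ k) →ₗ[k] (Additive V →+ k) :=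
    { toFun := fun g => g.comp (MonoidHom.toAdditive (QuotientGroup.mk' F))
      map_add' := fun _ _ => rfl
      map_smul' := fun _ _ => rfl }
  have hrange : LinearMap.range (dRep k c A - 1) ≤ LinearMap.range Φ := by
    rintro _ ⟨f, rfl⟩
    set g : Additive V →+ k := (dRep k c A - 1 : Module.End k (Additive V →+ k)) f with hg
    let g' : V →* Multiplicative k :=
      MonoidHom.mk' (fun v => Multiplicative.ofAdd (g (Additive.ofMul v))) fun v w => by
        rw [ofMul_mul, map_add, ofAdd_add]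
    have hker : F ≤ g'.ker := by
      intro v hv
      rw [MonoidHom.mem_ker]
      show Multiplicative.ofAdd (g (Additive.ofMul v)) = 1
      rw [ofAdd_eq_one, hg, LinearMap.sub_apply, Module.End.one_apply]
      show dRep k c A f (Additive.ofMul v) - f (Additive.ofMul v) = 0
      rw [dRep_apply, sub_eq_zero]
      refine congrArg (fun w => f (Additive.ofMul w)) ?_
      show A⁻¹ v = v
      conv_lhs => rw [← hF v hv]
      exact MulAut.inv_apply_self _ A v
    refine ⟨MonoidHom.toAdditiveLeft (QuotientGroup.lift F g' hker), AddMonoidHom.ext fun v => rfl⟩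
  have hrank : Module.finrank k (LinearMap.range (dRep k c A - 1)) ≤ 2 :=
    (Submodule.finrank_mono hrange).trans ((LinearMap.finrank_range_le Φ).trans hle)
  exact centralizes_of_rank_faithful (dRep k c) hinj hr hr2 (hcast r hr hrp.symm)
    (by exact_mod_cast hcast 2 Nat.prime_two hp2) hn hex A hA hrank _ D le_rfl hD hAD

end CfsgLib.PGroup.GrossTwo
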