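import Cfsg.Agent.Lib.PGroup.GrossTwo.Dichotomy
import Cfsg.Agent.Lib.PGroup.GrossTwo.RankTwo
import Cfsg.Agent.Lib.PGroup.ShultGross.Main

/-!
# Commutators with the socle act trivially

`σ` is fixed-point-free of order dividing `2 ^ (n + 1)`, `τ = σ ^ 2 ^ n`, and `C` is a class two
section with centre `Z` acting on a coprime module `V`.
-/

set_option autoImplicit false
set_option linter.style.haveILetI false
set_option linter.unusedSectionVars false
set_option maxHeartbeats 800000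

namespace CfsgLib.PGroup.GrossTwo

open CfsgLib.PGroup
open Subgroup
open scoped commutatorElement

universe u

variable {G : Type u} [Group G] [Finite G]

/-- The setting: a module `V` and a class two section on it. -/
structure SectionAction (σ : MulAut G) (n r l : ℕ) {V : Type u} [CommGroup V] (θ : G →* MulAut V)
    (A : MulAut V) (C Z : Subgroup G) : Prop where
  primeR : r.Prime
  oddR : r ≠ 2
  primeL : l.Prime
  oddL : l ≠ 2
  ne : r ≠ l
  exponent : ∀ v : V, v ^ l = 1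
  pow : A ^ 2 ^ (n + 1) = 1
  equiv : ∀ g, θ (σ g) = A * θ g * A⁻¹
  noFixed : ∀ v : V, A v = v → v = 1
  fpf : ∀ g, σ g = g → g = 1
  isR : IsPGroup r (C.map θ)
  le : Z ≤ C
  cen : ∀ c ∈ C, ∀ z ∈ Z, Commute (θ c) (θ z)
  comm : ∀ c ∈ C, ∀ d ∈ C, ⁅c, d⁆ ∈ Z
  powMem : ∀ c ∈ C, c ^ r ∈ Z
  stableC : ∀ c ∈ C, σ c ∈ C
  stableZ : ∀ z ∈ Z, σ z ∈ Z

variable {σ : MulAut G} {n r l : ℕ} {V : Type u} [CommGroup V] [Finite V] {θ : G →* MulAut V}
  {A : MulAut V} {C Z : Subgroup G}

namespace SectionAction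

variable (hS : SectionAction σ n r l θ A C Z)
include hS

theorem pair : ClassTwoPair (C.map θ) (Z.map θ) where
  le := map_mono hS.le
  cen := by
    rintro _ ⟨c, hc, rfl⟩ _ ⟨z, hz, rfl⟩
    exact hS.cen c hc z hz
  comm := by
    rintro _ ⟨c, hc, rfl⟩ _ ⟨d, hd, rfl⟩
    rw [← map_commutatorElement]
    exact mem_map_of_mem θ (hS.comm c hc d hd)

theorem pow_mem_Z : ∀ x ∈ C.map θ, x ^ r ∈ Z.map θ := by
  rintro _ ⟨c, hc, rfl⟩
  rw [← map_pow]
  exact mem_map_of_mem θ (hS.powMem c hc)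

theorem mem_normalizer_map {D : Subgroup G} (hD : ∀ d ∈ D, σ d ∈ D) :
    A ∈ normalizer ((D.map θ : Subgroup (MulAut V)) : Set (MulAut V)) := by
  refine mem_normalizer_fintype ?_
  rintro _ ⟨y, hy, rfl⟩
  exact ⟨σ y, hD y hy, hS.equiv y⟩

theorem fpfZ : ∀ z ∈ Z.map θ, A * z * A⁻¹ = z → z = 1 := by
  rintro _ ⟨y, hy, rfl⟩ e
  rw [← hS.equiv] at e
  have hker : ∀ g ∈ θ.ker, σ g ∈ θ.ker := fun g hg => by
    rw [MonoidHom.mem_ker] at hg ⊢
    rw [hS.equiv, hg, mul_one, mul_inv_cancel]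
  exact ShultGross.mem_of_fpf hS.fpf θ.ker hker (show y⁻¹ * σ y ∈ θ.ker by
    rw [MonoidHom.mem_ker, map_mul, map_inv, e, inv_mul_cancel])

theorem equiv_pow (i : ℕ) (g : G) : θ ((σ ^ i) g) = A ^ i * θ g * (A ^ i)⁻¹ := by
  induction i with
  | zero => simp
  | succ i ih => rw [pow_succ', MulAut.mul_apply, hS.equiv, ih, pow_succ']; group

end SectionAction

/-- The algebraic closure used for the module. -/
abbrev closureField (l : ℕ) [Fact l.Prime] : Type := AlgebraicClosure (ZMod l)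

variable [hl : Fact l.Prime]

/-- The dual representation. -/
noncomputable abbrev dualRep (V : Type u) [CommGroup V] (l : ℕ) [Fact l.Prime] :
    MulAut V →* Module.End (closureField l) (Additive V →+ closureField l) :=
  dRep (closureField l) (MonoidHom.id (MulAut V))

theorem castNe {s : ℕ} (hs : s.Prime) (hls : l ≠ s) : (s : closureField l) ≠ 0 := fun e => by
  haveI : CharP (closureField l) l :=
    charP_of_injective_algebraMap (algebraMap (ZMod l) (closureField l)).injective l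
  exact hls ((Nat.prime_dvd_prime_iff_eq hl.out hs).1 ((CharP.cast_eq_zero_iff _ l s).1 e))

namespace SectionAction

variable (hS : SectionAction σ n r l θ A C Z)
include hS

theorem dual_noFixed : ∀ f : Additive V →+ closureField l, dualRep V l A f = f → f = 0 := by
  intro f hf
  refine AddMonoidHom.ext fun w => ?_
  have hsurj : Function.Surjective fun v : V => v⁻¹ * A v := by
    refine Finite.injective_iff_surjective.1 fun v v' e => ?_
    have h1 : A (v' * v⁻¹) = v' * v⁻¹ := by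
      have e' : A v' = v' * (v⁻¹ * A v) := by rw [show v⁻¹ * A v = v'⁻¹ * A v' from e, mul_inv_cancel_left]
      rw [map_mul, map_inv, e']
      group
    exact (mul_inv_eq_one.1 (hS.noFixed _ h1)).symm
  obtain ⟨v, hv⟩ := hsurj w.toMul
  have hv' : v⁻¹ * A v = w.toMul := hv
  obtain rfl : w = Additive.ofMul (v⁻¹ * A v) := by rw [hv']; rfl
  rw [ofMul_mul, ofMul_inv, map_add, map_neg, AddMonoidHom.zero_apply, neg_add_eq_zero]
  have h2 := DFunLike.congr_fun hf (Additive.ofMul (A v))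
  rw [dRep_apply] at h2
  rw [← h2]
  show f (Additive.ofMul v) = f (Additive.ofMul (A⁻¹ (A v)))
  rw [MulAut.inv_apply_self]

theorem finiteDimensional : FiniteDimensional (closureField l) (Additive V →+ closureField l) :=
  (finrank_addHom hS.exponent (closureField l)).1

theorem card_ne_zero {S : Subgroup (MulAut V)} (h : S ≤ C.map θ) [Fintype S] :
    (Fintype.card S : closureField l) ≠ 0 := by
  haveI := Fact.mk hS.primeR
  obtain ⟨e, he⟩ := IsPGroup.iff_card.1 (hS.isR.to_le h)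
  rw [← Nat.card_eq_fintype_card, he, Nat.cast_pow]
  exact pow_ne_zero _ (castNe hS.primeR hS.ne.symm)

theorem imgComm_Z : ImgComm (dualRep V l) (Z.map θ) := fun y hy z hz => by
  rw [(hS.pair.cen y (map_mono hS.le hy) z hz).eq]

/-- The socle fixes every eigencharacter. -/
theorem socle_fix [Fintype (Z.map θ)] {χ : Z.map θ →* (closureField l)ˣ}
    {f : Additive V →+ closureField l} (hf : IsEigen (dualRep V l) (Z.map θ) χ f) (hf0 : f ≠ 0) :
    A ^ 2 ^ n ∈ charStab (Z.map θ) χ :=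
  socle_mem_charStab (dualRep V l) (hS.card_ne_zero (map_mono hS.le)) Nat.prime_two hS.pow
    (hS.mem_normalizer_map hS.stableZ) hS.dual_noFixed hf hf0

/-- The socle centralizes the centre. -/
theorem socle_centralizes_Z {z : G} (hz : z ∈ Z) : θ ((σ ^ 2 ^ n) z) = θ z := by
  classical
  haveI := hS.finiteDimensional
  haveI := Fintype.ofFinite (Z.map θ)
  set ρ := dualRep V l
  set t := A ^ 2 ^ n
  have hzm : θ z ∈ Z.map θ := mem_map_of_mem θ hz
  have htm : t ∈ normalizer ((Z.map θ : Subgroup (MulAut V)) : Set (MulAut V)) :=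
    pow_mem (hS.mem_normalizer_map hS.stableZ) _
  have hzt : t * θ z * t⁻¹ ∈ Z.map θ := (mem_normalizer_iff.1 htm _).1 hzm
  have h0 : ρ (t * θ z * t⁻¹) - ρ (θ z) = 0 := by
    refine eq_zero_of_forall_eigen ρ hS.imgComm_Z (hS.card_ne_zero (map_mono hS.le)) _
      (fun y hy w => ?_) fun μ f hf => ?_
    · rw [LinearMap.sub_apply, LinearMap.sub_apply, map_sub, ← rep_mul_apply, ← rep_mul_apply,
        ← rep_mul_apply, ← rep_mul_apply, hS.imgComm_Z _ hzt y hy, hS.imgComm_Z _ hzm y hy]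
    by_cases hf0 : f = 0
    · rw [hf0, map_zero]
    have h2 := DFunLike.congr_fun ((mem_charStab htm).1 (hS.socle_fix hf hf0)) ⟨_, hzt⟩
    rw [twist_apply] at h2
    rw [LinearMap.sub_apply, show ρ (θ z) f = _ from hf ⟨_, hzm⟩,
      show ρ (t * θ z * t⁻¹) f = _ from hf ⟨_, hzt⟩, sub_eq_zero]
    congr 2
    refine h2.symm.trans (congrArg μ (Subtype.ext ?_))
    show t⁻¹ * (t * θ z * t⁻¹) * t = θ z
    group
  rw [hS.equiv_pow]
  have h1 : ρ ((θ z)⁻¹ * (t * θ z * t⁻¹)) = 1 := by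
    rw [map_mul, (sub_eq_zero (a := ρ (t * θ z * t⁻¹)) (b := ρ (θ z))).1 h0, ← map_mul, inv_mul_cancel, map_one]
  exact (inv_mul_eq_one.1 (eq_one_of_dRep (l := l) hS.exponent (MonoidHom.id (MulAut V)) h1)).symm

/-- Elements with trivial pairing commute with `C` on the module. -/
theorem commutator_eq_one {u y : G} (hu : u ∈ C) (hy : y ∈ C)
    (h : ∀ (χ : Z.map θ →* (closureField l)ˣ) (f : Additive V →+ closureField l),
      IsEigen (dualRep V l) (Z.map θ) χ f → f ≠ 0 →
      hS.pair.pairing χ ⟨θ u, mem_map_of_mem θ hu⟩ = 1) :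
    θ ⁅u, y⁆ = 1 := by
  classical
  haveI := hS.finiteDimensional
  haveI := Fintype.ofFinite (Z.map θ)
  set ρ := dualRep V l
  have hm : θ ⁅u, y⁆ ∈ Z.map θ := mem_map_of_mem θ (hS.comm u hu y hy)
  have h0 : ρ (θ ⁅u, y⁆) - 1 = 0 := by
    refine eq_zero_of_forall_eigen ρ hS.imgComm_Z (hS.card_ne_zero (map_mono hS.le)) _
      (fun z hz w => ?_) fun μ f hf => ?_
    · rw [LinearMap.sub_apply, LinearMap.sub_apply, map_sub, Module.End.one_apply, Module.End.one_apply,
        ← rep_mul_apply, ← rep_mul_apply, hS.imgComm_Z _ hm z hz]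
    by_cases hf0 : f = 0
    · rw [hf0, map_zero]
    have h2 := DFunLike.congr_fun (h μ f hf hf0) ⟨θ y, mem_map_of_mem θ hy⟩
    rw [ClassTwoPair.pairing_apply, MonoidHom.one_apply] at h2
    rw [LinearMap.sub_apply, show ρ (θ ⁅u, y⁆) f = _ from hf ⟨_, hm⟩, Module.End.one_apply, sub_eq_zero,
      show μ ⟨_, hm⟩ = 1 from (congrArg μ (Subtype.ext (map_commutatorElement θ u y))).trans h2,
      Units.val_one, one_smul]
  exact eq_one_of_dRep (l := l) hS.exponent (MonoidHom.id (MulAut V))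
    ((sub_eq_zero (a := ρ (θ ⁅u, y⁆)) (b := 1)).1 h0)

/-- The case `n = 1`: the socle centralizes the section modulo its centre. -/
theorem socle_fix_mod_one (hn : n = 1) {c y : G} (hc : c ∈ C) (hy : y ∈ C) :
    θ ⁅c⁻¹ * (σ ^ 2 ^ n) c, y⁆ = 1 := by
  classical
  haveI := hS.finiteDimensional
  haveI := Fintype.ofFinite (Z.map θ)
  have hσn : ∀ i : ℕ, ∀ x ∈ C, (σ ^ i) x ∈ C := fun i => by
    induction i with
    | zero => exact fun x hx => hx
    | succ i ih => exact fun x hx => by rw [pow_succ']; exact hS.stableC _ (ih x hx)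
  refine hS.commutator_eq_one (mul_mem (inv_mem hc) (hσn _ _ hc)) hy fun χ f hf hf0 => ?_
  rcases dichotomy (dualRep V l) hS.primeR hS.oddR (castNe hS.primeR hS.ne.symm)
    (by exact_mod_cast castNe (l := l) Nat.prime_two hS.oddL) hS.pow hS.dual_noFixed hS.isR hS.pair
    hS.pow_mem_Z (hS.mem_normalizer_map hS.stableC) (hS.mem_normalizer_map hS.stableZ) hS.fpfZ hf hf0
    with h | ⟨j, m, h1, h2, h3, -⟩
  · have e := h ⟨θ c, mem_map_of_mem θ hc⟩
    rw [show (⟨θ (c⁻¹ * (σ ^ 2 ^ n) c), mem_map_of_mem θ (mul_mem (inv_mem hc) (hσn _ _ hc))⟩ :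
        C.map θ) = ⟨θ c, mem_map_of_mem θ hc⟩⁻¹ *
          (C.map θ).normalizerMonoidHom ⟨A ^ 2 ^ n, pow_mem (hS.mem_normalizer_map hS.stableC) _⟩
            ⟨θ c, mem_map_of_mem θ hc⟩ from Subtype.ext (by
      show θ (c⁻¹ * (σ ^ 2 ^ n) c) = (θ c)⁻¹ * (A ^ 2 ^ n * θ c * (A ^ 2 ^ n)⁻¹)
      rw [map_mul, map_inv, hS.equiv_pow]), map_mul, map_inv, e]
    exact MonoidHom.ext fun y => inv_mul_cancel _
  · omega

/-- Commutators of a `q`-section with the socle act trivially on `C` modulo the centre. -/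
theorem commutator_trivial {q : ℕ} (hq : q.Prime) (hq2 : q ≠ 2) (hqr : q ≠ r)
    (hodd : ¬ 2 ∣ Nat.card G) {X : Subgroup G} [X.Normal] [C.Normal] [Z.Normal]
    (hXσ : ∀ x ∈ X, σ x ∈ X) (hXq : ∀ x ∈ X, ∃ k : ℕ, ∀ c ∈ C, ⁅x ^ q ^ k, c⁆ ∈ Z) {x c y : G}
    (hx : x ∈ X) (hc : c ∈ C) (hy : y ∈ C) :
    θ ⁅⁅x⁻¹ * (σ ^ 2 ^ n) x, c⁆, y⁆ = 1 := by
  classical
  haveI := hS.finiteDimensional
  haveI := Fintype.ofFinite (Z.map θ)
  haveI := Fact.mk hS.primeR
  set d := x⁻¹ * (σ ^ 2 ^ n) x with hd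
  have hdc : ⁅d, c⁆ ∈ C := by
    rw [commutatorElement_def]
    exact mul_mem ((inferInstance : C.Normal).conj_mem c hc d) (inv_mem hc)
  refine hS.commutator_eq_one hdc hy fun χ f hf hf0 => ?_
  set ρ := dualRep V l
  let R : Subgroup (MulAut V) := C.map θ
  let Zl : Subgroup (MulAut V) := Z.map θ
  let P := hS.pair.pairing χ
  set t := A ^ 2 ^ n with ht
  let S := charStab Zl χ
  have haR := hS.mem_normalizer_map hS.stableC
  have hGR : ∀ g : G, θ g ∈ normalizer ((R : Subgroup (MulAut V)) : Set (MulAut V)) := fun g => by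
    refine mem_normalizer_fintype ?_
    rintro _ ⟨z, hz, rfl⟩
    exact ⟨g * z * g⁻¹, (inferInstance : C.Normal).conj_mem z hz g, by rw [map_mul, map_mul, map_inv]⟩
  have hGZ : ∀ g : G, θ g ∈ normalizer ((Zl : Subgroup (MulAut V)) : Set (MulAut V)) := fun g => by
    refine mem_normalizer_fintype ?_
    rintro _ ⟨z, hz, rfl⟩
    exact ⟨g * z * g⁻¹, (inferInstance : Z.Normal).conj_mem z hz g, by rw [map_mul, map_mul, map_inv]⟩
  have htS : t ∈ S := hS.socle_fix hf hf0
  -- `θ d` fixes the character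
  have hθτ : θ ((σ ^ 2 ^ n) x) = t * θ x * t⁻¹ := hS.equiv_pow _ _
  have htt : t * t = 1 := by rw [ht, ← pow_add, ← two_mul, ← pow_succ', hS.pow]
  have htinv : t⁻¹ = t := inv_eq_of_mul_eq_one_left htt
  set δ := θ d with hδ
  have hδe : δ = (θ x)⁻¹ * t * θ x * t⁻¹ := by
    rw [hδ, hd, map_mul, map_inv, hθτ]; group
  have hδS : δ ∈ S := by
    rw [hδe]
    refine mul_mem ?_ (inv_mem htS)
    refine mem_charStab_twist (hGZ x) ?_
    exact hS.socle_fix (hf.map ρ (hGZ x)) fun e => hf0 (rep_injective ρ _ (e.trans (map_zero _).symm))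
  have htδ : t * δ * t⁻¹ = δ⁻¹ := by
    rw [hδe]
    simp only [htinv]
    calc t * ((θ x)⁻¹ * t * θ x * t) * t = t * (θ x)⁻¹ * t * θ x * (t * t) := by group
      _ = t * (θ x)⁻¹ * t * θ x := by rw [htt, mul_one]
      _ = ((θ x)⁻¹ * t⁻¹ * θ x * t⁻¹)⁻¹ := by group
      _ = ((θ x)⁻¹ * t * θ x * t)⁻¹ := by rw [htinv]
  -- the quotient by the radical
  let K : Subgroup R := P.ker
  haveI : K.Normal := MonoidHom.normal_ker P
  letI : CommGroup (R ⧸ K) := { (inferInstance : Group (R ⧸ K)) with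
    mul_comm := fun u v => by
      obtain ⟨a, rfl⟩ := QuotientGroup.mk_surjective u
      obtain ⟨b, rfl⟩ := QuotientGroup.mk_surjective v
      rw [← QuotientGroup.mk_mul, ← QuotientGroup.mk_mul, QuotientGroup.eq, MonoidHom.mem_ker, map_mul,
        map_inv, map_mul, map_mul]
      exact MonoidHom.ext fun w => by
        show (P a w * P b w)⁻¹ * (P b w * P a w) = 1
        rw [mul_comm (P b w), inv_mul_cancel] }
  let Γ : Subgroup (MulAut V) := normalizer (R : Set (MulAut V)) ⊓ S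
  have hΓN : ∀ g : Γ, (g : MulAut V) ∈ normalizer (R : Set (MulAut V)) := fun g => (Subgroup.mem_inf.1 g.2).1
  let conjR : Γ →* MulAut R :=
    (R.normalizerMonoidHom).comp (inclusion (inf_le_left : Γ ≤ normalizer (R : Set (MulAut V))))
  have hconj : ∀ (g : Γ) (a b : R), P (conjR g a) (conjR g b) = P a b := fun g =>
    hS.pair.pairing_conj χ (hΓN g) (Subgroup.mem_inf.1 g.2).2
  have hKg : ∀ g : Γ, K.map (conjR g).toMonoidHom = K := fun g => by
    refine eq_of_le_of_card_ge ?_ (card_map_of_injective (conjR g).injective).ge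
    rintro _ ⟨a, ha, rfl⟩
    refine MonoidHom.mem_ker.2 (MonoidHom.ext fun b => ?_)
    obtain ⟨b, rfl⟩ := (conjR g).surjective b
    show P (conjR g a) (conjR g b) = 1
    rw [hconj, MonoidHom.mem_ker.1 ha, MonoidHom.one_apply]
  let Φ : Γ →* MulAut (R ⧸ K) :=
    { toFun := fun g => QuotientGroup.congr K K (conjR g) (hKg g)
      map_one' := MulEquiv.ext fun v => by
        induction v using QuotientGroup.induction_on with
        | _ a =>
          show (((conjR 1) a : R) : R ⧸ K) = (a : R ⧸ K)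
          rw [map_one]; rfl
      map_mul' := fun g g' => MulEquiv.ext fun v => by
        induction v using QuotientGroup.induction_on with
        | _ a =>
          show (((conjR (g * g')) a : R) : R ⧸ K) = ((conjR g (conjR g' a) : R) : R ⧸ K)
          rw [map_mul]; rfl }
  have hΦ : ∀ (g : Γ) (a : R), Φ g (a : R ⧸ K) = ((conjR g a : R) : R ⧸ K) := fun g a => rfl
  have hΦ1 : ∀ g : Γ, (∀ a : R, P (conjR g a) = P a) → Φ g = 1 := fun g hg => MulEquiv.ext fun v => by
    induction v using QuotientGroup.induction_on with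
    | _ a =>
      rw [hΦ, MulAut.one_apply, QuotientGroup.eq, MonoidHom.mem_ker, map_mul, map_inv, hg]
      exact MonoidHom.ext fun _ => inv_mul_cancel _
  let δ' : Γ := ⟨δ, Subgroup.mem_inf.2 ⟨hGR d, hδS⟩⟩
  let t' : Γ := ⟨t, Subgroup.mem_inf.2 ⟨pow_mem haR _, htS⟩⟩
  -- the two cases give the same relation
  have key : Φ (t' * δ' * t'⁻¹) = Φ δ' := by
    rcases dichotomy ρ hS.primeR hS.oddR (castNe hS.primeR hS.ne.symm)
      (by exact_mod_cast castNe (l := l) Nat.prime_two hS.oddL) hS.pow hS.dual_noFixed hS.isR hS.pair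
      hS.pow_mem_Z haR (hS.mem_normalizer_map hS.stableZ) hS.fpfZ hf hf0
      with h | ⟨j, m, h1, -, hm, hr, hbS, hb, hidx⟩
    · rw [map_mul, map_mul, map_inv, hΦ1 t' fun a => h a, one_mul, inv_one, mul_one]
    let b : Γ := ⟨A ^ 2 ^ j, Subgroup.mem_inf.2 ⟨pow_mem haR _, hbS⟩⟩
    have hbt : b ^ 2 ^ m = t' := Subtype.ext (by
      show (A ^ 2 ^ j) ^ 2 ^ m = t
      rw [ht, ← pow_mul, ← pow_add, ← h1])
    let D₀ : Subgroup Γ := (X.map θ).subgroupOf Γ
    let F₀ : Subgroup R := fixedMod P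
      (R.normalizerMonoidHom ⟨A ^ 2 ^ n, pow_mem haR _⟩)
    have hKF : K ≤ F₀ := by
      intro a ha
      rw [mem_fixedMod, MonoidHom.mem_ker.1 ha]
      refine MonoidHom.ext fun w => ?_
      obtain ⟨w, rfl⟩ := (conjR t').surjective w
      show P (conjR t' a) (conjR t' w) = 1
      rw [hconj, MonoidHom.mem_ker.1 ha, MonoidHom.one_apply]
    have hcen := aut_centralizes_rank_two (V := R ⧸ K) (p := r) (r := q) (n := m)
      (fun v => by
        obtain ⟨a, rfl⟩ := QuotientGroup.mk_surjective v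
        rw [← QuotientGroup.mk_pow, QuotientGroup.eq_one_iff]
        exact MonoidHom.mem_ker.2 (hS.pair.pairing_eq_one_of_mem χ (hS.pow_mem_Z _ a.2)))
      hS.oddR hq hq2 hqr hm
      (fun hc => hqr (by rw [hc.2] at hr; omega))
      (Φ b) (by
        rw [← map_pow, show b ^ 2 ^ (m + 1) = 1 from Subtype.ext (by
          show (A ^ 2 ^ j) ^ 2 ^ (m + 1) = 1
          rw [← pow_mul, ← pow_add, show j + (m + 1) = n + 1 by omega, hS.pow]), map_one])
      (F₀.map (QuotientGroup.mk' K))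
      (by
        rintro _ ⟨a, ha, rfl⟩
        show ((conjR b a : R) : R ⧸ K) = (a : R ⧸ K)
        rw [QuotientGroup.eq, MonoidHom.mem_ker, map_mul, map_inv,
          show P (conjR b a) = P a from hb a (mem_fixedMod.1 ha)]
        exact MonoidHom.ext fun _ => inv_mul_cancel _)
      (by
        rw [index_map_eq _ (QuotientGroup.mk'_surjective K) (by rw [QuotientGroup.ker_mk']; exact hKF)]
        exact hidx)
      (D₀.map Φ)
      (by
        rintro ⟨_, g, hg, rfl⟩
        obtain ⟨z, hz, hzg⟩ := mem_subgroupOf.1 hg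
        obtain ⟨k, hk⟩ := hXq z hz
        refine ⟨k, Subtype.ext ?_⟩
        rw [SubgroupClass.coe_pow, OneMemClass.coe_one, ← map_pow]
        refine hΦ1 _ fun a => ?_
        obtain ⟨a₀, ha₀, ha₀e⟩ := a.2
        have e : conjR (g ^ q ^ k) a =
            ⟨θ ⁅z ^ q ^ k, a₀⁆, map_mono hS.le (mem_map_of_mem θ (hk a₀ ha₀))⟩ * a := Subtype.ext (by
          show (g : MulAut V) ^ q ^ k * (a : MulAut V) * ((g : MulAut V) ^ q ^ k)⁻¹ =
            θ ⁅z ^ q ^ k, a₀⁆ * (a : MulAut V)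
          rw [← hzg, ← ha₀e, ← map_pow, map_commutatorElement, commutatorElement_def, inv_mul_cancel_right])
        rw [e, map_mul, hS.pair.pairing_eq_one_of_mem χ (mem_map_of_mem θ (hk a₀ ha₀))]
        exact MonoidHom.ext fun _ => one_mul _)
      (by
        refine mem_normalizer_fintype ?_
        rintro _ ⟨g, hg, rfl⟩
        refine ⟨b * g * b⁻¹, ?_, by rw [map_mul, map_mul, map_inv]⟩
        have hb' := pow_mem (hS.mem_normalizer_map hXσ) (2 ^ j)
        exact mem_subgroupOf.2 ((mem_normalizer_iff.1 hb' _).1 (mem_subgroupOf.1 hg)))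
      (Φ δ') (mem_map_of_mem Φ (mem_subgroupOf.2 (mem_map_of_mem θ (by
        rw [hd]
        refine mul_mem (inv_mem hx) ?_
        generalize 2 ^ n = i
        induction i with
        | zero => exact hx
        | succ i ih => rw [pow_succ']; exact hXσ _ ih))))
    rw [← map_pow, hbt, ← map_inv, ← map_mul, ← map_mul] at hcen
    exact hcen
  -- an inverted element of odd order
  have hinv : t' * δ' * t'⁻¹ = δ'⁻¹ := Subtype.ext htδ
  rw [hinv, map_inv, inv_eq_iff_mul_eq_one, ← sq] at key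
  have hodd' : Odd (orderOf (Φ δ')) := by
    rw [← Nat.not_even_iff_odd, even_iff_two_dvd]
    refine fun h2 => hodd (h2.trans ((orderOf_map_dvd Φ δ').trans ?_))
    rw [← Subgroup.orderOf_coe δ']
    exact (orderOf_map_dvd θ d).trans (_root_.orderOf_dvd_natCard d)
  have hδ1 : Φ δ' = 1 := by
    refine orderOf_eq_one_iff.1 (Nat.eq_one_of_dvd_coprimes ?_ dvd_rfl (orderOf_dvd_of_pow_eq_one key))
    exact Nat.coprime_two_right.2 hodd'
  have h2 := DFunLike.congr_fun hδ1 ((⟨θ c, mem_map_of_mem θ hc⟩ : R) : R ⧸ K)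
  rw [hΦ, MulAut.one_apply, eq_comm, QuotientGroup.eq, MonoidHom.mem_ker, map_mul, map_inv,
    inv_mul_eq_one] at h2
  have e : (⟨θ ⁅d, c⁆, mem_map_of_mem θ hdc⟩ : R) =
      conjR δ' ⟨θ c, mem_map_of_mem θ hc⟩ * ⟨θ c, mem_map_of_mem θ hc⟩⁻¹ := Subtype.ext (by
    show θ ⁅d, c⁆ = δ * θ c * δ⁻¹ * (θ c)⁻¹
    rw [map_commutatorElement, commutatorElement_def])
  rw [e, map_mul, map_inv, ← h2]
  exact MonoidHom.ext fun _ => mul_inv_cancel _

end SectionAction

end CfsgLib.PGroup.GrossTwo
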