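import Cfsg.Agent.Lib.PGroup.GrossTwo.PairSupport
import Cfsg.Agent.Lib.PGroup.GrossTwo.Action
import Cfsg.Agent.Lib.PGroup.ModularB.PLength
import Cfsg.Agent.Lib.PGroup.MaxPNilpotent
import Cfsg.Agent.Lib.LocalStructure.Basic

/-!
# The socle of a `2`-element with small support lies in `O_{2',2}`

`M` is a soluble normal subgroup of a linear group in characteristic different from two, `b` has order
dividing `2 ^ (m + 1)`, `m ≥ 1`, its socle has support of dimension at most two and `b` is trivial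
where its socle is.  Then the socle lies in `O_{2',2}(M)`.
-/

set_option autoImplicit false
set_option linter.style.haveILetI false
set_option linter.unusedSectionVars false
set_option maxHeartbeats 800000

namespace CfsgLib.PGroup.GrossTwo

open CfsgLib.PGroup
open Subgroup
open scoped commutatorElement

universe u v w

variable {k : Type v} [Field k] [IsAlgClosed k] {W : Type w} [AddCommGroup W] [Module k W]
  [FiniteDimensional k W]

/-- The linear form. -/
theorem socle_mem_step {N : Type u} [Group N] [Finite N] (ρ : N →* Module.End k W)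
    (hinj : Function.Injective ρ) (h2k : (2 : k) ≠ 0) (M : Subgroup N) [M.Normal]
    (hM : Group.IsSolvable M) {b : N} {m : ℕ} (hm : 1 ≤ m) (hb : b ^ 2 ^ (m + 1) = 1)
    (hz : b ^ 2 ^ m ∈ M) (hfix : ∀ w, ρ (b ^ 2 ^ m) w = w → ρ b w = w)
    (hrank : Module.finrank k (LinearMap.range (ρ (b ^ 2 ^ m) - 1)) ≤ 2) :
    (⟨b ^ 2 ^ m, hz⟩ : M) ∈ stepP 2 (Cfsg.pPrimeCore 2 M) := by
  classical
  haveI : Fact (Nat.Prime 2) := ⟨Nat.prime_two⟩
  set O := Cfsg.pPrimeCore 2 M
  haveI : O.Characteristic := CfsgLib.Coprime.pPrimeCore_characteristic 2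
  haveI hOn : O.Normal := inferInstance
  have hbot : Cfsg.pPrimeCore 2 (M ⧸ O) = ⊥ := CfsgLib.Coprime.pPrimeCore_quotient_eq_bot Nat.prime_two
  haveI := hM
  haveI hsQ : Group.IsSolvable (M ⧸ O) := Group.isSolvable_of_surjective (QuotientGroup.mk'_surjective O)
  obtain ⟨Φ, hΦ, V, hV, hVel, hCV, -, hmap, hback⟩ :=
    ModularB.exists_reduced (MaxPNilpotent.isPSolvable_of_solvable Nat.prime_two _ (M ⧸ O) rfl hsQ) hbot
  set X : Subgroup M := stepP 2 O with hX
  haveI : X.Characteristic := characteristic_comap_mk (CfsgLib.Coprime.pCore_characteristic 2)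
  haveI : X.Normal := inferInstance
  have hbp : IsPGroup 2 (zpowers b) := by
    rintro ⟨x, hx⟩
    obtain ⟨i, rfl⟩ := mem_zpowers_iff.1 hx
    refine ⟨m + 1, Subtype.ext ?_⟩
    rw [SubgroupClass.coe_pow, OneMemClass.coe_one, ← zpow_natCast, ← zpow_mul, mul_comm, zpow_mul,
      zpow_natCast, hb, one_zpow]
  obtain ⟨T, hT⟩ := hbp.exists_le_sylow
  have hbT : b ∈ (T : Subgroup N) := hT (mem_zpowers b)
  obtain ⟨R, hR⟩ := CfsgLib.LS.sylow_inf_normal T M
  let zM : M := ⟨b ^ 2 ^ m, hz⟩
  set π := QuotientGroup.mk' O with hπ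
  set ψ := QuotientGroup.mk' Φ with hψ
  show π zM ∈ Cfsg.pCore 2 (M ⧸ O)
  refine hback _ (hCV (mem_centralizer_iff.2 fun w hw => ?_))
  obtain ⟨q, rfl⟩ := QuotientGroup.mk'_surjective Φ w
  have hq : q ∈ Cfsg.pCore 2 (M ⧸ O) := hback q hw
  have hqR := CfsgLib.Coprime.pCore_le_sylow (R.mapSurjective (QuotientGroup.mk'_surjective O)) hq
  rw [Sylow.coe_mapSurjective] at hqR
  obtain ⟨e, he, rfl⟩ := hqR
  have heT : (e : N) ∈ (T : Subgroup N) := by
    have h1 := mem_map_of_mem M.subtype he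
    rw [hR] at h1
    exact h1.1
  suffices hs : ψ (π (e * zM * e⁻¹ * zM⁻¹)) = 1 by
    simp only [map_mul, map_inv] at hs
    rw [mul_inv_eq_one, mul_inv_eq_iff_eq_mul] at hs
    exact hs
  let ρT : (T : Subgroup N) →* Module.End k W := ρ.comp (T : Subgroup N).subtype
  have hρT : Function.Injective ρT := hinj.comp Subtype.val_injective
  rcases conj_eq_or_commute ρT hρT T.2 h2k hm (b := ⟨b, hbT⟩) (Subtype.ext hb) hfix hrank ⟨e, heT⟩
    with h | h
  · have h' : (e : N) * b ^ 2 ^ m * (e : N)⁻¹ = b ^ 2 ^ m := congrArg Subtype.val h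
    rw [show e * zM * e⁻¹ * zM⁻¹ = 1 from Subtype.ext (by
      show (e : N) * b ^ 2 ^ m * (e : N)⁻¹ * (b ^ 2 ^ m)⁻¹ = 1
      rw [h', mul_inv_cancel]), map_one, map_one]
  · have h' : Commute b ((e : N) * b * (e : N)⁻¹) := congrArg Subtype.val h
    let c : M := e * MulAut.conjNormal b e⁻¹
    have hce : (c : N) = (e : N) * b * (e : N)⁻¹ * b⁻¹ := by
      show (e : N) * ((MulAut.conjNormal b e⁻¹ : M) : N) = _
      rw [MulAut.conjNormal_apply, Subgroup.coe_inv]
      group
    have hcp : c ^ 2 ^ m = e * zM * e⁻¹ * zM⁻¹ := Subtype.ext (by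
      rw [SubgroupClass.coe_pow, hce, h'.symm.inv_right.mul_pow, conj_pow, inv_pow]
      rfl)
    have heX : e ∈ X := hq
    have hcX : c ∈ X :=
      mul_mem heX (CfsgLib.CFun.mem_of_map_conj (MulAut.conjNormal b : MulAut M) (inv_mem heX))
    have hcV : ψ (π c) ∈ V := hmap (mem_map_of_mem ψ hcX)
    rw [← hcp, map_pow, map_pow, show m = m - 1 + 1 by omega, pow_succ', pow_mul, hVel.2 _ hcV, one_pow]

/-- The form for automorphisms of an elementary abelian group. -/
theorem socle_mem_step_aut {V : Type u} [CommGroup V] [Finite V] {r : ℕ} [hr : Fact r.Prime] (hr2 : r ≠ 2)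
    (hV : ∀ v : V, v ^ r = 1) (M : Subgroup (MulAut V)) (hM : Group.IsSolvable M) {B : MulAut V}
    (hBM : B ∈ normalizer (M : Set (MulAut V))) {m : ℕ} (hm : 1 ≤ m) (hB : B ^ 2 ^ (m + 1) = 1)
    (hz : B ^ 2 ^ m ∈ M) (F : Subgroup V) (hidx : F.index ≤ r * r) (hF : ∀ v ∈ F, B v = v)
    (hFz : ∀ v, (B ^ 2 ^ m) v = v → v ∈ F) :
    (⟨⟨B ^ 2 ^ m, le_normalizer hz⟩, mem_subgroupOf.2 hz⟩ :
        M.subgroupOf (normalizer (M : Set (MulAut V)))) ∈
      stepP 2 (Cfsg.pPrimeCore 2 (M.subgroupOf (normalizer (M : Set (MulAut V))))) := by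
  classical
  let k := AlgebraicClosure (ZMod r)
  haveI : CharP k r := charP_of_injective_algebraMap (algebraMap (ZMod r) k).injective r
  obtain ⟨hfd, -⟩ := finrank_addHom (V := V) hV k
  have h2k : (2 : k) ≠ 0 := fun e => hr2 ((Nat.prime_dvd_prime_iff_eq hr.out Nat.prime_two).1
    ((CharP.cast_eq_zero_iff k r 2).1 (by exact_mod_cast e)))
  let c : MulAut V →* MulAut V := MonoidHom.id _
  set N := normalizer (M : Set (MulAut V))
  let ρ : N →* Module.End k (Additive V →+ k) := (dRep k c).comp N.subtype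
  have hinj : Function.Injective ρ := by
    intro x y e
    have h : dRep k c ((x : MulAut V)⁻¹ * y) = 1 := by
      have e' : dRep k c (x : MulAut V) = dRep k c (y : MulAut V) := e
      rw [map_mul, ← e', ← map_mul, inv_mul_cancel, map_one]
    exact Subtype.ext (inv_mul_eq_one.1 (eq_one_of_dRep (l := r) hV c h))
  have hρ : ∀ (x : N) (f : Additive V →+ k) (v : V),
      ρ x f (Additive.ofMul v) = f (Additive.ofMul ((x : MulAut V)⁻¹ v)) := fun x f v => rfl
  haveI hMs : Group.IsSolvable (M.subgroupOf N) :=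
    haveI := hM
    Group.isSolvable_of_surjective (f := (subgroupOfEquivOfLe (le_normalizer : M ≤ N)).symm.toMonoidHom)
      (MulEquiv.surjective _)
  have hVF : ∀ v : V ⧸ F, v ^ r = 1 := fun v => by
    obtain ⟨w, rfl⟩ := QuotientGroup.mk_surjective v
    rw [← QuotientGroup.mk_pow, hV, QuotientGroup.mk_one]
  obtain ⟨hfd', hcard⟩ := finrank_addHom (V := V ⧸ F) hVF k
  have hle : Module.finrank k (Additive (V ⧸ F) →+ k) ≤ 2 := by
    refine (Nat.pow_le_pow_iff_right hr.out.one_lt).1 ?_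
    rw [← hcard, ← index_eq_card, sq]
    exact hidx
  let Φ : (Additive (V ⧸ F) →+ k) →ₗ[k] (Additive V →+ k) :=
    { toFun := fun g => g.comp (MonoidHom.toAdditive (QuotientGroup.mk' F))
      map_add' := fun _ _ => rfl
      map_smul' := fun _ _ => rfl }
  let bN : N := ⟨B, hBM⟩
  set z := B ^ 2 ^ m with hzdef
  have hzz : z * z = 1 := by rw [hzdef, ← pow_add, ← two_mul, ← pow_succ', hB]
  have hzN : ((bN ^ 2 ^ m : N) : MulAut V) = z := rfl
  have hfixF : ∀ v, v ∈ F → z v = v := by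
    intro v hv
    rw [hzdef]
    generalize 2 ^ m = i
    induction i with
    | zero => rfl
    | succ i ih => rw [pow_succ', MulAut.mul_apply, ih, hF v hv]
  have hzi : z⁻¹ = z := inv_eq_of_mul_eq_one_left hzz
  have hrange : LinearMap.range (ρ (bN ^ 2 ^ m) - 1) ≤ LinearMap.range Φ := by
    rintro _ ⟨f, rfl⟩
    set g : Additive V →+ k := (ρ (bN ^ 2 ^ m) - 1 : Module.End k (Additive V →+ k)) f with hg
    let g' : V →* Multiplicative k :=
      MonoidHom.mk' (fun v => Multiplicative.ofAdd (g (Additive.ofMul v))) fun v w => by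
        rw [ofMul_mul, map_add, ofAdd_add]
    have hker : F ≤ g'.ker := by
      intro v hv
      rw [MonoidHom.mem_ker]
      show Multiplicative.ofAdd (g (Additive.ofMul v)) = 1
      rw [ofAdd_eq_one, hg, LinearMap.sub_apply, Module.End.one_apply, AddMonoidHom.sub_apply, hρ, hzN,
        hzi, hfixF v hv, sub_self]
    exact ⟨MonoidHom.toAdditiveLeft (QuotientGroup.lift F g' hker), AddMonoidHom.ext fun v => rfl⟩
  refine socle_mem_step ρ hinj h2k (M.subgroupOf N) hMs (b := bN) hm (Subtype.ext hB) _ ?_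
    ((Submodule.finrank_mono hrange).trans ((LinearMap.finrank_range_le Φ).trans hle))
  -- the operator is trivial where its socle is
  intro f hf
  refine AddMonoidHom.ext fun v => ?_
  induction v using Additive.rec with
  | _ v =>
  show ρ bN f (Additive.ofMul v) = f (Additive.ofMul v)
  rw [hρ]
  have hfz : ∀ u, f (Additive.ofMul (z u)) = f (Additive.ofMul u) := fun u => by
    have h1 := DFunLike.congr_fun hf (Additive.ofMul u)
    rwa [hρ, hzN, hzi] at h1
  have hBz : Commute B⁻¹ z := (Commute.refl B).inv_left.pow_right _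
  have hfix : B⁻¹ (v * z v) = v * z v := by
    have h0 : z (v * z v) = v * z v := by
      rw [map_mul, ← MulAut.mul_apply, hzz, MulAut.one_apply, mul_comm]
    have h1 := hF _ (hFz _ h0)
    conv_lhs => rw [← h1]
    exact MulAut.inv_apply_self _ B _
  have h2 : f (Additive.ofMul (B⁻¹ (v * z v))) = f (Additive.ofMul (v * z v)) := by rw [hfix]
  rw [map_mul, show B⁻¹ (z v) = z (B⁻¹ v) from DFunLike.congr_fun hBz.eq v, ofMul_mul, ofMul_mul, map_add,
    map_add, hfz, hfz, ← two_mul, ← two_mul] at h2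
  exact mul_left_cancel₀ h2k h2

end CfsgLib.PGroup.GrossTwo
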