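import Cfsg.Agent.Lib.PGroup.GrossTwo.DichotomyUnipotent
import Cfsg.Agent.Lib.PGroup.GrossTwo.SocleStep
import Cfsg.Agent.Lib.PGroup.GrossTwo.Section
import Cfsg.Agent.Lib.PGroup.ModularB.DoubleLength

/-!
# Gross's bound on the `2`-length

A finite soluble group in which the `2`-elements have order dividing `2 ^ e`, `e ≥ 1`, has `2`-length at
most `2 e - 1`.
-/

set_option autoImplicit false
set_option linter.style.haveILetI false
set_option linter.unusedSectionVars false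
set_option maxHeartbeats 800000

namespace CfsgLib.PGroup.GrossTwo

open CfsgLib.PGroup
open Subgroup
open scoped commutatorElement

universe u v w

variable {H : Type u} [Group H] [Finite H] {k : Type v} [Field k] [IsAlgClosed k] [CharP k 2]
  {W : Type w} [AddCommGroup W] [Module k W] [FiniteDimensional k W] (ρ : H →* Module.End k W)

theorem card_ne_zero_of_odd {r : ℕ} [hr : Fact r.Prime] (hr2 : r ≠ 2) {A : Subgroup H}
    (hA : IsPGroup r A) [Fintype A] : (Fintype.card A : k) ≠ 0 := by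
  obtain ⟨e, he⟩ := IsPGroup.iff_card.1 hA
  rw [← Nat.card_eq_fintype_card, he, Nat.cast_pow]
  exact pow_ne_zero _ fun e => hr2
    ((Nat.prime_dvd_prime_iff_eq Nat.prime_two hr.out).1 ((CharP.cast_eq_zero_iff k 2 r).1 e)).symm

/-- The socle of a `2`-element of deficient degree centralizes a normal abelian group of odd order. -/
theorem socle_centralizes_abelian (hinj : Function.Injective ρ) {r n : ℕ} [hr : Fact r.Prime]
    (hr2 : r ≠ 2) {y : H} (hy : y ^ 2 ^ (n + 1) = 1) (hdeg : (ρ y - 1) ^ (2 ^ (n + 1) - 1) = 0)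
    {Z : Subgroup H} (hZ : IsPGroup r Z) (hyZ : y ∈ normalizer (Z : Set H))
    (hZc : ∀ a ∈ Z, ∀ b ∈ Z, a * b = b * a) : y ^ 2 ^ n ∈ centralizer (Z : Set H) := by
  classical
  haveI : Fact (Nat.Prime 2) := ⟨Nat.prime_two⟩
  haveI := Fintype.ofFinite Z
  have hk := card_ne_zero_of_odd (k := k) hr2 hZ
  set t := y ^ 2 ^ n with ht
  have htm : t ∈ normalizer (Z : Set H) := pow_mem hyZ _
  have hi : ImgComm ρ Z := fun a ha b hb => by rw [hZc a ha b hb]
  refine mem_centralizer_iff.2 fun z hz => ?_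
  have hzt : t * z * t⁻¹ ∈ Z := (mem_normalizer_iff.1 htm _).1 hz
  have h0 : ρ (t * z * t⁻¹) - ρ z = 0 := by
    refine eq_zero_of_forall_eigen ρ hi hk _ (fun a ha w => ?_) fun μ f hf => ?_
    · rw [LinearMap.sub_apply, LinearMap.sub_apply, map_sub, ← rep_mul_apply, ← rep_mul_apply,
        ← rep_mul_apply, ← rep_mul_apply, hZc _ hzt a ha, hZc _ hz a ha]
    by_cases hf0 : f = 0
    · rw [hf0, map_zero]
    have hts : t ∈ charStab Z μ := by
      by_contra hts
      refine ModularB.sub_one_pow_free ρ hk hyZ hf hf0 (fun i hi hi0 hmem => hts ?_)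
        (by rw [hdeg, LinearMap.zero_apply])
      obtain ⟨j, hj, hjm⟩ := ShultGross.exists_pow_prime_mem Nat.prime_two hy hi0 hmem
      have hjn : j ≤ n := by
        by_contra h
        have := (Nat.pow_le_pow_right (show 0 < 2 by norm_num) (show n + 1 ≤ j by omega)).trans
          (Nat.le_of_dvd (Nat.pos_of_ne_zero hi0) hj)
        omega
      rw [ht, ← Nat.add_sub_cancel' hjn, pow_add, pow_mul]
      exact pow_mem hjm _
    have h2 := DFunLike.congr_fun ((mem_charStab htm).1 hts) ⟨_, hzt⟩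
    rw [twist_apply] at h2
    rw [LinearMap.sub_apply, show ρ z f = _ from hf ⟨_, hz⟩,
      show ρ (t * z * t⁻¹) f = _ from hf ⟨_, hzt⟩, sub_eq_zero]
    congr 2
    refine h2.symm.trans (congrArg μ (Subtype.ext ?_))
    show t⁻¹ * (t * z * t⁻¹) * t = z
    group
  have h1 := hinj ((sub_eq_zero (a := ρ (t * z * t⁻¹)) (b := ρ z)).1 h0)
  exact (mul_inv_eq_iff_eq_mul.1 h1).symm

/-- An element of order dividing two in the odd core is trivial. -/
theorem eq_one_of_mem_pPrimeCore_two {G : Type*} [Group G] [Finite G] {x : G}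
    (hx : x ∈ Cfsg.pPrimeCore 2 G) (h : x ^ 2 = 1) : x = 1 := by
  refine orderOf_eq_one_iff.1 (Nat.eq_one_of_dvd_coprimes
    (CfsgLib.Coprime.pPrimeCore_coprime (G := G) Nat.prime_two) ?_ (orderOf_dvd_of_pow_eq_one h))
  rw [← Subgroup.orderOf_mk x hx]
  exact orderOf_dvd_natCard _

/-- For one eigencharacter of the centre the normal closure of a socle acts on the pairing with a
normal `2`-complement. -/
theorem exists_core_character [Group.IsSolvable H] {r n : ℕ} [hr : Fact r.Prime] (hr2 : r ≠ 2)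
    (hexp : ∀ y : H, IsPGroup 2 (zpowers y) →
      y ^ 2 ^ (n + 1) = 1 ∧ (ρ y - 1) ^ (2 ^ (n + 1) - 1) = 0)
    {A Z : Subgroup H} [A.Normal] [Z.Normal] (hA : IsPGroup r A) (hP : ClassTwoPair A Z)
    (hpow : ∀ x ∈ A, x ^ r ∈ Z) {y₀ : H} (hy₀ : IsPGroup 2 (zpowers y₀))
    (hMZ : normalClosure ({y₀ ^ 2 ^ n} : Set H) ≤ centralizer (Z : Set H)) {χ : Z →* kˣ} {f : W}
    (hf : IsEigen ρ Z χ f) (hf0 : f ≠ 0) :
    ∃ O : Subgroup (normalClosure ({y₀ ^ 2 ^ n} : Set H)), O.Normal ∧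
      (∀ m, m ^ 2 ^ Nat.card H ∈ O) ∧
      ∀ g ∈ O, g ^ 2 = 1 → ∀ c : A, hP.pairing χ ⟨(g : H) * c * (g : H)⁻¹,
        (inferInstance : A.Normal).conj_mem _ c.2 _⟩ = hP.pairing χ c := by
  classical
  haveI : Fact (Nat.Prime 2) := ⟨Nat.prime_two⟩
  set M := normalClosure ({y₀ ^ 2 ^ n} : Set H) with hM
  let Γ : Subgroup H := charStab Z χ
  have hMΓ : M ≤ Γ := fun x hx =>
    commute_mem_charStab χ fun z => (mem_centralizer_iff.1 (hMZ hx) z z.2).symm
  have hΓN : ∀ g : Γ, (g : H) ∈ normalizer (A : Set H) := fun g => by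
    rw [normalizer_eq_top]; exact mem_top _
  let P := hP.pairing χ
  let K : Subgroup A := P.ker
  haveI : K.Normal := MonoidHom.normal_ker P
  letI : CommGroup (A ⧸ K) := { (inferInstance : Group (A ⧸ K)) with
    mul_comm := fun u v => by
      obtain ⟨a, rfl⟩ := QuotientGroup.mk_surjective u
      obtain ⟨b, rfl⟩ := QuotientGroup.mk_surjective v
      rw [← QuotientGroup.mk_mul, ← QuotientGroup.mk_mul, QuotientGroup.eq, MonoidHom.mem_ker, map_mul,
        map_inv, map_mul, map_mul]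
      exact MonoidHom.ext fun w => by
        show (P a w * P b w)⁻¹ * (P b w * P a w) = 1
        rw [mul_comm (P b w), inv_mul_cancel] }
  let conjR : Γ →* MulAut A :=
    (A.normalizerMonoidHom).comp (inclusion (fun g hg => hΓN ⟨g, hg⟩))
  have hconjv : ∀ (g : Γ) (a : A), ((conjR g a : A) : H) = (g : H) * a * (g : H)⁻¹ := fun g a => rfl
  have hconj : ∀ (g : Γ) (a b : A), P (conjR g a) (conjR g b) = P a b := fun g =>
    hP.pairing_conj χ (hΓN g) g.2
  have hKg : ∀ g : Γ, K.map (conjR g).toMonoidHom = K := fun g => by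
    refine eq_of_le_of_card_ge ?_ (card_map_of_injective (conjR g).injective).ge
    rintro _ ⟨a, ha, rfl⟩
    refine MonoidHom.mem_ker.2 (MonoidHom.ext fun b => ?_)
    obtain ⟨b, rfl⟩ := (conjR g).surjective b
    show P (conjR g a) (conjR g b) = 1
    rw [hconj, MonoidHom.mem_ker.1 ha, MonoidHom.one_apply]
  let Φ : Γ →* MulAut (A ⧸ K) :=
    { toFun := fun g => QuotientGroup.congr K K (conjR g) (hKg g)
      map_one' := MulEquiv.ext fun v => by
        induction v using QuotientGroup.induction_on with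
        | _ a =>
          show (((conjR 1) a : A) : A ⧸ K) = (a : A ⧸ K)
          rw [map_one]; rfl
      map_mul' := fun g g' => MulEquiv.ext fun v => by
        induction v using QuotientGroup.induction_on with
        | _ a =>
          show (((conjR (g * g')) a : A) : A ⧸ K) = ((conjR g (conjR g' a) : A) : A ⧸ K)
          rw [map_mul]; rfl }
  have hΦ : ∀ (g : Γ) (a : A), Φ g (a : A ⧸ K) = ((conjR g a : A) : A ⧸ K) := fun g a => rfl
  have heq : ∀ (g : Γ) (a : A), Φ g (a : A ⧸ K) = (a : A ⧸ K) ↔ P (conjR g a) = P a := fun g a => by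
    rw [hΦ, QuotientGroup.eq, MonoidHom.mem_ker, map_mul, map_inv]
    refine ⟨fun h => MonoidHom.ext fun w => ?_, fun h => ?_⟩
    · exact inv_mul_eq_one.1 (DFunLike.congr_fun h w)
    · rw [h]
      exact MonoidHom.ext fun _ => inv_mul_cancel _
  let Ψ : M →* MulAut (A ⧸ K) := Φ.comp (inclusion hMΓ)
  haveI : Group.IsSolvable M :=
    Group.isSolvable_of_isSolvable_injective (f := M.subtype) M.subtype_injective
  have hRs : Group.IsSolvable Ψ.range :=
    Group.isSolvable_of_surjective (MonoidHom.rangeRestrict_surjective Ψ)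
  set N := normalizer (Ψ.range : Set (MulAut (A ⧸ K)))
  let fM : M →* Ψ.range.subgroupOf N :=
    MonoidHom.mk' (fun m => ⟨⟨Ψ m, le_normalizer ⟨m, rfl⟩⟩, mem_subgroupOf.2 ⟨m, rfl⟩⟩)
      fun m m' => Subtype.ext (Subtype.ext (map_mul Ψ m m'))
  haveI : (Cfsg.pPrimeCore 2 (Ψ.range.subgroupOf N)).Characteristic :=
    CfsgLib.Coprime.pPrimeCore_characteristic 2
  have hVexp : ∀ v : A ⧸ K, v ^ r = 1 := fun v => by
    obtain ⟨a, rfl⟩ := QuotientGroup.mk_surjective v
    rw [← QuotientGroup.mk_pow, QuotientGroup.eq_one_iff]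
    exact MonoidHom.mem_ker.2 (hP.pairing_eq_one_of_mem χ (hpow _ a.2))
  -- the socle
  have hsocle : ∀ y : H, IsPGroup 2 (zpowers y) → ∀ ht : y ^ 2 ^ n ∈ M,
      fM ⟨y ^ 2 ^ n, ht⟩ ∈ stepP 2 (Cfsg.pPrimeCore 2 (Ψ.range.subgroupOf N)) := by
    intro y hy ht
    obtain ⟨hyq, hdeg⟩ := hexp y hy
    have hyA : y ∈ normalizer (A : Set H) := by rw [normalizer_eq_top]; exact mem_top _
    have hyZ : y ∈ normalizer (Z : Set H) := by rw [normalizer_eq_top]; exact mem_top _
    rcases dichotomy_unipotent ρ hr.out hr2 hyq hdeg hA hP hpow hyA hyZ hf hf0 with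
      h | ⟨j, m, h1, hm, -, hbS, hb, hidx⟩
    · have e : fM ⟨y ^ 2 ^ n, ht⟩ = 1 := Subtype.ext (Subtype.ext (MulEquiv.ext fun v => by
        induction v using QuotientGroup.induction_on with
        | _ a => exact (heq (inclusion hMΓ ⟨_, ht⟩) a).2 (h a)))
      rw [e]
      exact one_mem _
    let b : Γ := ⟨y ^ 2 ^ j, hbS⟩
    have hbt : b ^ 2 ^ m = inclusion hMΓ ⟨y ^ 2 ^ n, ht⟩ := Subtype.ext (by
      show (y ^ 2 ^ j) ^ 2 ^ m = y ^ 2 ^ n
      rw [← pow_mul, ← pow_add, ← h1])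
    have hbz : Φ b ^ 2 ^ m = Ψ ⟨y ^ 2 ^ n, ht⟩ := by rw [← map_pow, hbt]; rfl
    let F₀ : Subgroup A := fixedMod P (A.normalizerMonoidHom ⟨y ^ 2 ^ n, pow_mem hyA _⟩)
    have hKF : K ≤ F₀ := by
      intro a ha
      rw [mem_fixedMod, MonoidHom.mem_ker.1 ha]
      refine MonoidHom.ext fun w => ?_
      obtain ⟨w, rfl⟩ := (conjR (inclusion hMΓ ⟨_, ht⟩)).surjective w
      show P (conjR (inclusion hMΓ ⟨_, ht⟩) a) (conjR (inclusion hMΓ ⟨_, ht⟩) w) = 1
      rw [hconj, MonoidHom.mem_ker.1 ha, MonoidHom.one_apply]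
    have key := socle_mem_step_aut (V := A ⧸ K) (r := r) hr2 hVexp Ψ.range hRs (B := Φ b)
      (by
        refine mem_normalizer_fintype ?_
        rintro _ ⟨g, rfl⟩
        refine ⟨⟨y ^ 2 ^ j * g * (y ^ 2 ^ j)⁻¹, (inferInstance : M.Normal).conj_mem _ g.2 _⟩, ?_⟩
        show Φ _ = Φ b * Φ (inclusion hMΓ g) * (Φ b)⁻¹
        rw [← map_inv, ← map_mul, ← map_mul]
        exact congrArg Φ (Subtype.ext rfl))
      hm
      (by rw [← map_pow, show b ^ 2 ^ (m + 1) = 1 from Subtype.ext (by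
          show (y ^ 2 ^ j) ^ 2 ^ (m + 1) = 1
          rw [← pow_mul, ← pow_add, show j + (m + 1) = n + 1 by omega, hyq]), map_one])
      ⟨_, hbz.symm⟩ (F₀.map (QuotientGroup.mk' K))
      (by
        rw [index_map_eq _ (QuotientGroup.mk'_surjective K) (by rw [QuotientGroup.ker_mk']; exact hKF)]
        exact hidx)
      (by
        rintro _ ⟨a, ha, rfl⟩
        exact (heq b a).2 (hb a (mem_fixedMod.1 ha)))
      (by
        intro v hv
        obtain ⟨a, rfl⟩ := QuotientGroup.mk_surjective v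
        rw [hbz] at hv
        exact ⟨a, mem_fixedMod.2 ((heq _ a).1 hv), rfl⟩)
    rwa [show fM ⟨y ^ 2 ^ n, ht⟩ = ⟨⟨Φ b ^ 2 ^ m, le_normalizer ⟨_, hbz.symm⟩⟩,
      mem_subgroupOf.2 ⟨_, hbz.symm⟩⟩ from Subtype.ext (Subtype.ext hbz.symm)]
  -- everything lies over the odd core
  set Wc := (stepP 2 (Cfsg.pPrimeCore 2 (Ψ.range.subgroupOf N))).comap fM with hWc
  have hall : ∀ g : M, g ∈ Wc := by
    have hle : M ≤ Wc.map M.subtype := by
      refine (Subgroup.closure_le _).2 fun x hx => ?_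
      have hxM : x ∈ M := Subgroup.subset_closure hx
      obtain ⟨a, ha, hconjx⟩ := Group.mem_conjugatesOfSet_iff.1 hx
      obtain ⟨c, rfl⟩ := isConj_iff.1 hconjx
      rw [Set.mem_singleton_iff.1 ha] at hxM ⊢
      rw [← conj_pow] at hxM ⊢
      refine ⟨⟨_, hxM⟩, hsocle (c * y₀ * c⁻¹) ?_ hxM, rfl⟩
      have := hy₀.map (MulAut.conj c).toMonoidHom
      rwa [MonoidHom.map_zpowers] at this
    intro g
    obtain ⟨g', hg', e⟩ := hle g.2
    rwa [← (Subtype.ext e : g' = g)]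
  haveI hOn : (Cfsg.pPrimeCore 2 (Ψ.range.subgroupOf N)).Normal := inferInstance
  refine ⟨(Cfsg.pPrimeCore 2 (Ψ.range.subgroupOf N)).comap fM, hOn.comap fM, fun g => ?_, ?_⟩
  · have hq : QuotientGroup.mk' (Cfsg.pPrimeCore 2 (Ψ.range.subgroupOf N)) (fM g) ∈
        Cfsg.pCore 2 (Ψ.range.subgroupOf N ⧸ Cfsg.pPrimeCore 2 (Ψ.range.subgroupOf N)) := hall g
    set q := QuotientGroup.mk' (Cfsg.pPrimeCore 2 (Ψ.range.subgroupOf N)) (fM g) with hqdef
    obtain ⟨i, hi⟩ := CfsgLib.Coprime.pCore_isPGroup 2 ⟨q, hq⟩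
    have hi' : q ^ 2 ^ i = 1 := congrArg Subtype.val hi
    obtain ⟨j, -, hj⟩ := (Nat.dvd_prime_pow Nat.prime_two).1 (orderOf_dvd_of_pow_eq_one hi')
    have hjH : j ≤ Nat.card H := by
      have hsurj : Function.Surjective fM := by
        rintro ⟨⟨x, hxN⟩, hx⟩
        obtain ⟨g', hg'⟩ := mem_subgroupOf.1 hx
        exact ⟨g', Subtype.ext (Subtype.ext hg')⟩
      calc j ≤ 2 ^ j := Nat.lt_two_pow_self.le
        _ = orderOf q := hj.symm
        _ ≤ Nat.card (Ψ.range.subgroupOf N ⧸ Cfsg.pPrimeCore 2 (Ψ.range.subgroupOf N)) :=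
            orderOf_le_card
        _ ≤ Nat.card (Ψ.range.subgroupOf N) :=
            Nat.card_le_card_of_surjective _ (QuotientGroup.mk'_surjective _)
        _ ≤ Nat.card M := Nat.card_le_card_of_surjective _ hsurj
        _ ≤ Nat.card H := Nat.card_le_card_of_injective _ M.subtype_injective
    rw [mem_comap, ← QuotientGroup.eq_one_iff, map_pow]
    show q ^ 2 ^ Nat.card H = 1
    exact orderOf_dvd_iff_pow_eq_one.1 (hj ▸ pow_dvd_pow 2 hjH)
  · intro g hg hg2 c
    have h1 : fM g = 1 := eq_one_of_mem_pPrimeCore_two hg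
      ((map_pow fM g 2).symm.trans ((congrArg fM hg2).trans (map_one fM)))
    have h4 : ((fM g : Ψ.range.subgroupOf N) : N) = 1 := by rw [h1, OneMemClass.coe_one]
    have h2 : Φ (inclusion hMΓ g) = 1 := Subtype.ext_iff.1 h4
    exact (heq (inclusion hMΓ g) c).1 (DFunLike.congr_fun h2 _)

/-- The normal closure of a socle has a normal subgroup of `2`-power index whose involutions centralize
`O_r`. -/
theorem exists_core_prime [Group.IsSolvable H] (hinj : Function.Injective ρ) {r n : ℕ} [hr : Fact r.Prime]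
    (hr2 : r ≠ 2)
    (hexp : ∀ y : H, IsPGroup 2 (zpowers y) →
      y ^ 2 ^ (n + 1) = 1 ∧ (ρ y - 1) ^ (2 ^ (n + 1) - 1) = 0)
    {y₀ : H} (hy₀ : IsPGroup 2 (zpowers y₀)) :
    ∃ O : Subgroup (normalClosure ({y₀ ^ 2 ^ n} : Set H)), O.Normal ∧
      (∀ m, m ^ 2 ^ Nat.card H ∈ O) ∧
      ∀ g ∈ O, g ^ 2 = 1 → ∀ x ∈ Cfsg.pCore r H, Commute (g : H) x := by
  classical
  set Q := Cfsg.pCore r H
  haveI : Q.Normal := CfsgLib.Coprime.pCore_normal' r
  have hQp : IsPGroup r Q := CfsgLib.Coprime.pCore_isPGroup r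
  obtain ⟨A, hAQ, hAn, -, hApow, hAA, -, -, hfix⟩ := CfsgLib.CFun.exists_critical_in hQp
  haveI := hAn
  set Z := CfsgLib.CFun.cen A with hZ
  haveI : Z.Normal := by rw [hZ]; unfold CfsgLib.CFun.cen; infer_instance
  have hZA : Z ≤ A := inf_le_left
  have hAp : IsPGroup r A := hQp.to_le hAQ
  have hP : ClassTwoPair A Z :=
    { le := hZA
      cen := fun x hx z hz => (CfsgLib.CFun.commute_of_mem_cen hz hx).symm
      comm := fun x hx y hy =>
        CfsgLib.CFun.commutator_le_cen_of_classTwo hAA (commutator_mem_commutator hx hy) }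
  have hZc : ∀ a ∈ Z, ∀ b ∈ Z, a * b = b * a := fun a ha b hb => (hP.cen a (hZA ha) b hb).eq
  set M := normalClosure ({y₀ ^ 2 ^ n} : Set H) with hM
  have hMZ : M ≤ centralizer (Z : Set H) := by
    refine normalClosure_le_normal (Set.singleton_subset_iff.2 ?_)
    exact socle_centralizes_abelian ρ hinj hr2 (hexp y₀ hy₀).1 (hexp y₀ hy₀).2 (hAp.to_le hZA)
      (by rw [normalizer_eq_top]; exact mem_top _) hZc
  have hchoice : ∀ i : {χ : Z →* kˣ // ∃ f, IsEigen ρ Z χ f ∧ f ≠ 0},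
      ∃ O : Subgroup M, O.Normal ∧ (∀ m, m ^ 2 ^ Nat.card H ∈ O) ∧
        ∀ g ∈ O, g ^ 2 = 1 → ∀ c : A, hP.pairing i.1 ⟨(g : H) * c * (g : H)⁻¹,
          (inferInstance : A.Normal).conj_mem _ c.2 _⟩ = hP.pairing i.1 c := by
    rintro ⟨χ, f, hf, hf0⟩
    exact exists_core_character ρ hr2 hexp hAp hP hApow hy₀ hMZ hf hf0
  choose O hOn hOpow hOfix using hchoice
  refine ⟨⨅ i, O i, normal_iInf_normal hOn, fun m => mem_iInf.2 fun i => hOpow i m, ?_⟩
  intro g hg hg2 x hx
  haveI := Fintype.ofFinite Z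
  have hg2' : (g : H) * g = 1 := by
    have := congrArg Subtype.val hg2
    rwa [SubgroupClass.coe_pow, OneMemClass.coe_one, sq] at this
  -- trivial on `A` modulo the centre
  have hmod : ∀ c ∈ A, ⁅(g : H), c⁆ ∈ Z := by
    intro c hc
    have hu : ⁅(g : H), c⁆ ∈ A := by
      rw [commutatorElement_def]
      exact mul_mem ((inferInstance : A.Normal).conj_mem c hc _) (inv_mem hc)
    refine Subgroup.mem_inf.2 ⟨hu, mem_centralizer_iff.2 fun w hw => ?_⟩
    have hm : ⁅⁅(g : H), c⁆, w⁆ ∈ Z := hP.comm _ hu w hw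
    have h0 : ρ ⁅⁅(g : H), c⁆, w⁆ - 1 = 0 := by
      refine eq_zero_of_forall_eigen ρ (fun a ha b hb => by rw [hZc a ha b hb])
        (card_ne_zero_of_odd (k := k) hr2 (hAp.to_le hZA)) _ (fun z hz v => ?_) fun μ f hf => ?_
      · rw [LinearMap.sub_apply, LinearMap.sub_apply, map_sub, Module.End.one_apply, Module.End.one_apply,
          ← rep_mul_apply, ← rep_mul_apply, hZc _ hm z hz]
      by_cases hf0 : f = 0
      · rw [hf0, map_zero]
      have h1 := hOfix ⟨μ, f, hf, hf0⟩ g (mem_iInf.1 hg _) hg2 ⟨c, hc⟩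
      have h2 : hP.pairing μ ⟨⁅(g : H), c⁆, hu⟩ = 1 := by
        have e : (⟨⁅(g : H), c⁆, hu⟩ : A) = ⟨(g : H) * c * (g : H)⁻¹,
            (inferInstance : A.Normal).conj_mem _ hc _⟩ * (⟨c, hc⟩ : A)⁻¹ :=
          Subtype.ext (commutatorElement_def _ _)
        rw [e, map_mul, map_inv, h1]
        exact MonoidHom.ext fun _ => mul_inv_cancel _
      have h3 := DFunLike.congr_fun h2 ⟨w, hw⟩
      rw [ClassTwoPair.pairing_apply, MonoidHom.one_apply] at h3
      rw [LinearMap.sub_apply, show ρ ⁅⁅(g : H), c⁆, w⁆ f = _ from hf ⟨_, hm⟩, h3, Units.val_one,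
        one_smul, Module.End.one_apply, sub_self]
    have h4 := hinj (((sub_eq_zero (a := ρ ⁅⁅(g : H), c⁆, w⁆) (b := 1)).1 h0).trans (map_one ρ).symm)
    exact (commutatorElement_eq_one_iff_mul_comm.1 h4).symm
  -- an involution trivial on `Z` and on `A / Z` is trivial on `A`
  have hfixA : ∀ c ∈ A, (g : H) * c * (g : H)⁻¹ = c := by
    intro c hc
    set z := ⁅(g : H), c⁆ with hz
    have e0 : (g : H) * c * (g : H)⁻¹ = z * c := by rw [hz, commutatorElement_def, inv_mul_cancel_right]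
    have hgz : (g : H) * z * (g : H)⁻¹ = z :=
      mul_inv_eq_iff_eq_mul.2 (mem_centralizer_iff.1 (hMZ g.2) z (hmod c hc)).symm
    have e2 : z * z = 1 := by
      have e : ((g : H) * g) * c * ((g : H) * g)⁻¹ = z * z * c := by
        calc ((g : H) * g) * c * ((g : H) * g)⁻¹ = g * ((g : H) * c * (g : H)⁻¹) * (g : H)⁻¹ := by group
          _ = g * (z * c) * (g : H)⁻¹ := by rw [e0]
          _ = (g * z * (g : H)⁻¹) * (g * c * (g : H)⁻¹) := by group
          _ = z * z * c := by rw [hgz, e0, mul_assoc]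
      rwa [hg2', one_mul, inv_one, mul_one, right_eq_mul] at e
    obtain ⟨e, he⟩ := hQp ⟨z, hAQ (hmod c hc).1⟩
    have hz1 : z = 1 := orderOf_eq_one_iff.1 (Nat.eq_one_of_dvd_coprimes
      (((Nat.coprime_primes Nat.prime_two hr.out).2 hr2.symm).pow_right e)
      (orderOf_dvd_of_pow_eq_one (by rw [sq, e2])) (orderOf_dvd_of_pow_eq_one (congrArg Subtype.val he)))
    rw [e0, hz1, one_mul]
  let φ : MulAut Q := Q.normalizerMonoidHom ⟨(g : H), by rw [normalizer_eq_top]; exact mem_top _⟩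
  have hφ : φ = 1 := by
    refine hfix φ ?_ fun a ha => Subtype.ext (hfixA _ ha)
    refine Nat.Coprime.coprime_dvd_left (orderOf_dvd_of_pow_eq_one ?_)
      ((Nat.coprime_primes Nat.prime_two hr.out).2 hr2.symm)
    rw [← map_pow]
    convert map_one Q.normalizerMonoidHom
    exact Subtype.ext (by rw [sq]; exact hg2')
  have e : ((φ (⟨x, hx⟩ : Q) : Q) : H) = x := by rw [hφ]; rfl
  exact mul_inv_eq_iff_eq_mul.1 e

/-- The socles of the `2`-elements lie in `O_{2',2}`. -/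
theorem socle_mem_two_prime_two [Group.IsSolvable H] (hinj : Function.Injective ρ)
    (hbot : Cfsg.pCore 2 H = ⊥) {n : ℕ}
    (hexp : ∀ y : H, IsPGroup 2 (zpowers y) →
      y ^ 2 ^ (n + 1) = 1 ∧ (ρ y - 1) ^ (2 ^ (n + 1) - 1) = 0)
    {y : H} (hy : IsPGroup 2 (zpowers y)) : y ^ 2 ^ n ∈ stepP 2 (Cfsg.pPrimeCore 2 H) := by
  classical
  haveI : Fact (Nat.Prime 2) := ⟨Nat.prime_two⟩
  set M := normalClosure ({y ^ 2 ^ n} : Set H) with hM
  have hchoice : ∀ i : {r : Nat.Primes // (r : ℕ) ≠ 2}, ∃ O : Subgroup M, O.Normal ∧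
      (∀ m, m ^ 2 ^ Nat.card H ∈ O) ∧
      ∀ g ∈ O, g ^ 2 = 1 → ∀ x ∈ Cfsg.pCore (i.1 : ℕ) H, Commute (g : H) x := fun i =>
    haveI : Fact (i.1 : ℕ).Prime := ⟨i.1.2⟩
    exists_core_prime ρ hinj i.2 hexp hy
  choose O hOn hOpow hOfix using hchoice
  set Oall := ⨅ i, O i with hOall
  haveI hOalln : Oall.Normal := normal_iInf_normal hOn
  set F := Cfsg.fittingSubgroup H
  haveI : (Cfsg.pPrimeCore 2 H).Characteristic := CfsgLib.Coprime.pPrimeCore_characteristic 2
  have hFK : F ≤ Cfsg.pPrimeCore 2 H := by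
    rw [show F = _ from CfsgLib.Coprime.fitting_eq_iSup_pCore]
    refine iSup_le fun s => ?_
    haveI : Fact (s : ℕ).Prime := ⟨s.2⟩
    by_cases hs : (s : ℕ) = 2
    · rw [hs, hbot]; exact bot_le
    haveI : (Cfsg.pCore (s : ℕ) H).Normal := CfsgLib.Coprime.pCore_normal' _
    refine CfsgLib.Coprime.le_pPrimeCore ?_
    obtain ⟨e, he⟩ := IsPGroup.iff_card.1 (CfsgLib.Coprime.pCore_isPGroup (G := H) (s : ℕ))
    rw [he]
    exact ((Nat.coprime_primes s.2 Nat.prime_two).2 hs).pow_left e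
  have hodd : ¬ 2 ∣ Nat.card Oall := by
    intro hd
    obtain ⟨g, hg⟩ := exists_prime_orderOf_dvd_card' 2 hd
    have hg2 : (g : M) ^ 2 = 1 := by
      rw [← SubgroupClass.coe_pow, ← hg, pow_orderOf_eq_one, OneMemClass.coe_one]
    have hgF : F ≤ centralizer ({((g : M) : H)} : Set H) := by
      rw [show F = _ from CfsgLib.Coprime.fitting_eq_iSup_pCore]
      refine iSup_le fun s x hx => ?_
      by_cases hs : (s : ℕ) = 2
      · rw [hs, hbot, mem_bot] at hx
        rw [hx]; exact one_mem _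
      exact mem_centralizer_singleton_iff.2
        (hOfix ⟨s, hs⟩ g (mem_iInf.1 g.2 _) hg2 x hx).eq.symm
    have hgK : ((g : M) : H) ∈ Cfsg.pPrimeCore 2 H :=
      hFK (CfsgLib.Coprime.centralizer_fitting_le (mem_centralizer_iff.2 fun x hx =>
        mem_centralizer_singleton_iff.1 (hgF hx)))
    have h1 : orderOf (⟨_, hgK⟩ : Cfsg.pPrimeCore 2 H) = 1 :=
      Nat.eq_one_of_dvd_coprimes (CfsgLib.Coprime.pPrimeCore_coprime (G := H) Nat.prime_two)
        (orderOf_dvd_natCard _) (by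
          rw [Subgroup.orderOf_mk, Subgroup.orderOf_coe, Subgroup.orderOf_coe, hg])
    rw [Subgroup.orderOf_mk, Subgroup.orderOf_coe, Subgroup.orderOf_coe, hg] at h1
    omega
  haveI : M.Normal := normalClosure_normal
  haveI : (Cfsg.pPrimeCore 2 M).Characteristic := CfsgLib.Coprime.pPrimeCore_characteristic 2
  have hOK : Oall.map M.subtype ≤ Cfsg.pPrimeCore 2 H := by
    refine (map_mono (CfsgLib.Coprime.le_pPrimeCore_of_not_dvd Nat.prime_two hodd)).trans ?_
    haveI : ((Cfsg.pPrimeCore 2 M).map M.subtype).Normal :=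
      CfsgLib.Coprime.map_subtype_normal_of_characteristic M _
    refine CfsgLib.Coprime.le_pPrimeCore ?_
    rw [card_map_of_injective M.subtype_injective]
    exact CfsgLib.Coprime.pPrimeCore_coprime Nat.prime_two
  haveI : (M.map (QuotientGroup.mk' (Cfsg.pPrimeCore 2 H))).Normal :=
    (inferInstance : M.Normal).map _ (QuotientGroup.mk'_surjective _)
  have h2 : M.map (QuotientGroup.mk' (Cfsg.pPrimeCore 2 H)) ≤
      Cfsg.pCore 2 (H ⧸ Cfsg.pPrimeCore 2 H) := by
    refine CfsgLib.Coprime.le_pCore ?_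
    rintro ⟨_, g, hg, rfl⟩
    refine ⟨Nat.card H, Subtype.ext ?_⟩
    rw [SubgroupClass.coe_pow, OneMemClass.coe_one, ← map_pow]
    refine (QuotientGroup.eq_one_iff _).2 (hOK ⟨⟨g, hg⟩ ^ 2 ^ Nat.card H, ?_, ?_⟩)
    · exact mem_iInf.2 fun i => hOpow i _
    · rfl
  exact h2 (mem_map_of_mem _ (subset_normalClosure (Set.mem_singleton _)))

/-- Two layers lower the exponent by one. -/
theorem pow_mem_four_two {G : Type u} [Group G] [Finite G] [Group.IsSolvable G] {n : ℕ}
    (hexp : ∀ x : G, IsPGroup 2 (zpowers x) → x ^ 2 ^ (n + 1) = 1) {x : G} (hx : IsPGroup 2 (zpowers x)) :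
    x ^ 2 ^ n ∈ (Cfsg.upperPSeries 2 G 4).1 := by
  classical
  haveI : Fact (Nat.Prime 2) := ⟨Nat.prime_two⟩
  have hG : Cfsg.IsPSolvable 2 G := MaxPNilpotent.isPSolvable_of_solvable Nat.prime_two _ G rfl inferInstance
  set U₁ := (Cfsg.upperPSeries 2 G 1).1 with hU₁
  set U₂ := (Cfsg.upperPSeries 2 G 2).1 with hU₂
  haveI : U₁.Normal := (Cfsg.upperPSeries 2 G 1).2
  haveI : U₂.Normal := (Cfsg.upperPSeries 2 G 2).2
  have hU₂eq : U₂ = stepP 2 U₁ := CfsgLib.PGroup.upperPSeries_succ_odd (n := 1) (by simp)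
  have hbot : Cfsg.pPrimeCore 2 (G ⧸ U₁) = ⊥ :=
    CfsgLib.PGroup.pPrimeCore_stepPrime_eq_bot _ U₁ (CfsgLib.PGroup.upperPSeries_succ_even Even.zero)
  obtain ⟨Φ, hΦ, V, hV, hVel, hCV, hK, hmap, hback⟩ :=
    ModularB.exists_reduced (CfsgLib.PGroup.isPSolvable_quotient Nat.prime_two hG U₁) hbot
  haveI : IsMulCommutative V := hVel.1
  letI : CommGroup V :=
    { (inferInstance : Group V) with mul_comm := fun a b => isMulCommutative_iff.1 hVel.1 a b }
  have hVpow : ∀ v : V, v ^ 2 = 1 := fun v => Subtype.ext (by simpa using hVel.2 v v.2)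
  let f : G →* (G ⧸ U₁) ⧸ Φ := (QuotientGroup.mk' Φ).comp (QuotientGroup.mk' U₁)
  have hmemU : ∀ g : G, f g ∈ V ↔ g ∈ U₂ := fun g => by
    rw [hU₂eq, stepP, mem_comap]
    exact ⟨hback _, fun h => hmap (mem_map_of_mem _ h)⟩
  let cG : G →* MulAut V := (MulAut.conjNormal : (G ⧸ U₁) ⧸ Φ →* MulAut V).comp f
  have hcker : cG.ker = U₂ := by
    ext g
    rw [MonoidHom.mem_ker, ← hmemU]
    constructor
    · intro hg
      refine hCV (mem_centralizer_iff.2 fun w hw => ?_)
      have e1 := congrArg (fun e : MulAut V => ((e ⟨w, hw⟩ : V) : (G ⧸ U₁) ⧸ Φ)) hg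
      change f g * w * (f g)⁻¹ = w at e1
      exact (mul_inv_eq_iff_eq_mul.1 e1).symm
    · intro hg
      refine MulEquiv.ext fun w => Subtype.ext ?_
      show f g * w * (f g)⁻¹ = w
      rw [mul_inv_eq_iff_eq_mul]
      exact congrArg Subtype.val (isMulCommutative_iff.1 hVel.1 ⟨f g, hg⟩ w)
  let c : G ⧸ U₂ →* MulAut V := QuotientGroup.lift U₂ cG hcker.ge
  have hc : Function.Injective c := (injective_iff_map_eq_one c).2 fun y hy => by
    obtain ⟨g, rfl⟩ := QuotientGroup.mk_surjective y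
    exact (QuotientGroup.eq_one_iff g).2 (hcker ▸ hy)
  let H := G ⧸ U₂
  have hHsol : Cfsg.IsPSolvable 2 H := CfsgLib.PGroup.isPSolvable_quotient Nat.prime_two hG U₂
  have hHO : Cfsg.pCore 2 H = ⊥ := ModularB.pCore_stepP_eq_bot U₁ U₂ hU₂eq
  have hlift : ∀ y : H, IsPGroup 2 (zpowers y) →
      y ^ 2 ^ (n + 1) = 1 ∧ ∀ v : V, ∏ i ∈ Finset.range (2 ^ (n + 1)), c (y ^ i) v = 1 := by
    intro y hy
    obtain ⟨z, hz, rfl⟩ := CfsgLib.PGroup.PLengthExponent.exists_pPart_lift (QuotientGroup.mk' U₂)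
      (QuotientGroup.mk'_surjective U₂) hy
    refine ⟨by rw [← map_pow, hexp z hz, map_one], fun v => ?_⟩
    have hY : IsPGroup 2 (zpowers (f z)) := by rw [← MonoidHom.map_zpowers]; exact hz.map _
    have hYexp : ∀ w : (G ⧸ U₁) ⧸ Φ, IsPGroup 2 (zpowers w) → w ^ 2 ^ (n + 1) = 1 := by
      intro w hw
      obtain ⟨z', hz', rfl⟩ := CfsgLib.PGroup.PLengthExponent.exists_pPart_lift f
        ((QuotientGroup.mk'_surjective Φ).comp (QuotientGroup.mk'_surjective U₁)) hw
      rw [← map_pow, hexp z' hz', map_one]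
    have hVp : IsPGroup 2 V := fun w => ⟨1, by simpa using hVpow w⟩
    have h1 := CfsgLib.PGroup.PLengthExponent.mul_pow_eq_prod V.subtype
      (MulAut.conjNormal : (G ⧸ U₁) ⧸ Φ →* MulAut V) (fun h w => MulAut.conjNormal_apply h w) v (f z) (2 ^ (n + 1))
    rw [Subgroup.coe_subtype, hYexp _ ((hY.to_sup_of_normal_right hVp).to_le
      (zpowers_le.2 (mul_mem (mem_sup_right v.2) (mem_sup_left (mem_zpowers _))))), hYexp _ hY, mul_one] at h1
    refine Subtype.ext ?_
    rw [OneMemClass.coe_one]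
    refine Eq.trans ?_ h1.symm
    refine congrArg Subtype.val (Finset.prod_congr rfl fun i _ => ?_)
    rw [← map_pow (QuotientGroup.mk' U₂), ← map_pow f]
    rfl
  let k := AlgebraicClosure (ZMod 2)
  haveI : CharP k 2 := charP_of_injective_algebraMap (algebraMap (ZMod 2) k).injective 2
  obtain ⟨hfd, -⟩ := CfsgLib.PGroup.finrank_addHom (V := V) hVpow k
  let ρ := dRep k c
  have hρ : Function.Injective ρ := fun a b hab => by
    have h1 : c (a * b⁻¹) = 1 := eq_one_of_dRep hVpow c (by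
      show ρ (a * b⁻¹) = 1
      rw [map_mul, hab, ← map_mul, mul_inv_cancel, map_one])
    exact mul_inv_eq_one.1 (hc (h1.trans (map_one c).symm))
  have hdeg : ∀ a : H, IsPGroup 2 (zpowers a) →
      a ^ 2 ^ (n + 1) = 1 ∧ (ρ a - 1) ^ (2 ^ (n + 1) - 1) = 0 := by
    intro a ha
    refine ⟨(hlift a ha).1, (ModularB.sub_one_pow_geom (k := k) (p := 2) (ρ a) (n + 1)).trans ?_⟩
    refine LinearMap.ext fun f => AddMonoidHom.ext fun v => ?_
    rw [LinearMap.sum_apply, AddMonoidHom.finsetSum_apply, LinearMap.zero_apply, AddMonoidHom.zero_apply]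
    calc ∑ i ∈ Finset.range (2 ^ (n + 1)), ((ρ a ^ i) f) v
        = ∑ i ∈ Finset.range (2 ^ (n + 1)), f (Additive.ofMul (c (a⁻¹ ^ i) v.toMul)) :=
          Finset.sum_congr rfl fun i _ => by
            rw [← map_pow, inv_pow]; exact dRep_apply c (a ^ i) f v.toMul
      _ = f (Additive.ofMul (∏ i ∈ Finset.range (2 ^ (n + 1)), c (a⁻¹ ^ i) v.toMul)) := by
          rw [ofMul_prod, map_sum]
      _ = 0 := by rw [(hlift a⁻¹ (by rwa [zpowers_inv])).2, ofMul_one, map_zero]
  haveI : Group.IsSolvable H := Group.isSolvable_of_surjective (QuotientGroup.mk'_surjective U₂)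
  have hyp : IsPGroup 2 (zpowers (QuotientGroup.mk' U₂ x)) := by
    rw [← MonoidHom.map_zpowers]; exact hx.map _
  have h2 : QuotientGroup.mk' U₂ (x ^ 2 ^ n) ∈ (Cfsg.upperPSeries 2 H 2).1 := by
    rw [CfsgLib.PGroup.upperPSeries_succ_odd (n := 1) (by simp),
      (step_congr (pPrimeCore_eq_term_one (p := 2) (G := H))).2, map_pow]
    exact socle_mem_two_prime_two ρ hρ hHO hdeg hyp
  rw [← mem_comap, CfsgLib.PGroup.upperPSeries_shift (p := 2) U₂ even_two rfl 2] at h2
  exact h2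

/-- **Gross's bound on the `2`-length.** -/
theorem pLengthLE_two : ∀ (e : ℕ) (G : Type u) [Group G] [Finite G], Group.IsSolvable G →
    (∀ x : G, IsPGroup 2 (zpowers x) → x ^ 2 ^ (e + 1) = 1) → Cfsg.PLengthLE 2 (2 * e + 1) G := by
  intro e
  haveI : Fact (Nat.Prime 2) := ⟨Nat.prime_two⟩
  induction e with
  | zero =>
    intro G _ _ hsol hexp
    obtain ⟨S⟩ : Nonempty (Sylow 2 G) := inferInstance
    have hsq : ∀ s : (S : Subgroup G), s * s = 1 := fun s => Subtype.ext (by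
      have := hexp (s : G) (S.2.to_le (zpowers_le.2 s.2))
      rw [show 2 ^ (0 + 1) = 2 from rfl, pow_two] at this
      exact this)
    letI : CommGroup (S : Subgroup G) := { (inferInstance : Group (S : Subgroup G)) with
      mul_comm := fun a b => by
        have ha := inv_eq_of_mul_eq_one_left (hsq a)
        have hb := inv_eq_of_mul_eq_one_left (hsq b)
        have hab := inv_eq_of_mul_eq_one_left (hsq (a * b))
        rw [← hab, mul_inv_rev, ha, hb] }
    haveI := hsol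
    exact pLengthLE_of_class_le 1 G (MaxPNilpotent.isPSolvable_of_solvable Nat.prime_two _ G rfl hsol) S
      CommGroup.nilpotencyClass_le_one
  | succ n ih =>
    intro G _ _ hsol hexp
    haveI := hsol
    set U₄ := (Cfsg.upperPSeries 2 G 4).1 with hU₄
    haveI : U₄.Normal := (Cfsg.upperPSeries 2 G 4).2
    have h := ih (G ⧸ U₄) (Group.isSolvable_of_surjective (QuotientGroup.mk'_surjective U₄)) fun y hy => by
      obtain ⟨z, hz, rfl⟩ := CfsgLib.PGroup.PLengthExponent.exists_pPart_lift (QuotientGroup.mk' U₄)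
        (QuotientGroup.mk'_surjective U₄) hy
      rw [← map_pow]
      exact (QuotientGroup.eq_one_iff _).2 (pow_mem_four_two hexp hz)
    have hshift := CfsgLib.PGroup.upperPSeries_shift (p := 2) U₄ (⟨2, rfl⟩ : Even 4) rfl
      (2 * (2 * n + 1) + 1)
    rw [h, comap_top] at hshift
    show (Cfsg.upperPSeries 2 G (2 * (2 * (n + 1) + 1) + 1)).1 = ⊤
    rw [show 2 * (2 * (n + 1) + 1) + 1 = 2 * (2 * n + 1) + 1 + 4 by omega]
    exact hshift.symm

end CfsgLib.PGroup.GrossTwo
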