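import Cfsg.Agent.Lib.PGroup.GrossTwo.Spectrum
import Cfsg.Agent.Lib.PGroup.ShultGross.Centralize
import Cfsg.Agent.Lib.PGroup.PqWeights

/-!
# The action of a `2`-power operator without fixed vectors on a group of class two

For an eigencharacter of the centre, the involution of the operator either centralizes the commutator
pairing, or it inverts a plane and the operator centralizes a complement of it.
-/

set_option autoImplicit false
set_option linter.style.haveILetI false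
set_option linter.unusedSectionVars false
set_option maxHeartbeats 800000

namespace CfsgLib.PGroup.GrossTwo

open CfsgLib.PGroup
open Subgroup
open scoped commutatorElement

universe u v w

variable {H : Type u} [Group H] {k : Type v} [Field k]

/-- `Z` is central in `R` and contains its commutators. -/
structure ClassTwoPair (R Z : Subgroup H) : Prop where
  le : Z ≤ R
  cen : ∀ x ∈ R, ∀ z ∈ Z, Commute x z
  comm : ∀ x ∈ R, ∀ y ∈ R, ⁅x, y⁆ ∈ Z

namespace ClassTwoPair

variable {R Z : Subgroup H} (hP : ClassTwoPair R Z)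
include hP

theorem mul_left {x x' y : H} (hx : x ∈ R) (hx' : x' ∈ R) (hy : y ∈ R) :
    ⁅x * x', y⁆ = ⁅x, y⁆ * ⁅x', y⁆ := by
  have h := (hP.cen x hx _ (hP.comm x' hx' y hy)).eq
  have h' := (hP.cen _ (hP.le (hP.comm x hx y hy)) _ (hP.comm x' hx' y hy)).eq
  calc ⁅x * x', y⁆ = x * ⁅x', y⁆ * x⁻¹ * ⁅x, y⁆ := by simp only [commutatorElement_def]; group
    _ = ⁅x', y⁆ * ⁅x, y⁆ := by rw [h, mul_inv_cancel_right]
    _ = ⁅x, y⁆ * ⁅x', y⁆ := h'.symm

theorem mul_right {x y y' : H} (hx : x ∈ R) (hy : y ∈ R) (hy' : y' ∈ R) :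
    ⁅x, y * y'⁆ = ⁅x, y⁆ * ⁅x, y'⁆ := by
  have h := (hP.cen y hy _ (hP.comm x hx y' hy')).eq
  calc ⁅x, y * y'⁆ = ⁅x, y⁆ * (y * ⁅x, y'⁆ * y⁻¹) := by simp only [commutatorElement_def]; group
    _ = ⁅x, y⁆ * ⁅x, y'⁆ := by rw [h, mul_inv_cancel_right]

/-- The commutator pairing of a character of `Z`. -/
def pairing (χ : Z →* kˣ) : R →* (R →* kˣ) :=
  MonoidHom.mk'
    (fun x => MonoidHom.mk' (fun y => χ ⟨⁅(x : H), (y : H)⁆, hP.comm _ x.2 _ y.2⟩) fun y y' => by
      rw [← map_mul χ]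
      exact congrArg χ (Subtype.ext (hP.mul_right x.2 y.2 y'.2)))
    fun x x' => MonoidHom.ext fun y => by
      rw [MonoidHom.mul_apply]
      show χ _ = χ _ * χ _
      rw [← map_mul χ]
      exact congrArg χ (Subtype.ext (hP.mul_left x.2 x'.2 y.2))

theorem pairing_apply (χ : Z →* kˣ) (x y : R) :
    hP.pairing χ x y = χ ⟨⁅(x : H), (y : H)⁆, hP.comm _ x.2 _ y.2⟩ := rfl

theorem pairing_swap (χ : Z →* kˣ) (x y : R) : hP.pairing χ x y * hP.pairing χ y x = 1 := by
  rw [pairing_apply, pairing_apply, ← map_mul χ, ← map_one χ]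
  exact congrArg χ (Subtype.ext (show ⁅(x : H), (y : H)⁆ * ⁅(y : H), (x : H)⁆ = 1 by
    rw [← commutatorElement_inv (y : H) (x : H), inv_mul_cancel]))

theorem pairing_eq_one_of_mem (χ : Z →* kˣ) {x : R} (hx : (x : H) ∈ Z) : hP.pairing χ x = 1 :=
  MonoidHom.ext fun y => by
    rw [pairing_apply, MonoidHom.one_apply, ← map_one χ]
    exact congrArg χ (Subtype.ext (commutatorElement_eq_one_iff_commute.2 (hP.cen _ y.2 _ hx).symm))

theorem pairing_pow (χ : Z →* kˣ) {r : ℕ} (hpow : ∀ x ∈ R, x ^ r ∈ Z) (x y : R) :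
    hP.pairing χ x y ^ r = 1 := by
  rw [← MonoidHom.pow_apply, ← map_pow, hP.pairing_eq_one_of_mem χ (x := x ^ r) (hpow _ x.2),
    MonoidHom.one_apply]

theorem pairing_conj (χ : Z →* kˣ) {g : H} (hg : g ∈ normalizer (R : Set H)) (hgS : g ∈ charStab Z χ)
    (x y : R) :
    hP.pairing χ (R.normalizerMonoidHom ⟨g, hg⟩ x) (R.normalizerMonoidHom ⟨g, hg⟩ y) =
      hP.pairing χ x y := by
  obtain ⟨hn, hn'⟩ := inv_mem hgS
  refine Eq.trans ?_ (DFunLike.congr_fun hn' ⟨⁅(x : H), (y : H)⁆, hP.comm _ x.2 _ y.2⟩)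
  rw [twist_apply, pairing_apply]
  refine congrArg χ (Subtype.ext ?_)
  show ⁅g * (x : H) * g⁻¹, g * (y : H) * g⁻¹⁆ = g⁻¹⁻¹ * ⁅(x : H), (y : H)⁆ * g⁻¹
  simp only [commutatorElement_def]
  group

theorem pairing_eq_one_of_charStab (χ : Z →* kˣ) (h : ∀ z, χ z = 1) (x : R) : hP.pairing χ x = 1 :=
  MonoidHom.ext fun _ => h _

end ClassTwoPair

/-- The elements fixed by `τ` modulo the radical of the pairing. -/
def fixedMod {R : Type u} [Group R] {A : Type v} [CommGroup A] (P : R →* A) (τ : MulAut R) :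
    Subgroup R :=
  (P.comp τ.toMonoidHom / P).ker

theorem mem_fixedMod {R : Type u} [Group R] {A : Type v} [CommGroup A] {P : R →* A} {τ : MulAut R}
    {x : R} : x ∈ fixedMod P τ ↔ P (τ x) = P x := by
  rw [fixedMod, MonoidHom.mem_ker, MonoidHom.div_apply, div_eq_one]
  rfl

variable {W : Type w} [AddCommGroup W] [Module k W] (ρ : H →* Module.End k W)

/-- The socle of an operator without fixed vectors stabilises every eigencharacter. -/
theorem socle_mem_charStab {Y : Subgroup H} [Fintype Y] (hk : (Fintype.card Y : k) ≠ 0) {a : H}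
    {q n : ℕ} (hq : q.Prime) (ha : a ^ q ^ (n + 1) = 1) (haY : a ∈ normalizer (Y : Set H))
    (hfix : ∀ w, ρ a w = w → w = 0) {χ : Y →* kˣ} {f : W} (hf : IsEigen ρ Y χ f) (hf0 : f ≠ 0) :
    a ^ q ^ n ∈ charStab Y χ := by
  by_contra hts
  obtain ⟨w, hw0, hw⟩ := ShultGross.exists_fixed_of_free ρ hk (pow_pos hq.pos (n + 1)) haY hf hf0
    (by rw [ha, map_one]; rfl) (fun i hi hi0 hmem => by
      obtain ⟨j, hj, hjm⟩ := ShultGross.exists_pow_prime_mem hq ha hi0 hmem
      have hjn : j ≤ n := by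
        by_contra h
        have := (Nat.pow_le_pow_right hq.pos (show n + 1 ≤ j by omega)).trans
          (Nat.le_of_dvd (Nat.pos_of_ne_zero hi0) hj)
        omega
      refine hts ?_
      rw [← Nat.add_sub_cancel' hjn, pow_add, pow_mul]
      exact pow_mem hjm _)
  exact hw0 (hfix w hw)

theorem units_eq_one_of_sq {r : ℕ} (hr : Odd r) {x : kˣ} (h2 : x * x = 1) (h : x ^ r = 1) : x = 1 := by
  obtain ⟨c, rfl⟩ := hr
  rwa [pow_succ, pow_mul, pow_two, h2, one_pow, one_mul] at h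

/-- `r ^ i + 1` is a power of two only for `i = 1`. -/
theorem eq_one_of_pow_succ_eq_two_pow {r i M : ℕ} (hr : 3 ≤ r) (hodd : Odd r) (hi : i ≠ 0)
    (h : 2 ^ M = r ^ i + 1) : i = 1 := by
  obtain ⟨c, hc⟩ := Nat.even_or_odd' i
  rcases hc with rfl | rfl
  · exfalso
    obtain ⟨e, he⟩ := hodd
    have hM : 2 ≤ M := by
      by_contra hlt
      have h1 : 2 ^ M ≤ 2 ^ 1 := Nat.pow_le_pow_right (by norm_num) (by omega)
      have h2 := Nat.le_self_pow hi r
      omega
    have h4 : 4 ∣ r ^ (2 * c) + 1 := h ▸ (pow_dvd_pow 2 hM)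
    have hm : r ^ (2 * c) % 4 = 1 := by
      rw [pow_mul, Nat.pow_mod, show r ^ 2 = 4 * (e * e + e) + 1 by rw [he]; ring, Nat.mul_add_mod]
      simp
    omega
  · rcases Nat.eq_zero_or_pos c with rfl | hc
    · rfl
    exfalso
    obtain ⟨S, hS⟩ := Odd.nat_add_dvd_pow_add_pow r 1 (n := 2 * c + 1) ⟨c, rfl⟩
    rw [one_pow, ← h] at hS
    obtain ⟨s, -, rfl⟩ := (Nat.dvd_prime_pow Nat.prime_two).1 ⟨r + 1, by rw [hS, mul_comm]⟩
    obtain ⟨u, -, hu⟩ := (Nat.dvd_prime_pow Nat.prime_two).1 ⟨2 ^ s, hS⟩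
    -- the cofactor is odd
    have hsq : ∀ e, 2 * 2 ^ u ∣ r ^ (2 * e) - 1 := by
      intro e
      refine dvd_trans ?_ ((Nat.sub_one_dvd_pow_sub_one (r ^ 2) e).trans (by rw [← pow_mul]))
      obtain ⟨g, hg⟩ := hodd
      rw [← hu, hg]
      exact ⟨g, Nat.sub_eq_of_eq_add (by ring)⟩
    have h2u : 2 ^ u ≥ 4 := by omega
    rcases Nat.eq_zero_or_pos s with rfl | hs
    · have h1 : r ^ 1 < r ^ (2 * c + 1) := Nat.pow_lt_pow_right (by omega) (by omega)
      rw [pow_zero, mul_one] at hS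
      rw [pow_one] at h1
      omega
    · have h1 : 2 * 2 ^ u ∣ r ^ (2 * c + 1) + 1 := by
        rw [← h, hS, hu, mul_comm 2 (2 ^ u)]
        exact Nat.mul_dvd_mul_left _ (dvd_pow_self 2 hs.ne')
      have h3 : r ^ (2 * c + 1) + 1 = r * (r ^ (2 * c) - 1) + (r + 1) := by
        have := Nat.one_le_pow (2 * c) r (by omega)
        rw [Nat.mul_sub, mul_one, pow_succ']
        have : r ≤ r * r ^ (2 * c) := Nat.le_mul_of_pos_right _ (by omega)
        omega
      rw [h3, Nat.dvd_add_right ((hsq c).mul_left r), hu] at h1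
      have := Nat.le_of_dvd (by positivity) h1
      omega

variable [Finite H] [IsAlgClosed k] [FiniteDimensional k W]

/-- **The dichotomy.** -/
theorem dichotomy {r n : ℕ} (hr : r.Prime) (hr2 : r ≠ 2) (hrk : (r : k) ≠ 0) (h2k : (2 : k) ≠ 0)
    {a : H} (ha : a ^ 2 ^ (n + 1) = 1) (hfix : ∀ w, ρ a w = w → w = 0) {R Z : Subgroup H}
    (hR : IsPGroup r R) (hP : ClassTwoPair R Z) (hpow : ∀ x ∈ R, x ^ r ∈ Z)
    (haR : a ∈ normalizer (R : Set H)) (haZ : a ∈ normalizer (Z : Set H))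
    (hfpZ : ∀ z ∈ Z, a * z * a⁻¹ = z → z = 1) {χ : Z →* kˣ} {f : W} (hf : IsEigen ρ Z χ f)
    (hf0 : f ≠ 0) :
    (∀ x : R, hP.pairing χ (R.normalizerMonoidHom ⟨a ^ 2 ^ n, pow_mem haR _⟩ x) = hP.pairing χ x) ∨
      ∃ j m : ℕ, n = j + m ∧ 1 ≤ j ∧ 1 ≤ m ∧ r + 1 = 2 ^ (m + 1) ∧ a ^ 2 ^ j ∈ charStab Z χ ∧
        (∀ x : R,
          hP.pairing χ (R.normalizerMonoidHom ⟨a ^ 2 ^ n, pow_mem haR _⟩ x) = hP.pairing χ x →
          hP.pairing χ (R.normalizerMonoidHom ⟨a ^ 2 ^ j, pow_mem haR _⟩ x) = hP.pairing χ x) ∧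
        (fixedMod (hP.pairing χ) (R.normalizerMonoidHom ⟨a ^ 2 ^ n, pow_mem haR _⟩)).index ≤ r * r := by
  classical
  haveI := Fact.mk hr
  haveI := Fintype.ofFinite Z
  set P := hP.pairing χ with hPdef
  set t := a ^ 2 ^ n with ht
  set τ : MulAut R := R.normalizerMonoidHom ⟨t, pow_mem haR _⟩ with hτ
  have hτv : ∀ x : R, ((τ x : R) : H) = t * x * t⁻¹ := fun x => rfl
  refine or_iff_not_imp_left.2 fun hnot => ?_
  have hrodd : Odd r := hr.odd_of_ne_two hr2
  have hr3 : 3 ≤ r := by have := hr.two_le; omega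
  have hcardk : ∀ {S : Subgroup H}, S ≤ R → (Nat.card S : k) ≠ 0 := by
    intro S hS
    obtain ⟨e, he⟩ := IsPGroup.iff_card.1 (hR.to_le hS)
    rw [he, Nat.cast_pow]
    exact pow_ne_zero _ hrk
  have hZk : (Fintype.card Z : k) ≠ 0 := by
    rw [← Nat.card_eq_fintype_card]; exact hcardk hP.le
  have htt : t * t = 1 := by rw [ht, ← pow_add, ← two_mul, ← pow_succ', ha]
  have hττ : ∀ x, τ (τ x) = x := fun x => Subtype.ext (by
    rw [hτv, hτv]
    calc t * (t * (x : H) * t⁻¹) * t⁻¹ = (t * t) * x * (t * t)⁻¹ := by group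
      _ = x := by rw [htt]; group)
  -- the stabiliser
  set S := charStab Z χ with hS
  have htS : t ∈ S := socle_mem_charStab ρ hZk Nat.prime_two ha haZ hfix hf hf0
  have hRS : R ≤ S := fun x hx => commute_mem_charStab χ fun z => hP.cen x hx z z.2
  have hex : ∃ j, a ^ 2 ^ j ∈ S := ⟨n, htS⟩
  set j := Nat.find hex with hj
  have hbS : a ^ 2 ^ j ∈ S := Nat.find_spec hex
  obtain ⟨m, hm⟩ : ∃ m, n = j + m := ⟨n - j, by have := Nat.find_min' hex htS; omega⟩
  have hfreej : ∀ i, i < 2 ^ j → i ≠ 0 → a ^ i ∉ S := by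
    intro i hi hi0 hmem
    obtain ⟨j', hj', hjm⟩ := ShultGross.exists_pow_prime_mem Nat.prime_two ha hi0 hmem
    have h1 : j ≤ j' := Nat.find_min' hex hjm
    have h2 := (Nat.pow_le_pow_right (show 0 < 2 by norm_num) h1).trans
      (Nat.le_of_dvd (Nat.pos_of_ne_zero hi0) hj')
    omega
  set b := a ^ 2 ^ j with hb
  have hbm : b ^ 2 ^ m = t := by rw [hb, ht, ← pow_mul, ← pow_add, ← hm]
  have hbq : b ^ 2 ^ (m + 1) = 1 := by rw [pow_succ, pow_mul, hbm, sq, htt]
  set σb : MulAut R := R.normalizerMonoidHom ⟨b, pow_mem haR _⟩ with hσb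
  have hσbv : ∀ x : R, ((σb x : R) : H) = b * x * b⁻¹ := fun x => rfl
  have hσpow : ∀ (i : ℕ) (x : R), ((σb^[i] x : R) : H) = b ^ i * x * (b ^ i)⁻¹ := by
    intro i
    induction i with
    | zero => intro x; simp
    | succ i ih => intro x; rw [Function.iterate_succ_apply', hσbv, ih, pow_succ']; group
  have hστ : ∀ x, σb (τ x) = τ (σb x) := fun x => Subtype.ext (by
    rw [hσbv, hτv, hτv, hσbv, ← hbm]
    calc b * (b ^ 2 ^ m * (x : H) * (b ^ 2 ^ m)⁻¹) * b⁻¹ = (b * b ^ 2 ^ m) * x * (b * b ^ 2 ^ m)⁻¹ := by group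
      _ = (b ^ 2 ^ m * b) * x * (b ^ 2 ^ m * b)⁻¹ := by rw [← pow_succ', ← pow_succ]
      _ = _ := by group)
  have hPτ : ∀ x y, P (τ x) (τ y) = P x y := hP.pairing_conj χ (pow_mem haR _) htS
  have hPb : ∀ x y, P (σb x) (σb y) = P x y := hP.pairing_conj χ (pow_mem haR _) hbS
  have hPr : ∀ x y, P x y ^ r = 1 := hP.pairing_pow χ hpow
  -- the inverted part modulo `Z`
  let Z' : Subgroup R := Z.subgroupOf R
  haveI : Z'.Normal := ⟨fun z hz g => by
    rw [mem_subgroupOf] at hz ⊢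
    rw [coe_mul, coe_mul, coe_inv, (hP.cen _ g.2 _ hz).eq, mul_inv_cancel_right]
    exact hz⟩
  letI : CommGroup (R ⧸ Z') := { (inferInstance : Group (R ⧸ Z')) with
    mul_comm := fun u v => by
      obtain ⟨x, rfl⟩ := QuotientGroup.mk_surjective u
      obtain ⟨y, rfl⟩ := QuotientGroup.mk_surjective v
      rw [← QuotientGroup.mk_mul, ← QuotientGroup.mk_mul, QuotientGroup.eq, mem_subgroupOf]
      have h1 := hP.comm _ (inv_mem y.2) _ (inv_mem x.2)
      rwa [commutatorElement_def, inv_inv, inv_inv,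
        show (y : H)⁻¹ * (x : H)⁻¹ * y * x = ((x * y : R) : H)⁻¹ * ((y * x : R) : H) by
          push_cast; group] at h1 }
  let Em : Subgroup R :=
    ((QuotientGroup.mk' Z').comp τ.toMonoidHom * QuotientGroup.mk' Z').ker
  have hEm : ∀ x, x ∈ Em ↔ (t * x * t⁻¹ : H) * x ∈ Z := by
    intro x
    rw [MonoidHom.mem_ker, MonoidHom.mul_apply, MonoidHom.comp_apply, MulEquiv.coe_toMonoidHom,
      ← map_mul, QuotientGroup.mk'_apply, QuotientGroup.eq_one_iff, mem_subgroupOf, coe_mul, hτv]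
  have hPEm : ∀ x ∈ Em, P (τ x) = (P x)⁻¹ := fun x hx => by
    refine eq_inv_of_mul_eq_one_left (a := P (τ x)) (b := P x) ?_
    rw [← map_mul]
    exact hP.pairing_eq_one_of_mem χ ((hEm x).1 hx)
  have hsq1 : ∀ x : R, (∀ y, P x y * P x y = 1) → P x = 1 := fun x h =>
    MonoidHom.ext fun y => units_eq_one_of_sq hrodd (h y) (hPr x y)
  have horth : ∀ x ∈ Em, ∀ y, P (τ y) = P y → P x y = 1 := by
    intro x hx y hy
    refine units_eq_one_of_sq hrodd ?_ (hPr x y)
    have e2 : P (τ x) (τ y) = P (τ x) y := by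
      have h1 := hP.pairing_swap χ (τ x) (τ y)
      have h2 := hP.pairing_swap χ (τ x) y
      rw [← hPdef, show P (τ y) (τ x) = P y (τ x) by rw [hy]] at h1
      exact mul_right_cancel (h1.trans h2.symm)
    have e := hPτ x y
    rw [e2, hPEm x hx, MonoidHom.inv_apply, inv_eq_iff_mul_eq_one] at e
    exact e
  have hsplit : ∀ x : R, (τ x)⁻¹ * x ∈ Em ∧ P (τ (τ x * x)) = P (τ x * x) ∧
      P ((τ x)⁻¹ * x) * P (τ x * x) = P x * P x := by
    intro x
    refine ⟨?_, ?_, ?_⟩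
    · rw [hEm, ← hτv]
      have e : (QuotientGroup.mk' Z') (τ ((τ x)⁻¹ * x) * ((τ x)⁻¹ * x)) = 1 := by
        rw [map_mul τ, map_inv τ, hττ, mul_assoc, mul_inv_cancel_left, inv_mul_cancel, map_one]
      exact mem_subgroupOf.1 ((QuotientGroup.eq_one_iff (N := Z') _).1 e)
    · rw [map_mul τ, hττ, map_mul, map_mul]
      exact mul_comm (P x) (P (τ x))
    · refine MonoidHom.ext fun y => ?_
      rw [map_mul, map_mul, map_inv]
      show (P (τ x) y)⁻¹ * P x y * (P (τ x) y * P x y) = P x y * P x y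
      rw [mul_mul_mul_comm, inv_mul_cancel, one_mul]
  have hEmσ : ∀ x ∈ Em, σb x ∈ Em := by
    intro x hx
    rw [hEm] at hx ⊢
    rw [← hτv, ← hστ, hσbv, hσbv, hτv,
      show b * (t * (x : H) * t⁻¹) * b⁻¹ * (b * x * b⁻¹) = b * (t * x * t⁻¹ * x) * b⁻¹ by group]
    exact (mem_normalizer_iff.1 (pow_mem haZ _) _).1 hx
  -- the representation on the eigenspace
  set U := eigSpace ρ Z χ with hU
  let σ := subRep ρ U S (eigSpace_invariant ρ)
  have hσv : ∀ (g : S) (v : U), ((σ g v : U) : W) = ρ (g : H) (v : W) := fun _ _ => rfl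
  haveI : Nontrivial U := Submodule.nontrivial_iff_ne_bot.2 fun e => hf0 (by
    have : f ∈ U := hf
    rwa [e, Submodule.mem_bot] at this)
  let bs : S := ⟨b, hbS⟩
  have hbfix : ∀ v : U, σ bs v = v → v = 0 := by
    intro v hv
    by_contra hv0
    obtain ⟨w, hw0, hw⟩ := ShultGross.exists_fixed_of_free ρ hZk (pow_pos (by norm_num) j) haZ v.2
      (fun e => hv0 (Subtype.ext e)) (congrArg Subtype.val hv) hfreej
    exact hw0 (hfix w hw)
  let ρR : R →* Module.End k U := σ.comp (inclusion hRS)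
  have hρR : ∀ (x : R) (v : U), ((ρR x v : U) : W) = ρ (x : H) (v : W) := fun _ _ => rfl
  have hρZ : ∀ (x : R) (hx : (x : H) ∈ Z), ρR x = (χ ⟨x, hx⟩ : k) • 1 := fun x hx =>
    LinearMap.ext fun v => Subtype.ext (v.2 ⟨x, hx⟩)
  have hxy : ∀ x y : R, ρR (x * y) = (P x y : k) • ρR (y * x) := by
    intro x y
    rw [show x * y = ⁅x, y⁆ * (y * x) by rw [commutatorElement_def]; group, map_mul ρR ⁅x, y⁆,
      hρZ ⁅x, y⁆ (by
        rw [← R.subtype_apply, map_commutatorElement]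
        exact hP.comm _ x.2 _ y.2),
      smul_mul_assoc, one_mul]
    rfl
  have hPcomm : ∀ x y : R, ρR (x * y) = ρR (y * x) ↔ P x y = 1 := fun x y => by
    rw [hxy x y]
    refine ⟨fun h => Units.ext (smul_rep_inj ρR (c := (P x y : k)) (d := 1) (x := y * x) ?_), fun h => ?_⟩
    · rw [one_smul]; exact h
    · rw [h, Units.val_one, one_smul]
  have hu : ∀ x : R, σ bs * ρR x = ρR (σb x) * σ bs := fun x => LinearMap.ext fun v => Subtype.ext (by
    rw [Module.End.mul_apply, Module.End.mul_apply, hσv, hρR, hρR, hσv, hσbv, ← rep_mul_apply,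
      ← rep_mul_apply, inv_mul_cancel_right])
  have hbs : bs ^ 2 ^ (m + 1) = 1 := Subtype.ext hbq
  -- the radical in the inverted part acts by scalars
  have hscal : ∀ x ∈ Em, P x = 1 → x ∈ scalarSub ρR := by
    intro x hx hPx
    have hz2 : ((τ x * x : R) : H) ∈ Z := (hEm x).1 hx
    obtain ⟨c', hc'⟩ := hrodd
    let c0 : k := (χ ⟨_, hz2⟩ : k)
    let c1 : k := (χ ⟨(x : H) ^ r, hpow _ x.2⟩ : k)
    refine ⟨(c0 ^ c')⁻¹ * c1, sub_eq_zero.1 ?_⟩
    let Rd : Subgroup S := P.ker.map (inclusion hRS)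
    haveI := Fintype.ofFinite Rd
    have hRdk : (Fintype.card Rd : k) ≠ 0 := by
      rw [← Nat.card_eq_fintype_card, card_map_of_injective (inclusion_injective hRS),
        ← card_map_of_injective R.subtype_injective]
      exact hcardk (map_subtype_le _)
    have hRdi : ImgComm σ Rd := by
      rintro _ ⟨u, hu, rfl⟩ _ ⟨v, hv, rfl⟩
      rw [← map_mul, ← map_mul]
      exact (hPcomm u v).2 (by rw [MonoidHom.mem_ker.1 hu, MonoidHom.one_apply])
    have hker : ∀ u ∈ P.ker, σb u ∈ P.ker := fun u hu => by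
      rw [MonoidHom.mem_ker] at hu ⊢
      refine MonoidHom.ext fun y => ?_
      obtain ⟨y, rfl⟩ := σb.surjective y
      rw [hPb, hu, MonoidHom.one_apply, MonoidHom.one_apply]
    have hbRd : bs ∈ normalizer (Rd : Set S) := by
      refine mem_normalizer_fintype ?_
      rintro _ ⟨u, hu, rfl⟩
      exact ⟨σb u, hker u hu, Subtype.ext (hσbv u)⟩
    refine eq_zero_of_forall_eigen σ hRdi hRdk _ ?_ ?_
    · rintro _ ⟨u, hu, rfl⟩ v
      show (ρR x - _ : Module.End k U) (ρR u v) = ρR u ((ρR x - _ : Module.End k U) v)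
      rw [LinearMap.sub_apply, LinearMap.sub_apply, map_sub, LinearMap.smul_apply, LinearMap.smul_apply,
        Module.End.one_apply, Module.End.one_apply, map_smul, ← Module.End.mul_apply,
        ← Module.End.mul_apply, ← map_mul, ← map_mul,
        (hPcomm x u).2 (by rw [hPx, MonoidHom.one_apply])]
    intro μ g hg
    by_cases hg0 : g = 0
    · rw [hg0, map_zero]
    obtain ⟨htn, htμ⟩ := socle_mem_charStab σ hRdk Nat.prime_two hbs hbRd hbfix hg hg0
    have hxR : inclusion hRS x ∈ Rd := mem_map_of_mem _ hPx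
    have hτR : inclusion hRS (τ x) ∈ Rd := mem_map_of_mem _ (by
      rw [MonoidHom.mem_ker, hPEm x hx, hPx]; exact MonoidHom.ext fun _ => inv_one)
    have hμ : μ ⟨_, hτR⟩ = μ ⟨_, hxR⟩ := by
      have e1 := DFunLike.congr_fun htμ ⟨_, hτR⟩
      rw [twist_apply] at e1
      rw [← e1]
      refine congrArg μ (Subtype.ext (Subtype.ext ?_))
      show ((bs ^ 2 ^ m : S) : H)⁻¹ * ((τ x : R) : H) * ((bs ^ 2 ^ m : S) : H) = (x : H)
      rw [SubgroupClass.coe_pow, show ((bs : S) : H) = b from rfl, hbm, hτv]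
      group
    have key : ∀ (z : R) (hz : (z : H) ∈ Z) (hzR : inclusion hRS z ∈ Rd),
        (μ ⟨_, hzR⟩ : k) = (χ ⟨z, hz⟩ : k) := by
      intro z hz hzR
      refine smul_left_injective k hg0 ?_
      show (μ ⟨_, hzR⟩ : k) • g = (χ ⟨z, hz⟩ : k) • g
      rw [← hg ⟨_, hzR⟩]
      show ρR z g = _
      rw [hρZ z hz]
      rfl
    set e : kˣ := μ ⟨_, hxR⟩ with he
    have h0 : ((e * e : kˣ) : k) = c0 := by
      have := key (τ x * x) hz2 (by rw [map_mul]; exact mul_mem hτR hxR)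
      refine Eq.trans ?_ this
      refine congrArg Units.val ?_
      calc e * e = μ ⟨_, hτR⟩ * μ ⟨_, hxR⟩ := by rw [hμ]
        _ = _ := by
          rw [← map_mul μ]
          exact congrArg μ (Subtype.ext (map_mul _ _ _).symm)
    have h1 : ((e ^ r : kˣ) : k) = c1 := by
      have := key (x ^ r) (hpow _ x.2) (by rw [map_pow]; exact pow_mem hxR _)
      refine Eq.trans ?_ this
      rw [he, ← map_pow μ]
      exact congrArg (fun z => ((μ z : kˣ) : k)) (Subtype.ext (map_pow _ _ _).symm)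
    have hec : ((c0 ^ c')⁻¹ * c1 : k) = (e : k) := by
      rw [← h0, ← h1, hc', ← Units.val_pow_eq_pow_val, ← Units.val_inv_eq_inv_val, ← Units.val_mul]
      refine congrArg Units.val ?_
      rw [pow_succ, pow_mul, pow_two, ← mul_assoc, inv_mul_cancel, one_mul]
    rw [LinearMap.sub_apply, LinearMap.smul_apply, Module.End.one_apply, hec, sub_eq_zero]
    exact hg ⟨_, hxR⟩
  -- the count
  let ρE : Em →* Module.End k U := ρR.comp Em.subtype
  have hscE : ∀ x : Em, x ∈ scalarSub ρE ↔ P (x : R) = 1 := by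
    intro x
    refine ⟨fun hx => hsq1 _ fun y => ?_, fun hx => hscal _ x.2 hx⟩
    obtain ⟨h1, h2, h3⟩ := hsplit y
    have hcomm : P (x : R) ((τ y)⁻¹ * y) = 1 := by
      obtain ⟨c, hc⟩ := hx
      have hc' : ρR (x : R) = c • 1 := hc
      rw [← hPcomm, map_mul ρR (x : R), map_mul ρR _ (x : R), hc', smul_mul_assoc, one_mul, mul_smul_comm, mul_one]
    have horth' := horth _ x.2 _ h2
    rw [← map_mul (P (x : R)) y y]
    have hswap : ∀ z, P (x : R) z = (P z (x : R))⁻¹ := fun z =>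
      eq_inv_iff_mul_eq_one.2 (hP.pairing_swap χ _ _)
    rw [hswap] at hcomm horth' ⊢
    rw [inv_eq_one] at hcomm horth' ⊢
    rw [map_mul, ← h3, MonoidHom.mul_apply, hcomm, horth', one_mul]
  have hE : ClassTwo ρE := fun x y => ⟨χ ⟨_, hP.comm _ (x : R).2 _ (y : R).2⟩, by
    show ρR ((x * y * x⁻¹ * y⁻¹ : Em) : R) = _
    exact hρZ _ (hP.comm _ (x : R).2 _ (y : R).2)⟩
  have hnd : Nondeg ρE := by
    intro x hx
    rw [hscE]
    refine hsq1 _ fun y => ?_
    obtain ⟨h1, h2, h3⟩ := hsplit y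
    have hcomm : P (x : R) ((τ y)⁻¹ * y) = 1 := (hPcomm _ _).1 (hx ⟨_, h1⟩)
    have horth' := horth _ x.2 _ h2
    rw [← map_mul (P (x : R)) y y]
    have hswap : ∀ z, P (x : R) z = (P z (x : R))⁻¹ := fun z =>
      eq_inv_iff_mul_eq_one.2 (hP.pairing_swap χ _ _)
    rw [hswap] at hcomm horth' ⊢
    rw [inv_eq_one] at hcomm horth' ⊢
    rw [map_mul, ← h3, MonoidHom.mul_apply, hcomm, horth', one_mul]
  haveI := scalarSub_normal ρE
  have hmk : (Nat.card (ScalarQuot ρE) : k) ≠ 0 := by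
    obtain ⟨e, he⟩ := IsPGroup.iff_card.1 ((hR.to_subgroup Em).to_quotient (scalarSub ρE))
    rw [show Nat.card (ScalarQuot ρE) = r ^ e from he, Nat.cast_pow]
    exact pow_ne_zero _ hrk
  have hmap : Em.map σb.toMonoidHom = Em :=
    eq_of_le_of_card_ge (map_le_iff_le_comap.2 hEmσ) (card_map_of_injective σb.injective).ge
  let σE : Em ≃* Em := ((σb : R ≃* R).subgroupMap Em).trans (MulEquiv.subgroupCongr hmap)
  have hσE : ∀ x : Em, ((σE x : Em) : R) = σb x := fun x => rfl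
  have hσEi : ∀ (i : ℕ) (x : Em), ((σE^[i] x : Em) : R) = σb^[i] x := by
    intro i
    induction i with
    | zero => intro x; rfl
    | succ i ih => intro x; rw [Function.iterate_succ_apply', Function.iterate_succ_apply', hσE, ih]
  have hσEq : ∀ x, σE^[2 ^ (m + 1)] x = x := fun x => Subtype.ext (Subtype.ext (by
    rw [hσEi, hσpow, hbq, one_mul, inv_one, mul_one]))
  have huq : σ bs ^ 2 ^ (m + 1) = 1 := by rw [← map_pow, hbs, map_one]
  have hτE : ∀ x : Em, ((σE^[2 ^ m] x : Em) : R) = τ x := fun x => Subtype.ext (by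
    rw [hσEi, hσpow, hτv, hbm])
  have hfpf : ∀ x : Em, x⁻¹ * σE^[2 ^ m] x ∈ scalarSub ρE → x ∈ scalarSub ρE := by
    intro x hx
    rw [hscE] at hx ⊢
    rw [coe_mul, coe_inv, map_mul, map_inv, hτE, hPEm _ x.2] at hx
    refine hsq1 _ fun y => ?_
    have h1 : (P (x : R) y)⁻¹ * (P (x : R) y)⁻¹ = 1 := DFunLike.congr_fun hx y
    rwa [← mul_inv, inv_eq_one] at h1
  have hne : scalarSub ρE ≠ ⊤ := by
    intro e
    refine hnot fun x => ?_
    obtain ⟨h1, -, -⟩ := hsplit x
    have h : P ((τ x)⁻¹ * x) = 1 := (hscE ⟨_, h1⟩).1 (e ▸ mem_top _)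
    rw [map_mul, map_inv, inv_mul_eq_one] at h
    exact h
  have h2qk : ((2 ^ (m + 1) : ℕ) : k) ≠ 0 := by rw [Nat.cast_pow, Nat.cast_ofNat]; exact pow_ne_zero _ h2k
  obtain ⟨d, hd, hqd⟩ := ShultGross.hh_core ρE hE hnd hmk Nat.prime_two (m := m) rfl h2qk σE hσEq
    (σ bs) huq (fun x => hu x) hbfix hfpf hne
  -- `d = r`
  obtain ⟨e, he⟩ := IsPGroup.iff_card.1 ((hR.to_subgroup Em).to_quotient (scalarSub ρE))
  obtain ⟨i, -, hi⟩ := (Nat.dvd_prime_pow hr).1
    (show d ∣ r ^ e from he ▸ (hd.symm ▸ dvd_mul_right d d : d ∣ Nat.card (ScalarQuot ρE)))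
  have hi0 : i ≠ 0 := fun h0 => hne (by
    rw [hi, h0, pow_zero, mul_one] at hd
    refine index_eq_one.1 ?_
    rw [index_eq_card]; exact hd)
  have hi1 : i = 1 := eq_one_of_pow_succ_eq_two_pow hr3 hrodd hi0 (hi ▸ hqd)
  rw [hi1, pow_one] at hi
  subst d
  have hm1 : 1 ≤ m := by
    by_contra h
    rw [show m = 0 by omega] at hqd
    omega
  -- the stabiliser is proper
  have hj1 : 1 ≤ j := by
    by_contra h
    have hj0 : j = 0 := by omega
    obtain ⟨hbn, hbχ⟩ := hbS
    have hχ1 : ∀ z, χ z = 1 := by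
      let g : Z → Z := fun z => ⟨(z : H)⁻¹ * (a * z * a⁻¹),
        mul_mem (inv_mem z.2) ((mem_normalizer_iff.1 haZ _).1 z.2)⟩
      have hg : Function.Injective g := by
        intro z z' e
        have e' : (z : H)⁻¹ * (a * z * a⁻¹) = (z' : H)⁻¹ * (a * z' * a⁻¹) := congrArg Subtype.val e
        have h1 : a * ((z' : H) * (z : H)⁻¹) * a⁻¹ = (z' : H) * (z : H)⁻¹ := by
          calc a * ((z' : H) * (z : H)⁻¹) * a⁻¹ = (z' : H) * ((z' : H)⁻¹ * (a * z' * a⁻¹)) *
                ((z : H)⁻¹ * (a * z * a⁻¹))⁻¹ * (z : H)⁻¹ := by group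
            _ = (z' : H) * (z : H)⁻¹ := by rw [← e']; group
        exact Subtype.ext (mul_inv_eq_one.1 (hfpZ _ (mul_mem z'.2 (inv_mem z.2)) h1)).symm
      intro z
      obtain ⟨w, rfl⟩ := Finite.injective_iff_surjective.1 hg z
      have e1 := DFunLike.congr_fun hbχ ⟨a * (w : H) * a⁻¹, (mem_normalizer_iff.1 haZ _).1 w.2⟩
      rw [twist_apply] at e1
      have e2 : χ w = χ ⟨a * (w : H) * a⁻¹, (mem_normalizer_iff.1 haZ _).1 w.2⟩ := by
        rw [← e1]
        refine congrArg χ (Subtype.ext ?_)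
        show (w : H) = b⁻¹ * (a * w * a⁻¹) * b
        rw [hb, hj0, pow_zero, pow_one]
        group
      have e3 : g w = w⁻¹ * ⟨a * (w : H) * a⁻¹, (mem_normalizer_iff.1 haZ _).1 w.2⟩ := rfl
      rw [e3, map_mul, map_inv, ← e2, inv_mul_cancel]
    refine hnot fun x => ?_
    rw [hP.pairing_eq_one_of_charStab χ hχ1, hP.pairing_eq_one_of_charStab χ hχ1]
  refine ⟨j, m, hm, hj1, hm1, hqd.symm, hbS, ?_, ?_⟩
  · -- the operator centralizes the complement
    obtain ⟨V, hV, hVu, hV0, hcom⟩ := exists_commuting_sub ρE hE hnd hmk Nat.prime_two (m := m) rfl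
      h2qk σE hσEq (σ bs) huq (fun x => hu x) hbfix hfpf hne
    haveI : Nontrivial V := Submodule.nontrivial_iff_ne_bot.2 hV0
    intro x hx
    have hfixσ : ∀ y, P (τ y) = P y → P (τ (σb y)) = P (σb y) := by
      intro y hy
      refine MonoidHom.ext fun z => ?_
      obtain ⟨z, rfl⟩ := σb.surjective z
      rw [← hστ, hPb, hPb, hy]
    have hequiv : ∀ y, P (τ y) = P y → ∀ (e : Em) (v : V),
        ρR y ((restrictRep ρE V hV e v : V) : U) = ρE e (ρR y (v : U)) := by
      intro y hy e v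
      rw [restrictRep_apply]
      show ρR y (ρR (e : R) (v : U)) = ρR (e : R) (ρR y (v : U))
      rw [← Module.End.mul_apply, ← Module.End.mul_apply, ← map_mul, ← map_mul]
      refine LinearMap.congr_fun ((hPcomm y (e : R)).2 ?_).symm _ |>.symm
      have h1 := hP.pairing_swap χ y (e : R)
      rw [← hPdef, horth _ e.2 _ hy, mul_one] at h1
      exact h1
    have hcom' : ∀ y, P (τ y) = P y → ∀ v : V,
        σ bs (ρR y (v : U)) = ρR y (σ bs (v : U)) := fun y hy v =>
      hcom ((ρR y).comp V.subtype) (fun e v => hequiv y hy e v) v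
    -- `x⁻¹ σb x` fixes all translates of `V`
    have hfixV : ∀ y, P (τ y) = P y → ∀ v : V, ρR (x⁻¹ * σb x) (ρR y (v : U)) = ρR y (v : U) := by
      intro y hy v
      obtain ⟨w, hw⟩ : ∃ w : V, σ bs (w : U) = (v : U) := by
        refine ⟨⟨(σ bs ^ (2 ^ (m + 1) - 1)) (v : U), ?_⟩, ?_⟩
        · generalize 2 ^ (m + 1) - 1 = i
          induction i with
          | zero => exact v.2
          | succ i ih => rw [pow_succ', Module.End.mul_apply]; exact hVu _ ih
        · show σ bs ((σ bs ^ (2 ^ (m + 1) - 1)) (v : U)) = (v : U)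
          rw [← Module.End.mul_apply, ← pow_succ', Nat.sub_add_cancel Nat.one_le_two_pow, huq,
            Module.End.one_apply]
      have h1 : σ bs (ρR x (ρR y (w : U))) = ρR x (σ bs (ρR y (w : U))) := by
        have hxy' : P (τ (x * y)) = P (x * y) := by rw [map_mul, map_mul, hx, hy, map_mul]
        have e1 := hcom' (x * y) hxy' w
        rw [map_mul, Module.End.mul_apply, Module.End.mul_apply, ← hcom' y hy w] at e1
        exact e1
      rw [← hw, ← hcom' y hy w, map_mul, Module.End.mul_apply]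
      rw [← Module.End.mul_apply (f := σ bs) (g := ρR x), hu x, Module.End.mul_apply] at h1
      rw [h1, ← Module.End.mul_apply, ← map_mul, inv_mul_cancel, map_one, Module.End.one_apply]
    set ξ := x⁻¹ * σb x with hξ
    have hξfix : P (τ ξ) = P ξ := by
      rw [hξ, map_mul, map_inv, map_mul, map_inv, hx, hfixσ x hx, map_mul, map_inv]
    have hξ1 : P ξ = 1 := by
      refine hsq1 _ fun y => ?_
      obtain ⟨h1, h2, h3⟩ := hsplit y
      have hswap : ∀ z, P ξ z = (P z ξ)⁻¹ := fun z =>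
        eq_inv_iff_mul_eq_one.2 (hP.pairing_swap χ _ _)
      have ha1 : P ((τ y)⁻¹ * y) ξ = 1 := horth _ h1 _ hξfix
      have ha2 : P ξ (τ y * y) = 1 := by
        set z := τ y * y
        obtain ⟨v, hv⟩ := exists_ne (0 : V)
        have hvU : (v : U) ≠ 0 := fun e => hv (Subtype.ext e)
        have hz' : P (τ z⁻¹) = P z⁻¹ := by rw [map_inv, map_inv, map_inv, h2]
        have e1 : ρR ξ (v : U) = (v : U) := by
          have := hfixV 1 (by rw [map_one]) v
          rwa [map_one, Module.End.one_apply] at this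
        have e2 : ρR (ξ * z) (ρR z⁻¹ (v : U)) = (v : U) := by
          rw [← Module.End.mul_apply, ← map_mul, mul_inv_cancel_right, e1]
        have e3 : ρR (z * ξ) (ρR z⁻¹ (v : U)) = (v : U) := by
          rw [map_mul, Module.End.mul_apply, hfixV z⁻¹ hz' v, ← Module.End.mul_apply, ← map_mul,
            mul_inv_cancel, map_one, Module.End.one_apply]
        rw [hxy ξ z, LinearMap.smul_apply, e3] at e2
        exact Units.ext (smul_left_injective k hvU (e2.trans (one_smul k _).symm))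
      rw [← map_mul (P ξ) y y]
      rw [hswap] at ha2 ⊢
      rw [inv_eq_one] at ha2 ⊢
      rw [map_mul P y y, ← h3, MonoidHom.mul_apply, ha1, ha2, one_mul]
    rw [hξ, map_mul, map_inv, inv_mul_eq_one] at hξ1
    exact hξ1.symm
  · -- the plane
    set F := fixedMod P τ with hF
    haveI : F.Normal := MonoidHom.normal_ker _
    let g : Em →* R ⧸ F := (QuotientGroup.mk' F).comp Em.subtype
    have hsur : Function.Surjective g := by
      intro v
      obtain ⟨x, rfl⟩ := QuotientGroup.mk_surjective v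
      obtain ⟨h1, h2, h3⟩ := hsplit x
      obtain ⟨c', hc'⟩ := hrodd
      refine ⟨(⟨_, h1⟩ : Em) ^ (c' + 1), ?_⟩
      rw [map_pow]
      show (QuotientGroup.mk' F ((τ x)⁻¹ * x)) ^ (c' + 1) = QuotientGroup.mk' F x
      have e0 : QuotientGroup.mk' F ((τ x)⁻¹ * x) = QuotientGroup.mk' F (x * x) := by
        rw [QuotientGroup.mk'_apply, QuotientGroup.mk'_apply, QuotientGroup.eq, hF, mem_fixedMod]
        have e1 : P (((τ x)⁻¹ * x)⁻¹ * (x * x)) = P (τ x * x) := by
          rw [map_mul, map_inv, map_mul P x x, ← h3, inv_mul_cancel_left]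
        rw [← div_eq_one]
        have e2 : ∀ z z' : R, P z = P z' → P (τ z) / P z = P (τ z') / P z' := by
          intro z z' hzz
          have : P (τ z) = P (τ z') := MonoidHom.ext fun y => by
            obtain ⟨y, rfl⟩ := τ.surjective y
            rw [hPτ, hPτ, hzz]
          rw [this, hzz]
        rw [e2 _ _ e1, h2]
        exact div_self' (P (τ x * x))
      have hxr : QuotientGroup.mk' F (x ^ r) = 1 := by
        rw [QuotientGroup.mk'_apply, QuotientGroup.eq_one_iff, hF, mem_fixedMod]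
        have hz : P (x ^ r) = 1 := hP.pairing_eq_one_of_mem χ (hpow _ x.2)
        refine MonoidHom.ext fun y => ?_
        obtain ⟨y, rfl⟩ := τ.surjective y
        rw [hPτ, hz, MonoidHom.one_apply, MonoidHom.one_apply]
      rw [e0, map_mul, ← pow_two, ← pow_mul, show 2 * (c' + 1) = r + 1 by omega, pow_succ, ← map_pow,
        hxr, one_mul]
    have hle : scalarSub ρE ≤ g.ker := by
      intro x hx
      rw [MonoidHom.mem_ker]
      show QuotientGroup.mk' F (x : R) = 1
      rw [QuotientGroup.mk'_apply, QuotientGroup.eq_one_iff, hF, mem_fixedMod, hPEm _ x.2,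
        (hscE x).1 hx]
      exact MonoidHom.ext fun _ => inv_one
    haveI := scalarSub_normal ρE
    calc F.index = Nat.card (R ⧸ F) := index_eq_card F
      _ ≤ Nat.card (ScalarQuot ρE) := Nat.card_le_card_of_surjective (QuotientGroup.lift _ g hle)
          (QuotientGroup.lift_surjective_of_surjective _ g hsur hle)
      _ = r * r := hd

end CfsgLib.PGroup.GrossTwo
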