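import Cfsg.Agent.Lib.PGroup.GrossTwo.Dichotomy
import Cfsg.Agent.Lib.PGroup.ModularB.Reduce

/-!
# The action of a `2`-power operator of deficient degree on a group of class two

In characteristic two, for an operator whose degree is smaller than its order and an eigencharacter of
the centre, the involution of the operator either centralizes the commutator pairing, or it inverts a
plane and a power of the operator centralizes a complement of it.
-/

set_option autoImplicit false
set_option linter.style.haveILetI false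
set_option linter.unusedSectionVars false
set_option maxHeartbeats 1600000

namespace CfsgLib.PGroup.GrossTwo

open CfsgLib.PGroup
open Subgroup
open scoped commutatorElement

universe u v w

variable {H : Type u} [Group H] [Finite H] {k : Type v} [Field k] [IsAlgClosed k] {W : Type w}
  [AddCommGroup W] [Module k W] [FiniteDimensional k W]

/-- Equivariant maps out of an invariant irreducible constituent commute with a unipotent operator. -/
theorem exists_commuting_sub_unipotent {E : Type u} [Group E] [Finite E] (ρ : E →* Module.End k W)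
    [Nontrivial W] (hE : ClassTwo ρ) (hnd : Nondeg ρ) (hm : (Nat.card (ScalarQuot ρ) : k) ≠ 0)
    {q₀ m : ℕ} [CharP k q₀] (hq : q₀.Prime) {q : ℕ} (hN : q = q₀ ^ (m + 1)) (σ : E ≃* E)
    (hσq : ∀ x, σ^[q] x = x) (u : Module.End k W) (huq : u ^ q = 1)
    (hu : ∀ x, u * ρ x = ρ (σ x) * u) (hdeg : (u - 1) ^ (q - 1) = 0)
    (hfpf : ∀ x, x⁻¹ * σ^[q₀ ^ m] x ∈ scalarSub ρ → x ∈ scalarSub ρ) (hne : scalarSub ρ ≠ ⊤) :
    ∃ (V : Submodule k W) (hV : ∀ x : E, ∀ w ∈ V, ρ x w ∈ V) (hVu : ∀ w ∈ V, u w ∈ V), V ≠ ⊥ ∧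
      ∀ h : V →ₗ[k] W, (∀ x v, h (restrictRep ρ V hV x v) = ρ x (h v)) →
        ∀ v : V, u (h v) = h ⟨u v, hVu v v.2⟩ := by
  classical
  haveI := Fact.mk hq
  have hN1 : 1 < q := hN ▸ Nat.one_lt_pow (Nat.succ_ne_zero m) hq.one_lt
  obtain ⟨V, hV, hV0, hVu, hirr⟩ := exists_irred_inv_sub ρ hE hnd hm (zero_lt_one.trans hN1) σ u huq hu
  haveI : Nontrivial V := Submodule.nontrivial_iff_ne_bot.2 hV0
  refine ⟨V, hV, hVu, hV0, ?_⟩
  set ρV := restrictRep ρ V hV with hρV
  have hsub : scalarSub ρV = scalarSub ρ := scalarSub_restrictRep ρ hE hnd hV hV0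
  have hEV : ClassTwo ρV := fun x y => hsub.symm ▸ hE x y
  have hndV : Nondeg ρV := fun x hx => by
    rw [hsub]
    refine hnd x fun y => (chi_eq_one_iff ρ hE y x).1 ?_
    have e : ρ (x * y) = chi ρ hE y x • ρ (y * x) := by
      rw [show x * y = (x * y * x⁻¹) * x by group, map_mul, chi_spec ρ hE, smul_mul_assoc, ← map_mul]
    refine smul_rep_inj ρV (x := y * x) ?_
    refine LinearMap.ext fun w => Subtype.ext ?_
    have h2 := congrArg (fun X : Module.End k V => ((X w : V) : W)) (hx y)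
    simp only [hρV, restrictRep_apply, e, LinearMap.smul_apply] at h2
    simpa [hρV, restrictRep_apply] using h2
  have hmV : (Nat.card (ScalarQuot ρV) : k) ≠ 0 := by
    unfold ScalarQuot at hm ⊢
    rw [hsub]; exact hm
  let B : Module.End k V := u.restrict hVu
  have hBv : ∀ v : V, ((B v : V) : W) = u v := fun v => rfl
  have hBn : ∀ (i : ℕ) (v : V), (((B ^ i) v : V) : W) = (u ^ i) v := by
    intro i
    induction i with
    | zero => intro v; rfl
    | succ i ih => intro v; rw [pow_succ', Module.End.mul_apply, hBv, ih, pow_succ', Module.End.mul_apply]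
  have hBq : B ^ q = 1 := LinearMap.ext fun v => Subtype.ext (by rw [hBn, huq]; rfl)
  have hBσ : ∀ x, B * ρV x = ρV (σ x) * B := fun x => LinearMap.ext fun v => Subtype.ext (by
    rw [Module.End.mul_apply, Module.End.mul_apply, hBv, restrictRep_apply, restrictRep_apply, hBv]
    exact LinearMap.congr_fun (hu x) _)
  have hNn : ∀ (i : ℕ) (v : V), ((((B - 1) ^ i) v : V) : W) = ((u - 1) ^ i) v := by
    intro i
    induction i with
    | zero => intro v; rfl
    | succ i ih =>
      intro v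
      rw [pow_succ', Module.End.mul_apply, LinearMap.sub_apply, Module.End.one_apply, Submodule.coe_sub,
        hBv, ih, pow_succ', Module.End.mul_apply, LinearMap.sub_apply, Module.End.one_apply]
  obtain ⟨-, -, -, hblock⟩ := ModularB.hh_core ρV hEV hndV hmV hq hN σ hσq B hBq hBσ
    (LinearMap.ext fun v => Subtype.ext (by rw [hNn, hdeg]; rfl))
    (fun x hx => hsub.symm ▸ hfpf x (hsub ▸ hx)) (hsub.symm ▸ hne)
  let Binv : Module.End k V := B ^ (q - 1)
  have hB1 : B * Binv = 1 := by rw [← pow_succ', Nat.sub_add_cancel hN1.le, hBq]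
  have hB2 : Binv * B = 1 := by rw [← pow_succ, Nat.sub_add_cancel hN1.le, hBq]
  let Hm : Submodule k (V →ₗ[k] W) :=
    { carrier := {h | ∀ x v, h (ρV x v) = ρ x (h v)}
      add_mem' := fun {h h'} hh hh' x v => by
        rw [LinearMap.add_apply, LinearMap.add_apply, hh, hh', map_add]
      zero_mem' := fun x v => by simp
      smul_mem' := fun c h hh x v => by
        rw [LinearMap.smul_apply, LinearMap.smul_apply, hh, map_smul] }
  let L₀ : Module.End k (V →ₗ[k] W) :=
    { toFun := fun h => u.comp (h.comp Binv)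
      map_add' := fun h h' => by simp [LinearMap.add_comp, LinearMap.comp_add]
      map_smul' := fun c h => by simp [LinearMap.smul_comp, LinearMap.comp_smul] }
  have hL : ∀ h ∈ Hm, L₀ h ∈ Hm := by
    intro h hh x v
    show u (h (Binv (ρV x v))) = ρ x (u (h (Binv v)))
    have e : Binv * ρV x = ρV (σ.symm x) * Binv := by
      calc Binv * ρV x = Binv * (ρV x * B) * Binv := by rw [mul_assoc, mul_assoc, hB1, mul_one]
        _ = Binv * (B * ρV (σ.symm x)) * Binv := by rw [hBσ, MulEquiv.apply_symm_apply]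
        _ = ρV (σ.symm x) * Binv := by rw [← mul_assoc, hB2, one_mul]
    rw [show Binv (ρV x v) = ρV (σ.symm x) (Binv v) from LinearMap.congr_fun e v, hh]
    have := LinearMap.congr_fun (hu (σ.symm x)) (h (Binv v))
    simpa using this
  have hL₀pow : ∀ (i : ℕ) (h : V →ₗ[k] W) (v : V), ((L₀ ^ i) h) v = (u ^ i) (h ((Binv ^ i) v)) := by
    intro i
    induction i with
    | zero => intro h v; rfl
    | succ i ih =>
      intro h v
      rw [pow_succ', Module.End.mul_apply]
      show u (((L₀ ^ i) h) (Binv v)) = _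
      rw [ih, pow_succ', Module.End.mul_apply, pow_succ Binv, Module.End.mul_apply]
  have hnil : (L₀ - 1 : Module.End k (V →ₗ[k] W)) ^ q = 0 := by
    rw [hN, ModularB.sub_one_pow_prime_pow (k := k), ← hN, sub_eq_zero]
    refine LinearMap.ext fun h => LinearMap.ext fun v => ?_
    rw [hL₀pow, huq, show Binv ^ q = 1 by rw [← pow_mul, mul_comm, pow_mul, hBq, one_pow]]
    rfl
  intro h hh v
  suffices hfix : L₀ h = h by
    have h1 : u (h (Binv (B v))) = h (B v) := LinearMap.congr_fun hfix (B v)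
    rwa [show Binv (B v) = v from LinearMap.congr_fun hB2 v] at h1
  by_contra hne'
  have hmem : ∀ i : ℕ, ((L₀ - 1 : Module.End k (V →ₗ[k] W)) ^ i) h ∈ Hm := by
    intro i
    induction i with
    | zero => exact hh
    | succ i ih =>
      rw [pow_succ', Module.End.mul_apply, LinearMap.sub_apply, Module.End.one_apply]
      exact Submodule.sub_mem _ (hL _ ih) ih
  obtain ⟨s, hs1, hs2⟩ : ∃ s, ((L₀ - 1 : Module.End k (V →ₗ[k] W)) ^ (s + 1)) h ≠ 0 ∧ ((L₀ - 1 : Module.End k (V →ₗ[k] W)) ^ (s + 2)) h = 0 := by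
    have hex : ∃ i, ((L₀ - 1 : Module.End k (V →ₗ[k] W)) ^ i) h = 0 := ⟨q, by rw [hnil, LinearMap.zero_apply]⟩
    have h0 : Nat.find hex ≠ 0 := fun e => hne' (by
      have := Nat.find_spec hex
      rw [e, pow_zero, Module.End.one_apply] at this
      rw [this, map_zero])
    have h1 : Nat.find hex ≠ 1 := fun e => hne' (by
      have := Nat.find_spec hex
      rwa [e, pow_one, LinearMap.sub_apply, Module.End.one_apply, sub_eq_zero] at this)
    refine ⟨Nat.find hex - 2, Nat.find_min hex (by omega), ?_⟩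
    rw [show Nat.find hex - 2 + 2 = Nat.find hex by omega]
    exact Nat.find_spec hex
  obtain ⟨h0, h0def⟩ : ∃ h0, h0 = ((L₀ - 1 : Module.End k (V →ₗ[k] W)) ^ s) h := ⟨_, rfl⟩
  obtain ⟨h1, h1def⟩ : ∃ h1, h1 = ((L₀ - 1 : Module.End k (V →ₗ[k] W)) ^ (s + 1)) h := ⟨_, rfl⟩
  have hL0 : L₀ h0 = h1 + h0 := by
    rw [h1def, h0def, pow_succ', Module.End.mul_apply, LinearMap.sub_apply, Module.End.one_apply,
      sub_add_cancel]
  have hL1 : L₀ h1 = h1 := by
    rw [← sub_eq_zero, h1def]
    rw [pow_succ', Module.End.mul_apply, LinearMap.sub_apply, Module.End.one_apply] at hs2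
    exact hs2
  have hu1 : ∀ v, u (h1 v) = h1 (B v) := fun v => by
    have e : u (h1 (Binv (B v))) = h1 (B v) := LinearMap.congr_fun hL1 (B v)
    rwa [show Binv (B v) = v from LinearMap.congr_fun hB2 v] at e
  have hu0 : ∀ v, u (h0 v) = h1 (B v) + h0 (B v) := fun v => by
    have e : u (h0 (Binv (B v))) = (h1 + h0) (B v) := LinearMap.congr_fun hL0 (B v)
    rwa [show Binv (B v) = v from LinearMap.congr_fun hB2 v] at e
  have hpow : ∀ (i : ℕ) (v : V), ((u - 1) ^ (i + 1)) (h0 v) =
      h0 (((B - 1) ^ (i + 1)) v) + ((i + 1 : ℕ) : k) • h1 (B (((B - 1) ^ i) v)) := by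
    intro i
    induction i with
    | zero =>
      intro v
      rw [pow_one, pow_one, pow_zero, LinearMap.sub_apply, Module.End.one_apply, hu0, LinearMap.sub_apply,
        Module.End.one_apply, map_sub]
      simp only [zero_add, Nat.cast_one, one_smul]
      abel
    | succ i ih =>
      intro v
      have hcomm : ∀ w, B ((B - 1) w) = (B - 1) (B w) := fun w => by
        rw [LinearMap.sub_apply, LinearMap.sub_apply, Module.End.one_apply, Module.End.one_apply, map_sub]
      rw [pow_succ', Module.End.mul_apply, ih, map_add, map_smul, LinearMap.sub_apply,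
        Module.End.one_apply, hu0, LinearMap.sub_apply, Module.End.one_apply, hu1,
        pow_succ' (B - 1) (i + 1), Module.End.mul_apply, LinearMap.sub_apply, Module.End.one_apply,
        pow_succ' (B - 1) i, Module.End.mul_apply, hcomm, LinearMap.sub_apply, Module.End.one_apply,
        Nat.cast_succ (i + 1), add_smul, one_smul]
      simp only [map_sub, smul_sub]
      abel
  have hinj : Function.Injective h1 := by
    rw [← LinearMap.ker_eq_bot]
    refine (hirr _ fun x v hv => ?_).resolve_right fun e => hs1 (h1def ▸ LinearMap.ker_eq_top.1 e)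
    rw [LinearMap.mem_ker] at hv ⊢
    rw [h1def] at hv ⊢
    rw [hmem (s + 1) x v, hv, map_zero]
  apply hblock
  refine LinearMap.ext fun w => ?_
  have hBinj : Function.Injective B := fun a c e => by
    have := congrArg Binv e
    rwa [← Module.End.mul_apply, ← Module.End.mul_apply, hB2, Module.End.one_apply,
      Module.End.one_apply] at this
  refine hBinj (hinj ?_)
  have key := hpow (q - 2) w
  rw [show q - 2 + 1 = q - 1 by omega, hdeg, LinearMap.zero_apply] at key
  have hB0 : ((B - 1) ^ (q - 1)) w = 0 := Subtype.ext (by rw [hNn, hdeg]; rfl)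
  rw [hB0, map_zero, zero_add] at key
  have hc : ((q - 1 : ℕ) : k) ≠ 0 := by
    rw [Nat.cast_sub hN1.le, Nat.cast_one, hN, Nat.cast_pow, CharP.cast_eq_zero k q₀,
      zero_pow (Nat.succ_ne_zero m), zero_sub, neg_ne_zero]
    exact one_ne_zero
  rw [LinearMap.zero_apply, map_zero, map_zero]
  exact (smul_eq_zero.1 key.symm).resolve_left hc

variable (ρ : H →* Module.End k W)

/-- **The dichotomy.** -/
theorem dichotomy_unipotent [CharP k 2] {r n : ℕ} (hr : r.Prime) (hr2 : r ≠ 2)
    {a : H} (ha : a ^ 2 ^ (n + 1) = 1) (hdeg : (ρ a - 1) ^ (2 ^ (n + 1) - 1) = 0) {R Z : Subgroup H}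
    (hR : IsPGroup r R) (hP : ClassTwoPair R Z) (hpow : ∀ x ∈ R, x ^ r ∈ Z)
    (haR : a ∈ normalizer (R : Set H)) (haZ : a ∈ normalizer (Z : Set H))
    {χ : Z →* kˣ} {f : W} (hf : IsEigen ρ Z χ f)
    (hf0 : f ≠ 0) :
    (∀ x : R, hP.pairing χ (R.normalizerMonoidHom ⟨a ^ 2 ^ n, pow_mem haR _⟩ x) = hP.pairing χ x) ∨
      ∃ j m : ℕ, n = j + m ∧ 1 ≤ m ∧ r + 1 = 2 ^ (m + 1) ∧ a ^ 2 ^ j ∈ charStab Z χ ∧
        (∀ x : R,
          hP.pairing χ (R.normalizerMonoidHom ⟨a ^ 2 ^ n, pow_mem haR _⟩ x) = hP.pairing χ x →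
          hP.pairing χ (R.normalizerMonoidHom ⟨a ^ 2 ^ j, pow_mem haR _⟩ x) = hP.pairing χ x) ∧
        (fixedMod (hP.pairing χ) (R.normalizerMonoidHom ⟨a ^ 2 ^ n, pow_mem haR _⟩)).index ≤ r * r := by
  classical
  haveI := Fact.mk hr
  haveI := Fintype.ofFinite Z
  set P := hP.pairing χ with hPdef
  set t := a ^ 2 ^ n with ht
  set τ : MulAut R := R.normalizerMonoidHom ⟨t, pow_mem haR _⟩ with hτ
  have hτv : ∀ x : R, ((τ x : R) : H) = t * x * t⁻¹ := fun x => rfl
  refine or_iff_not_imp_left.2 fun hnot => ?_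
  have hrodd : Odd r := hr.odd_of_ne_two hr2
  have hrk : (r : k) ≠ 0 := fun e =>
    hr2 ((Nat.prime_dvd_prime_iff_eq Nat.prime_two hr).1 ((CharP.cast_eq_zero_iff k 2 r).1 e)).symm
  haveI : Fact (Nat.Prime 2) := ⟨Nat.prime_two⟩
  have hr3 : 3 ≤ r := by have := hr.two_le; omega
  have hcardk : ∀ {S : Subgroup H}, S ≤ R → (Nat.card S : k) ≠ 0 := by
    intro S hS
    obtain ⟨e, he⟩ := IsPGroup.iff_card.1 (hR.to_le hS)
    rw [he, Nat.cast_pow]
    exact pow_ne_zero _ hrk
  have hZk : (Fintype.card Z : k) ≠ 0 := by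
    rw [← Nat.card_eq_fintype_card]; exact hcardk hP.le
  have htt : t * t = 1 := by rw [ht, ← pow_add, ← two_mul, ← pow_succ', ha]
  have hττ : ∀ x, τ (τ x) = x := fun x => Subtype.ext (by
    rw [hτv, hτv]
    calc t * (t * (x : H) * t⁻¹) * t⁻¹ = (t * t) * x * (t * t)⁻¹ := by group
      _ = x := by rw [htt]; group)
  -- the stabiliser
  set S := charStab Z χ with hS
  have htS : t ∈ S := by
    by_contra hts
    refine ModularB.sub_one_pow_free ρ hZk haZ hf hf0 (fun i hi hi0 hmem => hts ?_)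
      (by rw [hdeg, LinearMap.zero_apply])
    obtain ⟨j, hj, hjm⟩ := ShultGross.exists_pow_prime_mem Nat.prime_two ha hi0 hmem
    have hjn : j ≤ n := by
      by_contra h
      have := (Nat.pow_le_pow_right (show 0 < 2 by norm_num) (show n + 1 ≤ j by omega)).trans
        (Nat.le_of_dvd (Nat.pos_of_ne_zero hi0) hj)
      omega
    rw [ht, ← Nat.add_sub_cancel' hjn, pow_add, pow_mul]
    exact pow_mem hjm _
  have hRS : R ≤ S := fun x hx => commute_mem_charStab χ fun z => hP.cen x hx z z.2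
  have hex : ∃ j, a ^ 2 ^ j ∈ S := ⟨n, htS⟩
  set j := Nat.find hex with hj
  have hbS : a ^ 2 ^ j ∈ S := Nat.find_spec hex
  obtain ⟨m, hm⟩ : ∃ m, n = j + m := ⟨n - j, by have := Nat.find_min' hex htS; omega⟩
  have hfreej : ∀ i, i < 2 ^ j → i ≠ 0 → a ^ i ∉ S := by
    intro i hi hi0 hmem
    obtain ⟨j', hj', hjm⟩ := ShultGross.exists_pow_prime_mem Nat.prime_two ha hi0 hmem
    have h1 : j ≤ j' := Nat.find_min' hex hjm
    have h2 := (Nat.pow_le_pow_right (show 0 < 2 by norm_num) h1).trans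
      (Nat.le_of_dvd (Nat.pos_of_ne_zero hi0) hj')
    omega
  set b := a ^ 2 ^ j with hb
  have hbm : b ^ 2 ^ m = t := by rw [hb, ht, ← pow_mul, ← pow_add, ← hm]
  have hbq : b ^ 2 ^ (m + 1) = 1 := by rw [pow_succ, pow_mul, hbm, sq, htt]
  set σb : MulAut R := R.normalizerMonoidHom ⟨b, pow_mem haR _⟩ with hσb
  have hσbv : ∀ x : R, ((σb x : R) : H) = b * x * b⁻¹ := fun x => rfl
  have hσpow : ∀ (i : ℕ) (x : R), ((σb^[i] x : R) : H) = b ^ i * x * (b ^ i)⁻¹ := by
    intro i
    induction i with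
    | zero => intro x; simp
    | succ i ih => intro x; rw [Function.iterate_succ_apply', hσbv, ih, pow_succ']; group
  have hστ : ∀ x, σb (τ x) = τ (σb x) := fun x => Subtype.ext (by
    rw [hσbv, hτv, hτv, hσbv, ← hbm]
    calc b * (b ^ 2 ^ m * (x : H) * (b ^ 2 ^ m)⁻¹) * b⁻¹ = (b * b ^ 2 ^ m) * x * (b * b ^ 2 ^ m)⁻¹ := by group
      _ = (b ^ 2 ^ m * b) * x * (b ^ 2 ^ m * b)⁻¹ := by rw [← pow_succ', ← pow_succ]
      _ = _ := by group)
  have hPτ : ∀ x y, P (τ x) (τ y) = P x y := hP.pairing_conj χ (pow_mem haR _) htS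
  have hPb : ∀ x y, P (σb x) (σb y) = P x y := hP.pairing_conj χ (pow_mem haR _) hbS
  have hPr : ∀ x y, P x y ^ r = 1 := hP.pairing_pow χ hpow
  -- the inverted part modulo `Z`
  let Z' : Subgroup R := Z.subgroupOf R
  haveI : Z'.Normal := ⟨fun z hz g => by
    rw [mem_subgroupOf] at hz ⊢
    rw [coe_mul, coe_mul, coe_inv, (hP.cen _ g.2 _ hz).eq, mul_inv_cancel_right]
    exact hz⟩
  letI : CommGroup (R ⧸ Z') := { (inferInstance : Group (R ⧸ Z')) with
    mul_comm := fun u v => by
      obtain ⟨x, rfl⟩ := QuotientGroup.mk_surjective u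
      obtain ⟨y, rfl⟩ := QuotientGroup.mk_surjective v
      rw [← QuotientGroup.mk_mul, ← QuotientGroup.mk_mul, QuotientGroup.eq, mem_subgroupOf]
      have h1 := hP.comm _ (inv_mem y.2) _ (inv_mem x.2)
      rwa [commutatorElement_def, inv_inv, inv_inv,
        show (y : H)⁻¹ * (x : H)⁻¹ * y * x = ((x * y : R) : H)⁻¹ * ((y * x : R) : H) by
          push_cast; group] at h1 }
  let Em : Subgroup R :=
    ((QuotientGroup.mk' Z').comp τ.toMonoidHom * QuotientGroup.mk' Z').ker
  have hEm : ∀ x, x ∈ Em ↔ (t * x * t⁻¹ : H) * x ∈ Z := by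
    intro x
    rw [MonoidHom.mem_ker, MonoidHom.mul_apply, MonoidHom.comp_apply, MulEquiv.coe_toMonoidHom,
      ← map_mul, QuotientGroup.mk'_apply, QuotientGroup.eq_one_iff, mem_subgroupOf, coe_mul, hτv]
  have hPEm : ∀ x ∈ Em, P (τ x) = (P x)⁻¹ := fun x hx => by
    refine eq_inv_of_mul_eq_one_left (a := P (τ x)) (b := P x) ?_
    rw [← map_mul]
    exact hP.pairing_eq_one_of_mem χ ((hEm x).1 hx)
  have hsq1 : ∀ x : R, (∀ y, P x y * P x y = 1) → P x = 1 := fun x h =>
    MonoidHom.ext fun y => units_eq_one_of_sq hrodd (h y) (hPr x y)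
  have horth : ∀ x ∈ Em, ∀ y, P (τ y) = P y → P x y = 1 := by
    intro x hx y hy
    refine units_eq_one_of_sq hrodd ?_ (hPr x y)
    have e2 : P (τ x) (τ y) = P (τ x) y := by
      have h1 := hP.pairing_swap χ (τ x) (τ y)
      have h2 := hP.pairing_swap χ (τ x) y
      rw [← hPdef, show P (τ y) (τ x) = P y (τ x) by rw [hy]] at h1
      exact mul_right_cancel (h1.trans h2.symm)
    have e := hPτ x y
    rw [e2, hPEm x hx, MonoidHom.inv_apply, inv_eq_iff_mul_eq_one] at e
    exact e
  have hsplit : ∀ x : R, (τ x)⁻¹ * x ∈ Em ∧ P (τ (τ x * x)) = P (τ x * x) ∧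
      P ((τ x)⁻¹ * x) * P (τ x * x) = P x * P x := by
    intro x
    refine ⟨?_, ?_, ?_⟩
    · rw [hEm, ← hτv]
      have e : (QuotientGroup.mk' Z') (τ ((τ x)⁻¹ * x) * ((τ x)⁻¹ * x)) = 1 := by
        rw [map_mul τ, map_inv τ, hττ, mul_assoc, mul_inv_cancel_left, inv_mul_cancel, map_one]
      exact mem_subgroupOf.1 ((QuotientGroup.eq_one_iff (N := Z') _).1 e)
    · rw [map_mul τ, hττ, map_mul, map_mul]
      exact mul_comm (P x) (P (τ x))
    · refine MonoidHom.ext fun y => ?_
      rw [map_mul, map_mul, map_inv]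
      show (P (τ x) y)⁻¹ * P x y * (P (τ x) y * P x y) = P x y * P x y
      rw [mul_mul_mul_comm, inv_mul_cancel, one_mul]
  have hEmσ : ∀ x ∈ Em, σb x ∈ Em := by
    intro x hx
    rw [hEm] at hx ⊢
    rw [← hτv, ← hστ, hσbv, hσbv, hτv,
      show b * (t * (x : H) * t⁻¹) * b⁻¹ * (b * x * b⁻¹) = b * (t * x * t⁻¹ * x) * b⁻¹ by group]
    exact (mem_normalizer_iff.1 (pow_mem haZ _) _).1 hx
  -- the representation on the eigenspace
  set U := eigSpace ρ Z χ with hU
  let σ := subRep ρ U S (eigSpace_invariant ρ)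
  have hσv : ∀ (g : S) (v : U), ((σ g v : U) : W) = ρ (g : H) (v : W) := fun _ _ => rfl
  haveI : Nontrivial U := Submodule.nontrivial_iff_ne_bot.2 fun e => hf0 (by
    have : f ∈ U := hf
    rwa [e, Submodule.mem_bot] at this)
  let bs : S := ⟨b, hbS⟩
  have hpowb : ∀ (e : ℕ) (v : U),
      (((((σ bs - 1 : Module.End k U)) ^ e) v : U) : W) = ((ρ a - 1) ^ (2 ^ j * e)) (v : W) := by
    intro e
    induction e with
    | zero => intro v; rfl
    | succ e he =>
      intro v
      rw [pow_succ' (σ bs - 1), Module.End.mul_apply, LinearMap.sub_apply, Module.End.one_apply,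
        Submodule.coe_sub, hσv, he, Nat.mul_succ, add_comm, pow_add, Module.End.mul_apply,
        ModularB.sub_one_pow_prime_pow (k := k) (ρ a) j, ← map_pow, LinearMap.sub_apply,
        Module.End.one_apply]
  have hbdeg : (σ bs - 1 : Module.End k U) ^ (2 ^ (m + 1) - 1) = 0 := by
    refine LinearMap.ext fun v => ?_
    rw [LinearMap.zero_apply]
    by_contra hv
    refine ModularB.sub_one_pow_free ρ hZk haZ (((σ bs - 1 : Module.End k U) ^ (2 ^ (m + 1) - 1)) v).2
      (fun e0 => hv (Subtype.ext e0)) hfreej ?_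
    rw [hpowb, ← Module.End.mul_apply, ← pow_add,
      show 2 ^ j - 1 + 2 ^ j * (2 ^ (m + 1) - 1) = 2 ^ (n + 1) - 1 by
        have := Nat.one_le_two_pow (n := j)
        have : 2 ^ j ≤ 2 ^ j * 2 ^ (m + 1) := Nat.le_mul_of_pos_right _ (Nat.two_pow_pos _)
        rw [hm, show j + m + 1 = j + (m + 1) by omega, pow_add 2 j (m + 1), Nat.mul_sub, mul_one]
        omega,
      hdeg, LinearMap.zero_apply]
  let ρR : R →* Module.End k U := σ.comp (inclusion hRS)
  have hρR : ∀ (x : R) (v : U), ((ρR x v : U) : W) = ρ (x : H) (v : W) := fun _ _ => rfl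
  have hρZ : ∀ (x : R) (hx : (x : H) ∈ Z), ρR x = (χ ⟨x, hx⟩ : k) • 1 := fun x hx =>
    LinearMap.ext fun v => Subtype.ext (v.2 ⟨x, hx⟩)
  have hxy : ∀ x y : R, ρR (x * y) = (P x y : k) • ρR (y * x) := by
    intro x y
    rw [show x * y = ⁅x, y⁆ * (y * x) by rw [commutatorElement_def]; group, map_mul ρR ⁅x, y⁆,
      hρZ ⁅x, y⁆ (by
        rw [← R.subtype_apply, map_commutatorElement]
        exact hP.comm _ x.2 _ y.2),
      smul_mul_assoc, one_mul]
    rfl
  have hPcomm : ∀ x y : R, ρR (x * y) = ρR (y * x) ↔ P x y = 1 := fun x y => by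
    rw [hxy x y]
    refine ⟨fun h => Units.ext (smul_rep_inj ρR (c := (P x y : k)) (d := 1) (x := y * x) ?_), fun h => ?_⟩
    · rw [one_smul]; exact h
    · rw [h, Units.val_one, one_smul]
  have hu : ∀ x : R, σ bs * ρR x = ρR (σb x) * σ bs := fun x => LinearMap.ext fun v => Subtype.ext (by
    rw [Module.End.mul_apply, Module.End.mul_apply, hσv, hρR, hρR, hσv, hσbv, ← rep_mul_apply,
      ← rep_mul_apply, inv_mul_cancel_right])
  have hbs : bs ^ 2 ^ (m + 1) = 1 := Subtype.ext hbq
  -- the radical in the inverted part acts by scalars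
  have hscal : ∀ x ∈ Em, P x = 1 → x ∈ scalarSub ρR := by
    intro x hx hPx
    have hz2 : ((τ x * x : R) : H) ∈ Z := (hEm x).1 hx
    obtain ⟨c', hc'⟩ := hrodd
    let c0 : k := (χ ⟨_, hz2⟩ : k)
    let c1 : k := (χ ⟨(x : H) ^ r, hpow _ x.2⟩ : k)
    refine ⟨(c0 ^ c')⁻¹ * c1, sub_eq_zero.1 ?_⟩
    let Rd : Subgroup S := P.ker.map (inclusion hRS)
    haveI := Fintype.ofFinite Rd
    have hRdk : (Fintype.card Rd : k) ≠ 0 := by
      rw [← Nat.card_eq_fintype_card, card_map_of_injective (inclusion_injective hRS),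
        ← card_map_of_injective R.subtype_injective]
      exact hcardk (map_subtype_le _)
    have hRdi : ImgComm σ Rd := by
      rintro _ ⟨u, hu, rfl⟩ _ ⟨v, hv, rfl⟩
      rw [← map_mul, ← map_mul]
      exact (hPcomm u v).2 (by rw [MonoidHom.mem_ker.1 hu, MonoidHom.one_apply])
    have hker : ∀ u ∈ P.ker, σb u ∈ P.ker := fun u hu => by
      rw [MonoidHom.mem_ker] at hu ⊢
      refine MonoidHom.ext fun y => ?_
      obtain ⟨y, rfl⟩ := σb.surjective y
      rw [hPb, hu, MonoidHom.one_apply, MonoidHom.one_apply]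
    have hbRd : bs ∈ normalizer (Rd : Set S) := by
      refine mem_normalizer_fintype ?_
      rintro _ ⟨u, hu, rfl⟩
      exact ⟨σb u, hker u hu, Subtype.ext (hσbv u)⟩
    refine eq_zero_of_forall_eigen σ hRdi hRdk _ ?_ ?_
    · rintro _ ⟨u, hu, rfl⟩ v
      show (ρR x - _ : Module.End k U) (ρR u v) = ρR u ((ρR x - _ : Module.End k U) v)
      rw [LinearMap.sub_apply, LinearMap.sub_apply, map_sub, LinearMap.smul_apply, LinearMap.smul_apply,
        Module.End.one_apply, Module.End.one_apply, map_smul, ← Module.End.mul_apply,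
        ← Module.End.mul_apply, ← map_mul, ← map_mul,
        (hPcomm x u).2 (by rw [hPx, MonoidHom.one_apply])]
    intro μ g hg
    by_cases hg0 : g = 0
    · rw [hg0, map_zero]
    have htmem : bs ^ 2 ^ m ∈ charStab Rd μ := by
      by_contra hnot'
      refine ModularB.sub_one_pow_free σ hRdk hbRd hg hg0 (fun i hi hi0 hmem => ?_)
        (by rw [hbdeg, LinearMap.zero_apply])
      obtain ⟨j', hj', hjm⟩ := ShultGross.exists_pow_prime_mem Nat.prime_two hbs hi0 hmem
      have hjm' : j' ≤ m := by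
        by_contra h
        have := (Nat.pow_le_pow_right (show 0 < 2 by norm_num) (show m + 1 ≤ j' by omega)).trans
          (Nat.le_of_dvd (Nat.pos_of_ne_zero hi0) hj')
        omega
      refine hnot' ?_
      rw [← Nat.add_sub_cancel' hjm', pow_add, pow_mul]
      exact pow_mem hjm _
    obtain ⟨htn, htμ⟩ := htmem
    have hxR : inclusion hRS x ∈ Rd := mem_map_of_mem _ hPx
    have hτR : inclusion hRS (τ x) ∈ Rd := mem_map_of_mem _ (by
      rw [MonoidHom.mem_ker, hPEm x hx, hPx]; exact MonoidHom.ext fun _ => inv_one)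
    have hμ : μ ⟨_, hτR⟩ = μ ⟨_, hxR⟩ := by
      have e1 := DFunLike.congr_fun htμ ⟨_, hτR⟩
      rw [twist_apply] at e1
      rw [← e1]
      refine congrArg μ (Subtype.ext (Subtype.ext ?_))
      show ((bs ^ 2 ^ m : S) : H)⁻¹ * ((τ x : R) : H) * ((bs ^ 2 ^ m : S) : H) = (x : H)
      rw [SubgroupClass.coe_pow, show ((bs : S) : H) = b from rfl, hbm, hτv]
      group
    have key : ∀ (z : R) (hz : (z : H) ∈ Z) (hzR : inclusion hRS z ∈ Rd),
        (μ ⟨_, hzR⟩ : k) = (χ ⟨z, hz⟩ : k) := by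
      intro z hz hzR
      refine smul_left_injective k hg0 ?_
      show (μ ⟨_, hzR⟩ : k) • g = (χ ⟨z, hz⟩ : k) • g
      rw [← hg ⟨_, hzR⟩]
      show ρR z g = _
      rw [hρZ z hz]
      rfl
    set e : kˣ := μ ⟨_, hxR⟩ with he
    have h0 : ((e * e : kˣ) : k) = c0 := by
      have := key (τ x * x) hz2 (by rw [map_mul]; exact mul_mem hτR hxR)
      refine Eq.trans ?_ this
      refine congrArg Units.val ?_
      calc e * e = μ ⟨_, hτR⟩ * μ ⟨_, hxR⟩ := by rw [hμ]
        _ = _ := by
          rw [← map_mul μ]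
          exact congrArg μ (Subtype.ext (map_mul _ _ _).symm)
    have h1 : ((e ^ r : kˣ) : k) = c1 := by
      have := key (x ^ r) (hpow _ x.2) (by rw [map_pow]; exact pow_mem hxR _)
      refine Eq.trans ?_ this
      rw [he, ← map_pow μ]
      exact congrArg (fun z => ((μ z : kˣ) : k)) (Subtype.ext (map_pow _ _ _).symm)
    have hec : ((c0 ^ c')⁻¹ * c1 : k) = (e : k) := by
      rw [← h0, ← h1, hc', ← Units.val_pow_eq_pow_val, ← Units.val_inv_eq_inv_val, ← Units.val_mul]
      refine congrArg Units.val ?_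
      rw [pow_succ, pow_mul, pow_two, ← mul_assoc, inv_mul_cancel, one_mul]
    rw [LinearMap.sub_apply, LinearMap.smul_apply, Module.End.one_apply, hec, sub_eq_zero]
    exact hg ⟨_, hxR⟩
  -- the count
  let ρE : Em →* Module.End k U := ρR.comp Em.subtype
  have hscE : ∀ x : Em, x ∈ scalarSub ρE ↔ P (x : R) = 1 := by
    intro x
    refine ⟨fun hx => hsq1 _ fun y => ?_, fun hx => hscal _ x.2 hx⟩
    obtain ⟨h1, h2, h3⟩ := hsplit y
    have hcomm : P (x : R) ((τ y)⁻¹ * y) = 1 := by
      obtain ⟨c, hc⟩ := hx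
      have hc' : ρR (x : R) = c • 1 := hc
      rw [← hPcomm, map_mul ρR (x : R), map_mul ρR _ (x : R), hc', smul_mul_assoc, one_mul, mul_smul_comm, mul_one]
    have horth' := horth _ x.2 _ h2
    rw [← map_mul (P (x : R)) y y]
    have hswap : ∀ z, P (x : R) z = (P z (x : R))⁻¹ := fun z =>
      eq_inv_iff_mul_eq_one.2 (hP.pairing_swap χ _ _)
    rw [hswap] at hcomm horth' ⊢
    rw [inv_eq_one] at hcomm horth' ⊢
    rw [map_mul, ← h3, MonoidHom.mul_apply, hcomm, horth', one_mul]
  have hE : ClassTwo ρE := fun x y => ⟨χ ⟨_, hP.comm _ (x : R).2 _ (y : R).2⟩, by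
    show ρR ((x * y * x⁻¹ * y⁻¹ : Em) : R) = _
    exact hρZ _ (hP.comm _ (x : R).2 _ (y : R).2)⟩
  have hnd : Nondeg ρE := by
    intro x hx
    rw [hscE]
    refine hsq1 _ fun y => ?_
    obtain ⟨h1, h2, h3⟩ := hsplit y
    have hcomm : P (x : R) ((τ y)⁻¹ * y) = 1 := (hPcomm _ _).1 (hx ⟨_, h1⟩)
    have horth' := horth _ x.2 _ h2
    rw [← map_mul (P (x : R)) y y]
    have hswap : ∀ z, P (x : R) z = (P z (x : R))⁻¹ := fun z =>
      eq_inv_iff_mul_eq_one.2 (hP.pairing_swap χ _ _)
    rw [hswap] at hcomm horth' ⊢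
    rw [inv_eq_one] at hcomm horth' ⊢
    rw [map_mul, ← h3, MonoidHom.mul_apply, hcomm, horth', one_mul]
  haveI := scalarSub_normal ρE
  have hmk : (Nat.card (ScalarQuot ρE) : k) ≠ 0 := by
    obtain ⟨e, he⟩ := IsPGroup.iff_card.1 ((hR.to_subgroup Em).to_quotient (scalarSub ρE))
    rw [show Nat.card (ScalarQuot ρE) = r ^ e from he, Nat.cast_pow]
    exact pow_ne_zero _ hrk
  have hmap : Em.map σb.toMonoidHom = Em :=
    eq_of_le_of_card_ge (map_le_iff_le_comap.2 hEmσ) (card_map_of_injective σb.injective).ge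
  let σE : Em ≃* Em := ((σb : R ≃* R).subgroupMap Em).trans (MulEquiv.subgroupCongr hmap)
  have hσE : ∀ x : Em, ((σE x : Em) : R) = σb x := fun x => rfl
  have hσEi : ∀ (i : ℕ) (x : Em), ((σE^[i] x : Em) : R) = σb^[i] x := by
    intro i
    induction i with
    | zero => intro x; rfl
    | succ i ih => intro x; rw [Function.iterate_succ_apply', Function.iterate_succ_apply', hσE, ih]
  have hσEq : ∀ x, σE^[2 ^ (m + 1)] x = x := fun x => Subtype.ext (Subtype.ext (by
    rw [hσEi, hσpow, hbq, one_mul, inv_one, mul_one]))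
  have huq : σ bs ^ 2 ^ (m + 1) = 1 := by rw [← map_pow, hbs, map_one]
  have hτE : ∀ x : Em, ((σE^[2 ^ m] x : Em) : R) = τ x := fun x => Subtype.ext (by
    rw [hσEi, hσpow, hτv, hbm])
  have hfpf : ∀ x : Em, x⁻¹ * σE^[2 ^ m] x ∈ scalarSub ρE → x ∈ scalarSub ρE := by
    intro x hx
    rw [hscE] at hx ⊢
    rw [coe_mul, coe_inv, map_mul, map_inv, hτE, hPEm _ x.2] at hx
    refine hsq1 _ fun y => ?_
    have h1 : (P (x : R) y)⁻¹ * (P (x : R) y)⁻¹ = 1 := DFunLike.congr_fun hx y
    rwa [← mul_inv, inv_eq_one] at h1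
  have hne : scalarSub ρE ≠ ⊤ := by
    intro e
    refine hnot fun x => ?_
    obtain ⟨h1, -, -⟩ := hsplit x
    have h : P ((τ x)⁻¹ * x) = 1 := (hscE ⟨_, h1⟩).1 (e ▸ mem_top _)
    rw [map_mul, map_inv, inv_mul_eq_one] at h
    exact h
  obtain ⟨d, hd, hqd, -⟩ := ModularB.hh_core ρE hE hnd hmk Nat.prime_two (m := m) rfl σE hσEq
    (σ bs) huq (fun x => hu x) hbdeg hfpf hne
  -- `d = r`
  obtain ⟨e, he⟩ := IsPGroup.iff_card.1 ((hR.to_subgroup Em).to_quotient (scalarSub ρE))
  obtain ⟨i, -, hi⟩ := (Nat.dvd_prime_pow hr).1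
    (show d ∣ r ^ e from he ▸ (hd.symm ▸ dvd_mul_right d d : d ∣ Nat.card (ScalarQuot ρE)))
  have hi0 : i ≠ 0 := fun h0 => hne (by
    rw [hi, h0, pow_zero, mul_one] at hd
    refine index_eq_one.1 ?_
    rw [index_eq_card]; exact hd)
  have hi1 : i = 1 := eq_one_of_pow_succ_eq_two_pow hr3 hrodd hi0 (hi ▸ hqd)
  rw [hi1, pow_one] at hi
  subst d
  have hm1 : 1 ≤ m := by
    by_contra h
    rw [show m = 0 by omega] at hqd
    omega
  refine ⟨j, m, hm, hm1, hqd.symm, hbS, ?_, ?_⟩
  · -- the operator centralizes the complement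
    obtain ⟨V, hV, hVu, hV0, hcom⟩ := exists_commuting_sub_unipotent ρE hE hnd hmk Nat.prime_two
      (m := m) rfl σE hσEq (σ bs) huq (fun x => hu x) hbdeg hfpf hne
    haveI : Nontrivial V := Submodule.nontrivial_iff_ne_bot.2 hV0
    intro x hx
    have hfixσ : ∀ y, P (τ y) = P y → P (τ (σb y)) = P (σb y) := by
      intro y hy
      refine MonoidHom.ext fun z => ?_
      obtain ⟨z, rfl⟩ := σb.surjective z
      rw [← hστ, hPb, hPb, hy]
    have hequiv : ∀ y, P (τ y) = P y → ∀ (e : Em) (v : V),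
        ρR y ((restrictRep ρE V hV e v : V) : U) = ρE e (ρR y (v : U)) := by
      intro y hy e v
      rw [restrictRep_apply]
      show ρR y (ρR (e : R) (v : U)) = ρR (e : R) (ρR y (v : U))
      rw [← Module.End.mul_apply, ← Module.End.mul_apply, ← map_mul, ← map_mul]
      refine LinearMap.congr_fun ((hPcomm y (e : R)).2 ?_).symm _ |>.symm
      have h1 := hP.pairing_swap χ y (e : R)
      rw [← hPdef, horth _ e.2 _ hy, mul_one] at h1
      exact h1
    have hcom' : ∀ y, P (τ y) = P y → ∀ v : V,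
        σ bs (ρR y (v : U)) = ρR y (σ bs (v : U)) := fun y hy v =>
      hcom ((ρR y).comp V.subtype) (fun e v => hequiv y hy e v) v
    -- `x⁻¹ σb x` fixes all translates of `V`
    have hfixV : ∀ y, P (τ y) = P y → ∀ v : V, ρR (x⁻¹ * σb x) (ρR y (v : U)) = ρR y (v : U) := by
      intro y hy v
      obtain ⟨w, hw⟩ : ∃ w : V, σ bs (w : U) = (v : U) := by
        refine ⟨⟨(σ bs ^ (2 ^ (m + 1) - 1)) (v : U), ?_⟩, ?_⟩
        · generalize 2 ^ (m + 1) - 1 = i
          induction i with
          | zero => exact v.2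
          | succ i ih => rw [pow_succ', Module.End.mul_apply]; exact hVu _ ih
        · show σ bs ((σ bs ^ (2 ^ (m + 1) - 1)) (v : U)) = (v : U)
          rw [← Module.End.mul_apply, ← pow_succ', Nat.sub_add_cancel Nat.one_le_two_pow, huq,
            Module.End.one_apply]
      have h1 : σ bs (ρR x (ρR y (w : U))) = ρR x (σ bs (ρR y (w : U))) := by
        have hxy' : P (τ (x * y)) = P (x * y) := by rw [map_mul, map_mul, hx, hy, map_mul]
        have e1 := hcom' (x * y) hxy' w
        rw [map_mul, Module.End.mul_apply, Module.End.mul_apply, ← hcom' y hy w] at e1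
        exact e1
      rw [← hw, ← hcom' y hy w, map_mul, Module.End.mul_apply]
      rw [← Module.End.mul_apply (f := σ bs) (g := ρR x), hu x, Module.End.mul_apply] at h1
      rw [h1, ← Module.End.mul_apply, ← map_mul, inv_mul_cancel, map_one, Module.End.one_apply]
    set ξ := x⁻¹ * σb x with hξ
    have hξfix : P (τ ξ) = P ξ := by
      rw [hξ, map_mul, map_inv, map_mul, map_inv, hx, hfixσ x hx, map_mul, map_inv]
    have hξ1 : P ξ = 1 := by
      refine hsq1 _ fun y => ?_
      obtain ⟨h1, h2, h3⟩ := hsplit y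
      have hswap : ∀ z, P ξ z = (P z ξ)⁻¹ := fun z =>
        eq_inv_iff_mul_eq_one.2 (hP.pairing_swap χ _ _)
      have ha1 : P ((τ y)⁻¹ * y) ξ = 1 := horth _ h1 _ hξfix
      have ha2 : P ξ (τ y * y) = 1 := by
        set z := τ y * y
        obtain ⟨v, hv⟩ := exists_ne (0 : V)
        have hvU : (v : U) ≠ 0 := fun e => hv (Subtype.ext e)
        have hz' : P (τ z⁻¹) = P z⁻¹ := by rw [map_inv, map_inv, map_inv, h2]
        have e1 : ρR ξ (v : U) = (v : U) := by
          have := hfixV 1 (by rw [map_one]) v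
          rwa [map_one, Module.End.one_apply] at this
        have e2 : ρR (ξ * z) (ρR z⁻¹ (v : U)) = (v : U) := by
          rw [← Module.End.mul_apply, ← map_mul, mul_inv_cancel_right, e1]
        have e3 : ρR (z * ξ) (ρR z⁻¹ (v : U)) = (v : U) := by
          rw [map_mul, Module.End.mul_apply, hfixV z⁻¹ hz' v, ← Module.End.mul_apply, ← map_mul,
            mul_inv_cancel, map_one, Module.End.one_apply]
        rw [hxy ξ z, LinearMap.smul_apply, e3] at e2
        exact Units.ext (smul_left_injective k hvU (e2.trans (one_smul k _).symm))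
      rw [← map_mul (P ξ) y y]
      rw [hswap] at ha2 ⊢
      rw [inv_eq_one] at ha2 ⊢
      rw [map_mul P y y, ← h3, MonoidHom.mul_apply, ha1, ha2, one_mul]
    rw [hξ, map_mul, map_inv, inv_mul_eq_one] at hξ1
    exact hξ1.symm
  · -- the plane
    set F := fixedMod P τ with hF
    haveI : F.Normal := MonoidHom.normal_ker _
    let g : Em →* R ⧸ F := (QuotientGroup.mk' F).comp Em.subtype
    have hsur : Function.Surjective g := by
      intro v
      obtain ⟨x, rfl⟩ := QuotientGroup.mk_surjective v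
      obtain ⟨h1, h2, h3⟩ := hsplit x
      obtain ⟨c', hc'⟩ := hrodd
      refine ⟨(⟨_, h1⟩ : Em) ^ (c' + 1), ?_⟩
      rw [map_pow]
      show (QuotientGroup.mk' F ((τ x)⁻¹ * x)) ^ (c' + 1) = QuotientGroup.mk' F x
      have e0 : QuotientGroup.mk' F ((τ x)⁻¹ * x) = QuotientGroup.mk' F (x * x) := by
        rw [QuotientGroup.mk'_apply, QuotientGroup.mk'_apply, QuotientGroup.eq, hF, mem_fixedMod]
        have e1 : P (((τ x)⁻¹ * x)⁻¹ * (x * x)) = P (τ x * x) := by
          rw [map_mul, map_inv, map_mul P x x, ← h3, inv_mul_cancel_left]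
        rw [← div_eq_one]
        have e2 : ∀ z z' : R, P z = P z' → P (τ z) / P z = P (τ z') / P z' := by
          intro z z' hzz
          have : P (τ z) = P (τ z') := MonoidHom.ext fun y => by
            obtain ⟨y, rfl⟩ := τ.surjective y
            rw [hPτ, hPτ, hzz]
          rw [this, hzz]
        rw [e2 _ _ e1, h2]
        exact div_self' (P (τ x * x))
      have hxr : QuotientGroup.mk' F (x ^ r) = 1 := by
        rw [QuotientGroup.mk'_apply, QuotientGroup.eq_one_iff, hF, mem_fixedMod]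
        have hz : P (x ^ r) = 1 := hP.pairing_eq_one_of_mem χ (hpow _ x.2)
        refine MonoidHom.ext fun y => ?_
        obtain ⟨y, rfl⟩ := τ.surjective y
        rw [hPτ, hz, MonoidHom.one_apply, MonoidHom.one_apply]
      rw [e0, map_mul, ← pow_two, ← pow_mul, show 2 * (c' + 1) = r + 1 by omega, pow_succ, ← map_pow,
        hxr, one_mul]
    have hle : scalarSub ρE ≤ g.ker := by
      intro x hx
      rw [MonoidHom.mem_ker]
      show QuotientGroup.mk' F (x : R) = 1
      rw [QuotientGroup.mk'_apply, QuotientGroup.eq_one_iff, hF, mem_fixedMod, hPEm _ x.2,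
        (hscE x).1 hx]
      exact MonoidHom.ext fun _ => inv_one
    haveI := scalarSub_normal ρE
    calc F.index = Nat.card (R ⧸ F) := index_eq_card F
      _ ≤ Nat.card (ScalarQuot ρE) := Nat.card_le_card_of_surjective (QuotientGroup.lift _ g hle)
          (QuotientGroup.lift_surjective_of_surjective _ g hsur hle)
      _ = r * r := hd

end CfsgLib.PGroup.GrossTwo
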