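import Cfsg.Agent.Lib.PGroup.GrossTwo.Section
import Mathlib.GroupTheory.FixedPointFree

/-!
# Gross's theorem on fixed-point-free automorphisms of `2`-power order

A finite soluble group with a fixed-point-free automorphism of order dividing `2 ^ n`, `n ≥ 2`, has
Fitting height at most `2 n - 2`.
-/

set_option autoImplicit false
set_option linter.style.haveILetI false
set_option linter.unusedSectionVars false

namespace CfsgLib.PGroup.GrossTwo

open CfsgLib.PGroup
open Subgroup
open scoped commutatorElement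

universe u

theorem fixedPointFree_quotChar {G : Type u} [Group G] [Finite G] {σ : MulAut G}
    (hfp : ∀ g, σ g = g → g = 1) [(Cfsg.fittingSubgroup G).Normal]
    [(Cfsg.fittingSubgroup G).Characteristic] :
    ∀ g, ShultGross.quotChar (Cfsg.fittingSubgroup G) σ g = g → g = 1 := by
  intro g hg
  obtain ⟨x, rfl⟩ := QuotientGroup.mk_surjective g
  rw [ShultGross.quotChar_apply, eq_comm, QuotientGroup.eq] at hg
  exact (QuotientGroup.eq_one_iff x).2 (ShultGross.mem_of_fpf hfp _
    (fun z hz => characteristic_iff_map_le.1 inferInstance σ (mem_map_of_mem _ hz)) hg)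

/-- A group with a fixed-point-free involutory automorphism is abelian. -/
theorem chain_one {G : Type u} [Group G] [Finite G] {σ : MulAut G} (hσ : σ ^ 2 = 1)
    (hfp : ∀ g, σ g = g → g = 1) :
    ∃ F : Fin (1 + 1) → Subgroup G, F 0 = ⊥ ∧ F (Fin.last 1) = ⊤ ∧ Monotone F ∧
      (∀ i, (F i).Normal) ∧ ∀ i : Fin 1, ∃ k : ℕ, (F i.succ).lowerCentralSeries k ≤ F i.castSucc := by
  have hcomm : ∀ g h : G, Commute g h := fun g h =>
    MonoidHom.FixedPointFree.commute_all_of_involutive (φ := σ) (fun g hg => hfp g hg)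
      (fun g => by rw [← MulAut.mul_apply, ← sq, hσ, MulAut.one_apply]) g h
  refine ⟨![⊥, ⊤], rfl, rfl, Fin.monotone_iff_le_succ.2 fun i => ?_, fun i => ?_, fun i => ?_⟩
  · fin_cases i
    exact bot_le
  · fin_cases i
    · exact (inferInstance : (⊥ : Subgroup G).Normal)
    · exact (inferInstance : (⊤ : Subgroup G).Normal)
  · fin_cases i
    refine ⟨1, ?_⟩
    show (⊤ : Subgroup G).lowerCentralSeries 1 ≤ ⊥
    rw [Subgroup.lowerCentralSeries_one, _root_.commutator_def, commutator_le]
    exact fun g _ h _ => mem_bot.2 (commutatorElement_eq_one_iff_commute.2 (hcomm g h))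

/-- **Gross.** -/
theorem fitting_chain_two : ∀ (n : ℕ) (G : Type u) [Group G] [Finite G], Group.IsSolvable G →
    ∀ σ : MulAut G, σ ^ 2 ^ (n + 2) = 1 → (∀ g, σ g = g → g = 1) →
      ∃ F : Fin (2 * (n + 1) + 1) → Subgroup G, F 0 = ⊥ ∧ F (Fin.last (2 * (n + 1))) = ⊤ ∧ Monotone F ∧
        (∀ i, (F i).Normal) ∧
        ∀ i : Fin (2 * (n + 1)), ∃ k : ℕ, (F i.succ).lowerCentralSeries k ≤ F i.castSucc := by
  intro n
  induction n with
  | zero =>
    intro G _ _ hG σ hσ hfp
    haveI := hG
    haveI : (Cfsg.fittingSubgroup G).Normal := CfsgLib.Coprime.fitting_normal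
    haveI : (Cfsg.fittingSubgroup G).Characteristic := CfsgLib.Coprime.fitting_characteristic
    haveI : Group.IsSolvable (G ⧸ Cfsg.fittingSubgroup G) :=
      Group.isSolvable_of_surjective (QuotientGroup.mk'_surjective _)
    have hodd := ShultGross.not_dvd_card hfp Nat.prime_two hσ
    refine chain_succ (chain_one (σ := ShultGross.quotChar (Cfsg.fittingSubgroup G) σ) ?_
      (fixedPointFree_quotChar hfp))
    rw [← map_pow]
    refine eq_one_of_fix_fitting (fun h => hodd (h.trans (Subgroup.card_quotient_dvd_card _))) ?_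
      (socle_fix_fitting_one (n := 1) hσ hfp rfl)
    rw [← map_pow, ← pow_mul, show 2 * 2 = 2 ^ (0 + 2) by norm_num, hσ, map_one]
  | succ n ih =>
    intro G _ _ hG σ hσ hfp
    haveI := hG
    set F₁ := Cfsg.fittingSubgroup G with hF₁
    haveI : F₁.Normal := CfsgLib.Coprime.fitting_normal
    haveI : F₁.Characteristic := CfsgLib.Coprime.fitting_characteristic
    set F₂ := Cfsg.fittingSubgroup (G ⧸ F₁) with hF₂
    haveI : F₂.Normal := CfsgLib.Coprime.fitting_normal
    haveI : F₂.Characteristic := CfsgLib.Coprime.fitting_characteristic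
    haveI : Group.IsSolvable (G ⧸ F₁) := Group.isSolvable_of_surjective (QuotientGroup.mk'_surjective _)
    haveI : Group.IsSolvable ((G ⧸ F₁) ⧸ F₂) :=
      Group.isSolvable_of_surjective (QuotientGroup.mk'_surjective _)
    have hodd := ShultGross.not_dvd_card hfp Nat.prime_two hσ
    have hodd₂ : ¬ 2 ∣ Nat.card ((G ⧸ F₁) ⧸ F₂) := fun h =>
      hodd ((h.trans (Subgroup.card_quotient_dvd_card _)).trans (Subgroup.card_quotient_dvd_card _))
    set σ₂ := ShultGross.quotChar F₂ (ShultGross.quotChar F₁ σ) with hσ₂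
    set τ := σ ^ 2 ^ (n + 2) with hτ
    set π₁ := QuotientGroup.mk' F₁
    set π₂ := QuotientGroup.mk' F₂
    set τ₂ := ShultGross.quotChar F₂ (ShultGross.quotChar F₁ τ) with hτ₂
    -- trivial on the Fitting subgroup of the second quotient
    have hfix : ∀ z ∈ Cfsg.fittingSubgroup ((G ⧸ F₁) ⧸ F₂), τ₂ z = z := by
      have hle : Cfsg.fittingSubgroup ((G ⧸ F₁) ⧸ F₂) ≤
          τ₂.toMonoidHom.eqLocus (MonoidHom.id _) := by
        rw [CfsgLib.Coprime.fitting_eq_iSup_pCore]
        refine iSup_le fun q => ?_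
        haveI : Fact (q : ℕ).Prime := ⟨q.2⟩
        intro z hz
        show τ₂ z = z
        by_cases hq2 : (q : ℕ) = 2
        · obtain ⟨k, hk⟩ := CfsgLib.Coprime.pCore_isPGroup (G := (G ⧸ F₁) ⧸ F₂) (q : ℕ) ⟨_, hz⟩
          have hz1 : z = 1 := by
            refine orderOf_eq_one_iff.1 (Nat.eq_one_of_dvd_coprimes
              ((Nat.prime_two.coprime_iff_not_dvd.2 hodd₂).symm.pow_right k)
              (_root_.orderOf_dvd_natCard _) (orderOf_dvd_of_pow_eq_one ?_))
            rw [← hq2]
            exact congrArg Subtype.val hk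
          rw [hz1, map_one]
        obtain ⟨y, rfl⟩ := QuotientGroup.mk'_surjective F₂ z
        obtain ⟨x, rfl⟩ := QuotientGroup.mk'_surjective F₁ y
        set X : Subgroup G := (Cfsg.pCore (q : ℕ) ((G ⧸ F₁) ⧸ F₂)).comap (π₂.comp π₁) with hX
        haveI : X.Normal := (CfsgLib.Coprime.pCore_normal' _).comap _
        have h := inv_mul_mem_comap_fitting (n := n + 2) hσ hfp q.2 hq2 X
          (fun w hw => characteristic_iff_map_le.1
            (CfsgLib.Coprime.pCore_characteristic (G := (G ⧸ F₁) ⧸ F₂) (q : ℕ)) σ₂ ⟨_, hw, rfl⟩)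
          (fun w hw => by
            obtain ⟨k, hk⟩ := CfsgLib.Coprime.pCore_isPGroup (G := (G ⧸ F₁) ⧸ F₂) (q : ℕ) ⟨_, hw⟩
            refine ⟨k, (QuotientGroup.eq_one_iff _).1 ?_⟩
            show π₂ (π₁ (w ^ (q : ℕ) ^ k)) = 1
            rw [map_pow, map_pow]
            exact congrArg Subtype.val hk)
          x hz
        have h1 : π₂ (π₁ (x⁻¹ * τ x)) = 1 := (QuotientGroup.eq_one_iff _).2 h
        rw [map_mul, map_mul, map_inv, map_inv, inv_mul_eq_one] at h1
        exact h1.symm
      exact fun z hz => hle hz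
    have hτ1 : σ₂ ^ 2 ^ (n + 2) = 1 := by
      have e : σ₂ ^ 2 ^ (n + 2) = τ₂ := by rw [hσ₂, ← map_pow, ← map_pow]
      rw [e]
      refine eq_one_of_fix_fitting hodd₂ ?_ hfix
      rw [hτ₂, ← map_pow, ← map_pow, hτ, ← pow_mul, ← pow_succ, hσ, map_one, map_one]
    exact chain_succ (chain_succ (ih ((G ⧸ F₁) ⧸ F₂) inferInstance σ₂ hτ1
      (fixedPointFree_quotChar (fixedPointFree_quotChar hfp))))

end CfsgLib.PGroup.GrossTwo
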