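import Cfsg.Agent.Lib.PGroup.RepWeights
import Cfsg.Agent.Lib.PGroup.PqWeights
import Mathlib.GroupTheory.PGroup
import Mathlib.LinearAlgebra.Basis.Basic

/-!
# Monomial bases for finite `p`-groups in coprime characteristic
-/

set_option autoImplicit false
set_option linter.style.haveILetI false
set_option linter.unusedSectionVars false

namespace CfsgLib.PGroup.GrossTwo

open CfsgLib.PGroup
open Subgroup
open scoped commutatorElement

universe u v w

variable {p : ℕ} [hp : Fact p.Prime] {k : Type v} [Field k] [IsAlgClosed k]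

/-- A finite `p`-group acting in characteristic prime to `p` permutes the lines of some basis. -/
theorem exists_monomial_basis_aux : ∀ (N : ℕ) {H : Type u} [Group H] [Finite H] {W : Type w}
    [AddCommGroup W] [Module k W] [FiniteDimensional k W] (ρ : H →* Module.End k W),
    IsPGroup p H → (p : k) ≠ 0 → Nat.card H + Module.finrank k W ≤ N →
      ∃ (d : ℕ) (B : Module.Basis (Fin d) k W), ∀ (g : H) (i : Fin d), ∃ (j : Fin d) (c : k),
        ρ g (B i) = c • B j := by
  intro N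
  induction N with
  | zero =>
    intro H _ _ W _ _ _ ρ _ _ hN
    have := Nat.card_pos (α := H)
    omega
  | succ N ih =>
  intro H _ _ W _ _ _ ρ hH hpk hN
  classical
  have hcardk : ∀ (S : Subgroup H) [Fintype S], (Fintype.card S : k) ≠ 0 := by
    intro S _
    obtain ⟨e, he⟩ := IsPGroup.iff_card.1 (hH.to_subgroup S)
    rw [← Nat.card_eq_fintype_card, he, Nat.cast_pow]
    exact pow_ne_zero _ hpk
  by_cases hab : ∀ x y : H, ρ (x * y) = ρ (y * x)
  · -- an eigenbasis
    let Y : Subgroup H := ⊤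
    haveI := Fintype.ofFinite Y
    haveI := finite_hom_units (k := k) (Y := Y)
    haveI := Fintype.ofFinite (Y →* kˣ)
    have hY : ImgComm ρ Y := fun x _ y _ => hab x y
    have hspan : ⊤ ≤ Submodule.span k {x : W | ∃ μ, IsEigen ρ Y μ x} := by
      intro x _
      have h := sum_eigProj ρ hY (hcardk Y) x
      rw [← inv_smul_smul₀ (hcardk Y) x, ← h, Finset.smul_sum]
      exact Submodule.sum_mem _ fun μ _ =>
        Submodule.smul_mem _ _ (Submodule.subset_span ⟨μ, isEigen_eigProj ρ μ x⟩)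
    obtain ⟨b, hb, hbs, hbli⟩ := exists_linearIndependent k {x : W | ∃ μ, IsEigen ρ Y μ x}
    have hbfin : Finite b := Set.finite_coe_iff.2 hbli.setFinite
    haveI := Fintype.ofFinite b
    let B := Module.Basis.mk hbli (by rw [Subtype.range_coe, hbs]; exact hspan)
    refine ⟨_, B.reindex (Fintype.equivFin b), fun g i => ?_⟩
    obtain ⟨μ, hμ⟩ := hb ((Fintype.equivFin b).symm i).2
    refine ⟨i, μ ⟨g, mem_top g⟩, ?_⟩
    rw [Module.Basis.reindex_apply, Module.Basis.mk_apply]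
    exact hμ ⟨g, mem_top g⟩
  push Not at hab
  obtain ⟨x₀, y₀, hxy₀⟩ := hab
  -- a normal subgroup with commutative image that is not central
  let Z₀ : Subgroup H :=
    { carrier := {x | ∀ y, ρ (x * y) = ρ (y * x)}
      one_mem' := fun y => by rw [one_mul, mul_one]
      mul_mem' := fun {x x'} hx hx' y => by
        rw [mul_assoc, map_mul, hx' y, ← map_mul, ← mul_assoc, map_mul, hx y, ← map_mul, mul_assoc]
      inv_mem' := fun {x} hx y => by
        calc ρ (x⁻¹ * y) = ρ x⁻¹ * (ρ (y * x) * ρ x⁻¹) := by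
              rw [← map_mul, mul_inv_cancel_right, ← map_mul]
          _ = ρ x⁻¹ * (ρ (x * y) * ρ x⁻¹) := by rw [hx y]
          _ = ρ (y * x⁻¹) := by
              rw [← map_mul, ← map_mul]
              congr 1
              group }
  have hZc : ∀ x ∈ Z₀, ∀ y, ρ x * ρ y = ρ y * ρ x := fun x hx y => by rw [← map_mul, ← map_mul, hx y]
  haveI : Z₀.Normal := ⟨fun x hx g => by
    intro y
    have e : ρ (g * x * g⁻¹) = ρ x := by
      rw [map_mul, map_mul, ← hZc x hx g, mul_assoc, ← map_mul, mul_inv_cancel, map_one, mul_one]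
    rw [map_mul ρ _ y, map_mul ρ y, e, hZc x hx y]⟩
  have hZne : Z₀ ≠ ⊤ := fun e => hxy₀ ((e.ge (mem_top x₀) : x₀ ∈ Z₀) y₀)
  haveI : Nontrivial (H ⧸ Z₀) := QuotientGroup.nontrivial_iff.2 hZne
  haveI := (hH.to_quotient Z₀).center_nontrivial
  obtain ⟨⟨xq, hxq⟩, hxne⟩ := exists_ne (1 : center (H ⧸ Z₀))
  obtain ⟨x, rfl⟩ := QuotientGroup.mk_surjective xq
  have hxZ : x ∉ Z₀ := fun h => hxne (Subtype.ext ((QuotientGroup.eq_one_iff x).2 h))
  have hxc : ∀ g : H, g * x * g⁻¹ * x⁻¹ ∈ Z₀ := fun g => by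
    rw [← QuotientGroup.eq_one_iff, QuotientGroup.mk_mul, QuotientGroup.mk_mul, QuotientGroup.mk_mul,
      mem_center_iff.1 hxq, QuotientGroup.mk_inv, QuotientGroup.mk_inv, mul_inv_cancel_right,
      mul_inv_cancel]
  let A : Subgroup H := Z₀ ⊔ zpowers x
  haveI hAn : A.Normal := ⟨fun a ha g => by
    have hle : A ≤ A.comap (MulAut.conj g).toMonoidHom := by
      refine sup_le (fun z hz => mem_sup_left ((inferInstance : Z₀.Normal).conj_mem z hz g))
        (zpowers_le.2 ?_)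
      show g * x * g⁻¹ ∈ A
      rw [show g * x * g⁻¹ = g * x * g⁻¹ * x⁻¹ * x by group]
      exact mul_mem (mem_sup_left (hxc g)) (mem_sup_right (mem_zpowers x))
    exact hle ha⟩
  have hAn' : ∀ g : H, g ∈ normalizer (A : Set H) := fun g => by
    rw [normalizer_eq_top]; exact mem_top g
  haveI := Fintype.ofFinite A
  haveI := finite_hom_units (k := k) (Y := A)
  haveI := Fintype.ofFinite (A →* kˣ)
  have hA : ImgComm ρ A := by
    intro a ha b hb
    rw [← SetLike.mem_coe, Subgroup.normal_mul, Set.mem_mul] at ha hb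
    obtain ⟨z, hz, u, hu, rfl⟩ := ha
    obtain ⟨z', hz', u', hu', rfl⟩ := hb
    obtain ⟨i, rfl⟩ := mem_zpowers_iff.1 hu
    obtain ⟨i', rfl⟩ := mem_zpowers_iff.1 hu'
    have e1 : Commute (ρ (x ^ i)) (ρ (x ^ i')) := by
      rw [commute_iff_eq, ← map_mul, ← map_mul, ← zpow_add, ← zpow_add, add_comm]
    have e2 : Commute (ρ z) (ρ (z' * x ^ i')) := hZc z hz _
    have e3 : Commute (ρ (x ^ i)) (ρ (z' * x ^ i')) := by
      rw [map_mul]
      exact Commute.mul_right (hZc z' hz' _).symm e1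
    rw [map_mul ρ (z * x ^ i), map_mul ρ (z' * x ^ i') (z * x ^ i), map_mul ρ z]
    exact (e2.mul_left e3).eq
  let U : (A →* kˣ) → Submodule k W := fun μ => eigSpace ρ A μ
  let act : H → (A →* kˣ) → (A →* kˣ) := fun g μ => twist A (hAn' g) μ
  have hact : ∀ g g' μ, act g (act g' μ) = act (g * g') μ := fun g g' μ => twist_twist (hAn' g) (hAn' g') μ
  have hact1 : ∀ μ, act 1 μ = μ := fun μ => twist_one (hAn' 1) μ
  have hmap : ∀ g μ, ∀ f ∈ U μ, ρ g f ∈ U (act g μ) := fun g μ f hf => hf.map ρ (hAn' g)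
  -- monomial bases on single eigenspaces
  have hsub : ∀ μ, U μ ≠ ⊥ → ∃ (d : ℕ) (B : Module.Basis (Fin d) k (U μ)),
      ∀ (g : charStab A μ) (i : Fin d), ∃ (j : Fin d) (c : k),
        ρ (g : H) (B i : W) = c • (B j : W) := by
    intro μ hμ
    let σ := subRep ρ (U μ) (charStab A μ) (eigSpace_invariant ρ)
    have hlt : Nat.card (charStab A μ) + Module.finrank k (U μ) ≤ N := by
      have h1 : Nat.card (charStab A μ) ≤ Nat.card H := card_le_card_group _
      have h2 : Module.finrank k (U μ) ≤ Module.finrank k W := Submodule.finrank_le _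
      by_contra hlt
      have hS : charStab A μ = ⊤ := eq_top_of_le_card _ (by omega)
      have hU : U μ = ⊤ := Submodule.eq_top_of_finrank_eq (by omega)
      refine hxZ fun y => ?_
      have hsc : ∀ a : A, ρ (a : H) = (μ a : k) • 1 := fun a => LinearMap.ext fun w =>
        (hU.ge (Submodule.mem_top (x := w)) : w ∈ U μ) a
      have hxA : x ∈ A := mem_sup_right (mem_zpowers x)
      rw [map_mul, map_mul, hsc ⟨x, hxA⟩, smul_mul_assoc, one_mul, mul_smul_comm, mul_one]
    obtain ⟨d, B, hB⟩ := ih σ (hH.to_subgroup _) hpk hlt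
    refine ⟨d, B, fun g i => ?_⟩
    obtain ⟨j, c, hjc⟩ := hB g i
    exact ⟨j, c, congrArg Subtype.val hjc⟩
  -- orbit representatives
  let orb : (A →* kˣ) → Set (A →* kˣ) := fun μ => Set.range fun g => act g μ
  have horb : ∀ g μ, orb (act g μ) = orb μ := fun g μ => Set.ext fun ν => by
    constructor
    · rintro ⟨h, rfl⟩
      exact ⟨h * g, (hact h g μ).symm⟩
    · rintro ⟨h, rfl⟩
      exact ⟨h * g⁻¹, by show act (h * g⁻¹) (act g μ) = act h μ; rw [hact, inv_mul_cancel_right]⟩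
  let pick : Set (A →* kˣ) → (A →* kˣ) := fun s => if h : s.Nonempty then h.some else 1
  let rep : (A →* kˣ) → (A →* kˣ) := fun μ => pick (orb μ)
  have hrep : ∀ μ, ∃ g, act g (rep μ) = μ := by
    intro μ
    have hne : (orb μ).Nonempty := ⟨μ, 1, hact1 μ⟩
    obtain ⟨g, hg⟩ : rep μ ∈ orb μ := by
      show pick (orb μ) ∈ orb μ
      simp only [pick, dif_pos hne]
      exact hne.some_mem
    refine ⟨g⁻¹, ?_⟩
    rw [← hg, hact, inv_mul_cancel, hact1]
  have hrepact : ∀ g μ, rep (act g μ) = rep μ := fun g μ => congrArg pick (horb g μ)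
  choose gr hgr using hrep
  let S₀ := {μ : A →* kˣ // U μ ≠ ⊥}
  have hne_act : ∀ g μ, U μ ≠ ⊥ → U (act g μ) ≠ ⊥ := by
    intro g μ h e
    obtain ⟨f, hf, hf0⟩ := (Submodule.ne_bot_iff _).1 h
    have h1 := hmap g μ f hf
    rw [e, Submodule.mem_bot] at h1
    exact hf0 (rep_injective ρ g (h1.trans (map_zero _).symm))
  have hrne : ∀ μ : S₀, U (rep μ.1) ≠ ⊥ := fun μ e => by
    have h := hne_act (gr μ.1)⁻¹ _ μ.2
    have e' : act (gr μ.1)⁻¹ μ.1 = rep μ.1 := by
      conv_lhs => arg 2; rw [← hgr μ.1]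
      rw [hact, inv_mul_cancel, hact1]
    rw [e'] at h
    exact h e
  choose d B hB using fun μ : {μ : A →* kˣ // U μ ≠ ⊥} => hsub μ.1 μ.2
  let r₀ : S₀ → S₀ := fun μ => ⟨rep μ.1, hrne μ⟩
  let ι := Σ μ : S₀, Fin (d (r₀ μ))
  let vec : ι → W := fun s => ρ (gr s.1.1) (B (r₀ s.1) s.2 : W)
  have hvec : ∀ s : ι, vec s ∈ U s.1.1 := fun s => by
    have := hmap (gr s.1.1) _ _ (B (r₀ s.1) s.2).2
    rwa [show act (gr s.1.1) (r₀ s.1).1 = s.1.1 from hgr s.1.1] at this
  have hli : LinearIndependent k vec := by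
    rw [Fintype.linearIndependent_iff]
    intro a ha ⟨μ, i⟩
    have h1 := congrArg (eigProj ρ μ.1) ha
    rw [map_sum, map_zero, Fintype.sum_sigma, Finset.sum_eq_single μ (fun ν _ hν =>
      Finset.sum_eq_zero fun j _ => by
        rw [map_smul, eigProj_ne ρ (hvec ⟨ν, j⟩) (fun e => hν (Subtype.ext e.symm)), smul_zero])
      (fun h => absurd (Finset.mem_univ μ) h)] at h1
    have h2 : ρ (gr μ.1) (∑ j, a ⟨μ, j⟩ • (B (r₀ μ) j : W)) = 0 := by
      rw [Finset.sum_congr rfl (fun j _ => by rw [map_smul, eigProj_self ρ (hvec ⟨μ, j⟩), smul_comm]),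
        ← Finset.smul_sum, smul_eq_zero] at h1
      rw [map_sum]
      refine Eq.trans (Finset.sum_congr rfl fun j _ => ?_) (h1.resolve_left (hcardk A))
      rw [map_smul]
    have h3 : ∑ j, a ⟨μ, j⟩ • B (r₀ μ) j = 0 := Subtype.ext (rep_injective ρ (gr μ.1) (by
      rw [AddSubmonoidClass.coe_finsetSum, Submodule.coe_zero, map_zero]
      exact h2))
    exact Fintype.linearIndependent_iff.1 (B (r₀ μ)).linearIndependent _ h3 i
  have hspan : ⊤ ≤ Submodule.span k (Set.range vec) := by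
    intro w _
    rw [← inv_smul_smul₀ (hcardk A) w, ← sum_eigProj ρ hA (hcardk A) w, Finset.smul_sum]
    refine Submodule.sum_mem _ fun μ _ => Submodule.smul_mem _ _ ?_
    have hw : eigProj ρ μ w ∈ U μ := isEigen_eigProj ρ μ w
    by_cases hμ : U μ = ⊥
    · rw [hμ, Submodule.mem_bot] at hw
      rw [hw]; exact zero_mem _
    let μ' : S₀ := ⟨μ, hμ⟩
    have h1 : ρ (gr μ)⁻¹ (eigProj ρ μ w) ∈ U (r₀ μ').1 := by
      have := hmap (gr μ)⁻¹ μ _ hw
      have e' : act (gr μ)⁻¹ μ = rep μ := by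
        conv_lhs => arg 2; rw [← hgr μ]
        rw [hact, inv_mul_cancel, hact1]
      rwa [e'] at this
    have h2 := (B (r₀ μ')).sum_repr ⟨_, h1⟩
    have h3 : eigProj ρ μ w = ∑ j, (B (r₀ μ')).repr ⟨_, h1⟩ j • vec ⟨μ', j⟩ := by
      conv_lhs => rw [← rep_apply_inv ρ (gr μ) (eigProj ρ μ w)]
      have e := congrArg (fun z : U (r₀ μ').1 => ρ (gr μ) (z : W)) h2
      simp only [AddSubmonoidClass.coe_finsetSum, map_sum, Submodule.coe_smul, map_smul] at e
      exact e.symm
    rw [h3]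
    exact Submodule.sum_mem _ fun j _ => Submodule.smul_mem _ _ (Submodule.subset_span ⟨⟨μ', j⟩, rfl⟩)
  let Bs := Module.Basis.mk hli hspan
  refine ⟨_, Bs.reindex (Fintype.equivFin ι), fun g i => ?_⟩
  obtain ⟨⟨μ, l⟩, hs⟩ : ∃ s : ι, s = (Fintype.equivFin ι).symm i := ⟨_, rfl⟩
  rw [Module.Basis.reindex_apply, ← hs, Module.Basis.mk_apply]
  let ν : S₀ := ⟨act g μ.1, hne_act g _ μ.2⟩
  have hr : r₀ ν = r₀ μ := Subtype.ext (hrepact g μ.1)
  have hh : (gr ν.1)⁻¹ * (g * gr μ.1) ∈ charStab A (r₀ μ).1 := by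
    refine ⟨hAn' _, ?_⟩
    show act ((gr ν.1)⁻¹ * (g * gr μ.1)) (rep μ.1) = rep μ.1
    rw [← hact, ← hact g, hgr]
    show act (gr ν.1)⁻¹ ν.1 = rep μ.1
    conv_lhs => arg 2; rw [← hgr ν.1]
    rw [hact, inv_mul_cancel, hact1]
    exact hrepact g μ.1
  obtain ⟨l', c, hc⟩ := hB (r₀ μ) ⟨_, hh⟩ l
  refine ⟨Fintype.equivFin ι ⟨ν, Fin.cast (congrArg d hr.symm) l'⟩, c, ?_⟩
  rw [Module.Basis.reindex_apply, Equiv.symm_apply_apply, Module.Basis.mk_apply]
  show ρ g (ρ (gr μ.1) (B (r₀ μ) l : W)) = c • ρ (gr ν.1) (B (r₀ ν) (Fin.cast (congrArg d hr.symm) l') : W)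
  have hcast : (B (r₀ ν) (Fin.cast (congrArg d hr.symm) l') : W) = (B (r₀ μ) l' : W) := by
    generalize hgen : r₀ ν = ν' at hr ⊢
    subst hr
    rfl
  rw [hcast, ← map_smul, ← hc, ← rep_mul_apply, ← rep_mul_apply, mul_inv_cancel_left]

/-- A finite `p`-group acting in characteristic prime to `p` permutes the lines of some basis. -/
theorem exists_monomial_basis {H : Type u} [Group H] [Finite H] {W : Type w}
    [AddCommGroup W] [Module k W] [FiniteDimensional k W] (ρ : H →* Module.End k W)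
    (hH : IsPGroup p H) (hpk : (p : k) ≠ 0) :
    ∃ (d : ℕ) (B : Module.Basis (Fin d) k W), ∀ (g : H) (i : Fin d), ∃ (j : Fin d) (c : k),
      ρ g (B i) = c • B j :=
  exists_monomial_basis_aux _ ρ hH hpk le_rfl

end CfsgLib.PGroup.GrossTwo
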