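import Cfsg.Agent.Lib.PGroup.GrossTwo.Monomial
import Mathlib.Dynamics.PeriodicPts.Lemmas

/-!
# Conjugates of a `2`-element with a two-dimensional socle support

In a faithful representation of a finite `2`-group in characteristic different from two, an element
`b` whose socle `z = b ^ 2 ^ m`, `m ≥ 1`, has a plane of eigenvalue `-1` and centralizes nothing more
than `b` either commutes with each of its conjugates or has the same socle.
-/

set_option autoImplicit false
set_option linter.style.haveILetI false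
set_option linter.unusedSectionVars false

namespace CfsgLib.PGroup.GrossTwo

open CfsgLib.PGroup

universe u v w

variable {H : Type u} [Group H] [Finite H] {k : Type v} [Field k] [IsAlgClosed k] {W : Type w}
  [AddCommGroup W] [Module k W] [FiniteDimensional k W]

/-- Two conjugates either have the same socle or commute. -/
theorem conj_eq_or_commute (ρ : H →* Module.End k W) (hinj : Function.Injective ρ) (hH : IsPGroup 2 H)
    (h2k : (2 : k) ≠ 0) {b : H} {m : ℕ} (hm : 1 ≤ m) (hb : b ^ 2 ^ (m + 1) = 1)
    (hfix : ∀ w, ρ (b ^ 2 ^ m) w = w → ρ b w = w)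
    (hrank : Module.finrank k (LinearMap.range (ρ (b ^ 2 ^ m) - 1)) ≤ 2) (e : H) :
    e * b ^ 2 ^ m * e⁻¹ = b ^ 2 ^ m ∨ Commute b (e * b * e⁻¹) := by
  classical
  obtain ⟨d, B, hB⟩ := exists_monomial_basis ρ hH (p := 2) (by exact_mod_cast h2k)
  choose π c hπ using hB
  have hc0 : ∀ g i, c g i ≠ 0 := fun g i h0 => B.ne_zero i (rep_injective ρ g (by
    rw [hπ, h0, zero_smul, map_zero]))
  have huniq : ∀ {i j : Fin d} {a a' : k}, a ≠ 0 → a • B i = a' • B j → i = j ∧ a = a' := by
    intro i j a a' ha h
    have h1 := congrArg (fun w => B.repr w i) h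
    simp only [map_smul, Module.Basis.repr_self, Finsupp.smul_apply, smul_eq_mul,
      Finsupp.single_eq_same, mul_one] at h1
    by_cases hij : j = i
    · subst hij
      rw [Finsupp.single_eq_same, mul_one] at h1
      exact ⟨rfl, h1⟩
    · rw [Finsupp.single_eq_of_ne (Ne.symm hij), mul_zero] at h1
      exact absurd h1 ha
  have hπmul : ∀ g h i, π (g * h) i = π g (π h i) := by
    intro g h i
    refine (huniq (hc0 (g * h) i) (a' := c h i * c g (π h i)) ?_).1
    rw [← hπ, rep_mul_apply, hπ, map_smul, hπ, smul_smul]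
  have hcmul : ∀ g h i, c (g * h) i = c h i * c g (π h i) := by
    intro g h i
    refine (huniq (i := π (g * h) i) (j := π g (π h i)) (a := c (g * h) i) (hc0 (g * h) i)
      (a' := c h i * c g (π h i)) ?_).2
    rw [← hπ, rep_mul_apply, hπ, map_smul, hπ, smul_smul]
  have hπ1 : ∀ i, π 1 i = i ∧ c 1 i = 1 := fun i => by
    refine huniq (hc0 1 i) (a' := 1) ?_
    rw [← hπ, map_one, Module.End.one_apply, one_smul]
  have hπinj : ∀ g, Function.Injective (π g) := by
    intro g i j h
    have h1 := hπmul g⁻¹ g i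
    rw [inv_mul_cancel, (hπ1 i).1, h, ← hπmul, inv_mul_cancel, (hπ1 j).1] at h1
    exact h1
  have hπpow : ∀ (g : H) (n : ℕ) i, π (g ^ n) i = (π g)^[n] i := by
    intro g n
    induction n with
    | zero => intro i; rw [pow_zero]; exact (hπ1 i).1
    | succ n ih => intro i; rw [pow_succ, hπmul, ih, Function.iterate_succ_apply]
  -- the shape of `b`
  have key : ∀ b : H, b ^ 2 ^ (m + 1) = 1 → (∀ w, ρ (b ^ 2 ^ m) w = w → ρ b w = w) →
      (∀ i, π (b ^ 2 ^ m) i = i ∧ (c (b ^ 2 ^ m) i = 1 ∨ c (b ^ 2 ^ m) i = -1)) ∧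
      ∀ i, c (b ^ 2 ^ m) i = 1 → ρ b (B i) = B i := by
    intro b hb hfix
    set z := b ^ 2 ^ m with hz
    have hzz : z * z = 1 := by rw [hz, ← pow_add, ← two_mul, ← pow_succ', hb]
    have hdiag : ∀ i, π z i = i := by
      intro i
      by_contra hne
      set l := π z i with hl
      have hw : ρ z (B i + ρ z (B i)) = B i + ρ z (B i) := by
        rw [map_add, ← rep_mul_apply, hzz, map_one, Module.End.one_apply, add_comm]
      have hbw := hfix _ hw
      rw [hπ z i, ← hl, map_add, map_smul, hπ b i, hπ b l, smul_smul] at hbw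
      have h1 := congrArg (fun w => B.repr w (π b i)) hbw
      simp only [map_add, map_smul, Module.Basis.repr_self, Finsupp.add_apply, Finsupp.smul_apply,
        smul_eq_mul, Finsupp.single_eq_same, mul_one] at h1
      rw [Finsupp.single_eq_of_ne (fun e => hne ((hπinj b e).symm)), mul_zero, add_zero] at h1
      have h2 : π b i = l := by
        by_contra hl'
        rw [Finsupp.single_eq_of_ne hl', mul_zero, add_zero] at h1
        by_cases hi : π b i = i
        · refine hne ?_
          rw [hl, hz, hπpow, Function.iterate_fixed hi]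
        · rw [Finsupp.single_eq_of_ne hi] at h1
          exact hc0 b i h1
      have h3 : π b l = i := by
        have h4 := congrArg (fun w => B.repr w (π b l)) hbw
        simp only [map_add, map_smul, Module.Basis.repr_self, Finsupp.add_apply, Finsupp.smul_apply,
          smul_eq_mul, Finsupp.single_eq_same, mul_one] at h4
        rw [Finsupp.single_eq_of_ne (fun e => hne ((hπinj b e))), mul_zero, zero_add] at h4
        by_contra hi
        have hl' : π b l ≠ l := fun e => hne (hπinj b (h2.trans e.symm)).symm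
        rw [Finsupp.single_eq_of_ne hi, Finsupp.single_eq_of_ne hl', mul_zero, add_zero] at h4
        exact mul_ne_zero (hc0 z i) (hc0 b l) h4
      refine hne ?_
      rw [hl, hz, hπpow]
      have hper : (π b)^[2] i = i := by
        show π b (π b i) = i
        rw [h2, h3]
      obtain ⟨u, hu⟩ := (dvd_pow_self 2 (show m ≠ 0 by omega) : 2 ∣ 2 ^ m)
      rw [hu, Function.iterate_mul, Function.iterate_fixed hper]
    refine ⟨fun i => ⟨hdiag i, ?_⟩, fun i hi => ?_⟩
    · have h1 := hcmul z z i
      rw [hzz, (hπ1 i).2, hdiag] at h1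
      exact mul_self_eq_one_iff.1 h1.symm
    · refine hfix _ ?_
      rw [hπ, hdiag, hi, one_smul]
  obtain ⟨hz, hoff⟩ := key b hb hfix
  set z := b ^ 2 ^ m with hzdef
  set b' := e * b * e⁻¹ with hb'
  have hz' : b' ^ 2 ^ m = e * z * e⁻¹ := by rw [hb', conj_pow]
  have hfix' : ∀ w, ρ (b' ^ 2 ^ m) w = w → ρ b' w = w := by
    intro w hw
    rw [hz', rep_mul_apply, rep_mul_apply] at hw
    have h2 : ρ z (ρ e⁻¹ w) = ρ e⁻¹ w := by
      conv_rhs => rw [← hw, rep_inv_apply]
    rw [hb', rep_mul_apply, rep_mul_apply, hfix _ h2, rep_apply_inv]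
  obtain ⟨hzc, hoff'⟩ := key b' (by rw [hb', conj_pow, hb, mul_one, mul_inv_cancel]) hfix'
  have hne2 : (-1 : k) ≠ 1 := fun h => h2k (by linear_combination -h)
  let S : Finset (Fin d) := Finset.univ.filter fun i => c z i = -1
  let S' : Finset (Fin d) := Finset.univ.filter fun i => c (b' ^ 2 ^ m) i = -1
  have hS : ∀ i, i ∈ S ↔ c z i = -1 := fun i => by simp [S]
  have hS' : ∀ i, i ∈ S' ↔ c (b' ^ 2 ^ m) i = -1 := fun i => by simp [S']
  have hnS : ∀ i, i ∉ S → ρ b (B i) = B i := fun i hi =>
    hoff i ((hz i).2.resolve_right fun h => hi ((hS i).2 h))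
  have hnS' : ∀ i, i ∉ S' → ρ b' (B i) = B i := fun i hi =>
    hoff' i ((hzc i).2.resolve_right fun h => hi ((hS' i).2 h))
  have hbS : ∀ i ∈ S, π b i ∈ S := by
    intro i hi
    by_contra h
    have h1 : π b (π b i) = π b i := by
      refine (huniq (hc0 b (π b i)) (a' := 1) ?_).1
      rw [← hπ, hnS _ h, one_smul]
    exact h (by rw [hπinj b h1]; exact hi)
  have hπnS : ∀ i, i ∉ S → π b i = i := fun i hi =>
    (huniq (hc0 b i) (a' := 1) (by rw [← hπ, hnS i hi, one_smul])).1
  have hπnS' : ∀ i, i ∉ S' → π b' i = i := fun i hi =>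
    (huniq (hc0 b' i) (a' := 1) (by rw [← hπ, hnS' i hi, one_smul])).1
  have hb'S : ∀ i ∈ S', π b' i ∈ S' := by
    intro i hi
    by_contra h
    have h1 := hπnS' _ h
    exact h (by rw [hπinj b' h1]; exact hi)
  have hcard : S.card ≤ 2 := by
    refine le_trans ?_ hrank
    have hmem : ∀ i : S, B i.1 ∈ LinearMap.range (ρ z - 1) := fun i => by
      refine ⟨(-2 : k)⁻¹ • B i.1, ?_⟩
      rw [map_smul, LinearMap.sub_apply, Module.End.one_apply, hπ, (hz i.1).1, (hS i.1).1 i.2,
        show (-1 : k) • B i.1 - B i.1 = (-2 : k) • B i.1 by module, smul_smul,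
        inv_mul_cancel₀ (neg_ne_zero.2 h2k), one_smul]
    have hli : LinearIndependent k (fun i : S => (⟨B i.1, hmem i⟩ : LinearMap.range (ρ z - 1))) := by
      refine LinearIndependent.of_comp (LinearMap.range (ρ z - 1)).subtype ?_
      exact B.linearIndependent.comp _ Subtype.val_injective
    have := hli.fintype_card_le_finrank
    rwa [Fintype.card_coe] at this
  -- the socle of the conjugate
  have himg : S' = S.image (π e) := by
    have htr : ∀ i, c (b' ^ 2 ^ m) (π e i) = c z i := by
      intro i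
      have h1 : ρ (b' ^ 2 ^ m) (ρ e (B i)) = ρ e (ρ z (B i)) := by
        rw [hz', rep_mul_apply, rep_mul_apply, rep_inv_apply]
      rw [hπ e i, hπ z i, (hz i).1, map_smul, map_smul, hπ, (hzc _).1, hπ e i, smul_smul, smul_smul] at h1
      have h2 := (huniq (mul_ne_zero (hc0 e i) (hc0 _ _)) h1).2
      rw [mul_comm (c z i)] at h2
      exact mul_left_cancel₀ (hc0 e i) h2
    ext j
    rw [Finset.mem_image, hS']
    obtain ⟨i, rfl⟩ := (Finite.injective_iff_surjective.1 (hπinj e)) j
    rw [htr]
    exact ⟨fun h => ⟨i, (hS i).2 h, rfl⟩, fun ⟨i', hi', h⟩ => by rw [← hπinj e h]; exact (hS i').1 hi'⟩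
  have hcard' : S'.card = S.card := by rw [himg, Finset.card_image_of_injective _ (hπinj e)]
  by_cases hSS : S = S'
  · left
    refine hinj (B.ext fun i => ?_)
    rw [← hz', hπ, hπ, (hzc i).1, (hz i).1]
    congr 1
    by_cases hi : i ∈ S
    · rw [(hS i).1 hi, (hS' i).1 (hSS ▸ hi)]
    · rw [(hz i).2.resolve_right fun h => hi ((hS i).2 h),
        (hzc i).2.resolve_right fun h => hi (hSS ▸ (hS' i).2 h)]
  right
  refine hinj (B.ext fun i => ?_)
  show ρ (b * b') (B i) = ρ (b' * b) (B i)
  rw [rep_mul_apply ρ b b', rep_mul_apply ρ b' b]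
  by_cases hdisj : Disjoint S S'
  · by_cases hi : i ∈ S
    · rw [hnS' i (Finset.disjoint_left.1 hdisj hi), hπ b i, map_smul,
        hnS' _ (Finset.disjoint_left.1 hdisj (hbS i hi))]
    · rw [hnS i hi]
      by_cases hi' : i ∈ S'
      · rw [hπ b' i, map_smul, hnS _ (Finset.disjoint_right.1 hdisj (hb'S i hi'))]
      · rw [hnS' i hi', hnS i hi]
  -- the two planes meet in a line
  have hdiag : ∀ i, π b i = i := by
    by_contra hmove
    push Not at hmove
    obtain ⟨x, hx⟩ := hmove
    obtain ⟨w, hw, hw'⟩ := Finset.not_disjoint_iff.1 hdisj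
    have hxS : x ∈ S := by_contra fun h => hx (hπnS x h)
    obtain ⟨l, hl, hlw⟩ : ∃ l ∈ S, l ≠ w := by
      by_contra hc
      push Not at hc
      exact hx ((hc _ (hbS x hxS)).trans (hc x hxS).symm)
    have hSeq : S = {w, l} := (Finset.eq_of_subset_of_card_le (by
      intro y hy
      simp only [Finset.mem_insert, Finset.mem_singleton] at hy
      rcases hy with rfl | rfl <;> assumption) (by rw [Finset.card_pair hlw.symm]; exact hcard)).symm
    have hmem : ∀ {y}, y ∈ S → y = w ∨ y = l := fun {y} hy => by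
      rw [hSeq] at hy; simpa using hy
    have hbx : π b w = l ∧ π b l = w := by
      rcases hmem hxS with rfl | rfl
      · have h1 := (hmem (hbS x hw)).resolve_left hx
        exact ⟨h1, (hmem (hbS l hl)).resolve_right fun h => hlw (hπinj b (h.trans h1.symm))⟩
      · have h1 := (hmem (hbS x hl)).resolve_right hx
        exact ⟨(hmem (hbS w hw)).resolve_left fun h => hlw (hπinj b (h1.trans h.symm)), h1⟩
    have hl'S : l ∉ S' := fun h => hSS (Finset.eq_of_subset_of_card_le (fun y hy => by
      rcases hmem hy with rfl | rfl <;> assumption) hcard'.le)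
    have hbe : ∀ i, π b' (π e i) = π e (π b i) := fun i => by
      rw [← hπmul, ← hπmul, hb', inv_mul_cancel_right]
    have hb'w : π b' w ≠ w := by
      rw [himg, Finset.mem_image] at hw'
      obtain ⟨y, hy, hyw⟩ := hw'
      rw [← hyw, hbe]
      intro h
      have h1 := hπinj e h
      rcases hmem hy with rfl | rfl
      · exact hlw (hbx.1.symm.trans h1)
      · exact hlw (hbx.2.symm.trans h1).symm
    set l' := π b' w with hl'def
    have hl'S' : l' ∈ S' := hb'S w hw'
    have hl'notS : l' ∉ S := fun h => by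
      rcases hmem h with h | h
      · exact hb'w h
      · exact hl'S (h ▸ hl'S')
    have hS'eq : ∀ {y}, y ∈ S' → y = w ∨ y = l' := by
      intro y hy
      have : ({w, l'} : Finset (Fin d)) = S' := Finset.eq_of_subset_of_card_le (by
        intro y hy
        simp only [Finset.mem_insert, Finset.mem_singleton] at hy
        rcases hy with rfl | rfl <;> assumption) (by rw [Finset.card_pair hb'w.symm, hcard']; exact hcard)
      rw [← this] at hy; simpa using hy
    have hb'l' : π b' l' = w :=
      (hS'eq (hb'S l' hl'S')).resolve_right fun h => hb'w (hπinj b' (h.trans hl'def.symm) : l' = w)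
    set f := π (b * b') with hf
    have f1 : f l = w := by rw [hf, hπmul, hπnS' l hl'S, hbx.2]
    have f2 : f w = l' := by rw [hf, hπmul, ← hl'def, hπnS l' hl'notS]
    have f3 : f l' = l := by rw [hf, hπmul, hb'l', hbx.1]
    obtain ⟨n, hn⟩ := hH (b * b')
    have hper : Function.IsPeriodicPt f (2 ^ n) l := by
      show f^[2 ^ n] l = l
      rw [hf, ← hπpow, hn, (hπ1 l).1]
    have hper3 : Function.IsPeriodicPt f 3 l := by
      show f (f (f l)) = l
      rw [f1, f2, f3]
    have h1 := hper.gcd hper3
    rw [show Nat.gcd (2 ^ n) 3 = 1 from Nat.Coprime.pow_left n (by norm_num)] at h1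
    exact hlw (f1.symm.trans h1).symm
  have hdiag' : ∀ i, π b' i = i := fun i => by
    obtain ⟨j, rfl⟩ := (Finite.injective_iff_surjective.1 (hπinj e)) i
    rw [← hπmul, show b' * e = e * b by rw [hb', inv_mul_cancel_right], hπmul, hdiag]
  rw [hπ b' i, hdiag', map_smul, hπ b i, hdiag, map_smul, hπ b' i, hdiag', smul_comm]

end CfsgLib.PGroup.GrossTwo
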