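import Cfsg.Agent.Lib.PGroup.ShultGross.Count

/-!
# The spectrum in the exceptional case of the Hall-Higman theorem

If an operator `u` of order dividing `q = q₀ ^ (m + 1)` normalizes a group of class two, has no fixed
vectors and its subgroup of order `q₀` is fixed-point-free modulo scalars, then on an irreducible
`u`-invariant constituent all nontrivial roots of unity occur, so every equivariant map out of that
constituent commutes with `u`.
-/

set_option autoImplicit false
set_option linter.style.haveILetI false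
set_option linter.unusedSectionVars false

namespace CfsgLib.PGroup.GrossTwo

open CfsgLib.PGroup CfsgLib.PGroup.ShultGross

universe u v w

variable {E : Type u} [Group E] {k : Type v} [Field k] {W : Type w} [AddCommGroup W] [Module k W]
  (ρ : E →* Module.End k W)

variable [Finite E] [IsAlgClosed k] [FiniteDimensional k W]

/-- Multiplicities of the eigenvalues of an operator of finite order against its commutant. -/
theorem exists_dims_forbidden [Nontrivial W] {q : ℕ} (hq : 1 < q) (hqk : (q : k) ≠ 0) (b : Module.End k W)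
    (hbq : b ^ q = 1) :
    ∃ S : ℕ, S ≤ Module.finrank k (LinearMap.ker (LinearMap.mulLeft k b - LinearMap.mulRight k b)) ∧
      Module.finrank k W ≤ S ∧ (Module.finrank k (LinearMap.ker (b - 1))) ^ 2 ≤ S ∧
      ∀ T : Finset k, (∀ ζ ∈ T, ζ ^ q = 1 ∧ ∀ w, b w = ζ • w → w = 0) →
        (Module.finrank k W) ^ 2 ≤ (q - T.card) * S := by
  classical
  haveI : Fact (1 < q) := ⟨hq⟩
  haveI : NeZero q := ⟨by omega⟩
  let τ := powRep b hbq
  let Y : Subgroup (Multiplicative (ZMod q)) := ⊤
  haveI := Fintype.ofFinite Y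
  haveI := finite_hom_units (k := k) (Y := Y)
  haveI := Fintype.ofFinite (Y →* kˣ)
  have hY : ImgComm τ Y := fun y _ z _ => by rw [mul_comm]
  have hcard : Fintype.card Y = q := by
    rw [← Nat.card_eq_fintype_card, Subgroup.card_top]
    simp
  have hk : (Fintype.card Y : k) ≠ 0 := by rwa [hcard]
  let g : Y := ⟨Multiplicative.ofAdd 1, Subgroup.mem_top _⟩
  have hτg : τ (g : Multiplicative (ZMod q)) = b := by
    show b ^ (Multiplicative.toAdd (Multiplicative.ofAdd (1 : ZMod q))).val = b
    rw [toAdd_ofAdd, ZMod.val_one, pow_one]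
  have hgpow : ∀ y : Y, y = g ^ (Multiplicative.toAdd (y : Multiplicative (ZMod q))).val := by
    intro y
    refine Subtype.ext (Multiplicative.toAdd.injective ?_)
    simp [g, ZMod.natCast_rightInverse _]
  let Eχ : (Y →* kˣ) → Submodule k W := fun χ => LinearMap.range (eigProj τ χ)
  have hEχ : ∀ χ, ∀ x ∈ Eχ χ, IsEigen τ Y χ x := by
    rintro χ _ ⟨x, rfl⟩
    exact isEigen_eigProj τ χ x
  have hEg : ∀ χ, ∀ x ∈ Eχ χ, b x = (χ g : k) • x := fun χ x hx => by
    rw [← hτg]; exact hEχ χ x hx g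
  let π : ∀ χ, W →ₗ[k] Eχ χ := fun χ => ((q : k)⁻¹) • (eigProj τ χ).rangeRestrict
  have hπ : ∀ χ w, ((π χ w : Eχ χ) : W) = (q : k)⁻¹ • eigProj τ χ w := fun χ w => rfl
  have hsum : ∀ w, ∑ χ, ((π χ w : Eχ χ) : W) = w := fun w => by
    simp only [hπ, ← Finset.smul_sum, sum_eigProj τ hY hk, hcard, inv_smul_smul₀ hqk]
  have hπι : ∀ χ ψ, ∀ x ∈ Eχ ψ, ((π χ x : Eχ χ) : W) = if χ = ψ then x else 0 := by
    intro χ ψ x hx
    rw [hπ]
    split
    · next h => rw [h, eigProj_self τ (hEχ ψ x hx), hcard, inv_smul_smul₀ hqk]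
    · next h => rw [eigProj_ne τ (hEχ ψ x hx) h, smul_zero]
  have hπ' : ∀ (X : ∀ χ, Eχ χ) χ, π χ (∑ ψ, ((X ψ : Eχ ψ) : W)) = X χ := by
    intro X χ
    refine Subtype.ext ?_
    rw [map_sum, AddSubmonoidClass.coe_finsetSum, Finset.sum_eq_single χ (fun ψ _ h => by
        rw [hπι χ ψ _ (X ψ).2, if_neg h.symm]) (fun h => absurd (Finset.mem_univ χ) h),
      hπι χ χ _ (X χ).2, if_pos rfl]
  let e : W ≃ₗ[k] ∀ χ, Eχ χ :=
    { LinearMap.pi π with
      invFun := fun X => ∑ χ, ((X χ : Eχ χ) : W)
      left_inv := hsum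
      right_inv := fun X => funext (hπ' X) }
  have hdim : Module.finrank k W = ∑ χ, Module.finrank k (Eχ χ) := by
    rw [e.finrank_eq, Module.finrank_pi_fintype]
  let Φ : (∀ χ, Module.End k (Eχ χ)) →ₗ[k] Module.End k W :=
    { toFun := fun X => ∑ χ, (Eχ χ).subtype.comp ((X χ).comp (π χ))
      map_add' := fun X X' => by
        simp [LinearMap.add_comp, LinearMap.comp_add, Finset.sum_add_distrib]
      map_smul' := fun c X => by
        simp [LinearMap.smul_comp, LinearMap.comp_smul, Finset.smul_sum] }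
  have hΦ : ∀ X w, Φ X w = ∑ χ, ((X χ (π χ w) : Eχ χ) : W) := fun X w => by
    simp [Φ, LinearMap.sum_apply]
  have hΦi : Function.Injective Φ := by
    intro X X' h
    funext χ
    refine LinearMap.ext fun x => ?_
    have h1 : ∀ Z : ∀ χ, Module.End k (Eχ χ), π χ (Φ Z (x : W)) = Z χ x := by
      intro Z
      rw [hΦ, hπ' (fun ψ => Z ψ (π ψ (x : W))) χ]
      congr 1
      exact Subtype.ext (by rw [hπι χ χ _ x.2, if_pos rfl])
    rw [← h1 X, ← h1 X', h]
  have hΦr : LinearMap.range Φ ≤ LinearMap.ker (LinearMap.mulLeft k b - LinearMap.mulRight k b) := by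
    rintro _ ⟨X, rfl⟩
    simp only [LinearMap.mem_ker, LinearMap.sub_apply, LinearMap.mulLeft_apply,
      LinearMap.mulRight_apply, sub_eq_zero]
    refine LinearMap.ext fun w => ?_
    rw [Module.End.mul_apply, Module.End.mul_apply, hΦ, hΦ, map_sum]
    refine Finset.sum_congr rfl fun χ _ => ?_
    rw [hEg χ _ (X χ (π χ w)).2]
    have e1 : π χ (b w) = (χ g : k) • π χ w := by
      refine Subtype.ext ?_
      rw [Submodule.coe_smul, hπ, hπ, smul_comm, ← hEg χ _ ⟨w, rfl⟩, ← hτg,
        eigProj_comm τ χ (τ (g : Multiplicative (ZMod q))) (fun y hy v => by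
          rw [← rep_mul_apply, ← rep_mul_apply, mul_comm]) w]
    rw [e1, map_smul, Submodule.coe_smul]
  have hgq : ∀ χ : Y →* kˣ, (χ g : k) ^ q = 1 := fun χ => by
    rw [← Units.val_pow_eq_pow_val, ← map_pow,
      show g ^ q = 1 by have h0 := pow_card_eq_one (x := g); rwa [hcard] at h0, map_one, Units.val_one]
  have hinj : Function.Injective fun χ : Y →* kˣ => (χ g : k) := fun χ ψ h => by
    have h' : χ g = ψ g := Units.ext h
    refine MonoidHom.ext fun y => ?_
    rw [hgpow y, map_pow, map_pow, h']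
  refine ⟨∑ χ, Module.finrank k (Eχ χ) * Module.finrank k (Eχ χ), ?_, ?_, ?_, ?_⟩
  · refine le_trans (le_of_eq ?_) (Submodule.finrank_mono hΦr)
    rw [LinearMap.finrank_range_of_inj hΦi, Module.finrank_pi_fintype]
    exact Finset.sum_congr rfl fun χ _ => (Module.finrank_linearMap k k _ _).symm
  · rw [hdim]
    exact Finset.sum_le_sum fun χ _ => Nat.le_mul_self _
  · have hle : LinearMap.ker (b - 1) ≤ Eχ 1 := by
      intro x hx
      rw [LinearMap.mem_ker, LinearMap.sub_apply, Module.End.one_apply, sub_eq_zero] at hx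
      have hx1 : IsEigen τ Y 1 x := by
        intro y
        have e : τ (y : Multiplicative (ZMod q)) = b ^ (Multiplicative.toAdd (y : Multiplicative (ZMod q))).val :=
          rfl
        rw [e, MonoidHom.one_apply, Units.val_one, one_smul]
        generalize (Multiplicative.toAdd (y : Multiplicative (ZMod q))).val = i
        induction i with
        | zero => rw [pow_zero, Module.End.one_apply]
        | succ i ih => rw [pow_succ', Module.End.mul_apply, ih, hx]
      refine ⟨(q : k)⁻¹ • x, ?_⟩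
      rw [map_smul, eigProj_self τ hx1, hcard, inv_smul_smul₀ hqk]
    rw [sq]
    refine le_trans (Nat.mul_le_mul (Submodule.finrank_mono hle) (Submodule.finrank_mono hle)) ?_
    exact Finset.single_le_sum (fun χ _ => Nat.zero_le (Module.finrank k (Eχ χ) * Module.finrank k (Eχ χ)))
      (Finset.mem_univ (1 : Y →* kˣ))
  · intro T hT
    let Ω := (Finset.univ : Finset (Y →* kˣ)).filter fun χ => (χ g : k) ∉ T
    have hzero : ∀ χ ∈ (Finset.univ : Finset (Y →* kˣ)), χ ∉ Ω → Module.finrank k (Eχ χ) = 0 := by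
      intro χ _ hχ
      simp only [Ω, Finset.mem_filter, Finset.mem_univ, true_and, not_not] at hχ
      rw [Submodule.finrank_eq_zero, eq_bot_iff]
      intro x hx
      rw [Submodule.mem_bot]
      exact (hT _ hχ).2 x (hEg χ x hx)
    have hΩ : Ω.card ≤ q - T.card := by
      have hsub : T ⊆ Polynomial.nthRootsFinset q (1 : k) := fun ζ hζ =>
        (Polynomial.mem_nthRootsFinset (by omega) (1 : k)).2 (hT ζ hζ).1
      have hR : (Polynomial.nthRootsFinset q (1 : k)).card ≤ q := by
        rw [Polynomial.nthRootsFinset_def]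
        exact (Multiset.toFinset_card_le _).trans (Polynomial.card_nthRoots _ _)
      have h1 : Ω.card ≤ (Polynomial.nthRootsFinset q (1 : k) \ T).card := by
        refine Finset.card_le_card_of_injOn (fun χ => (χ g : k)) (fun χ hχ => ?_) hinj.injOn
        simp only [Ω, Finset.coe_filter, Set.mem_setOf_eq, Finset.mem_univ, true_and] at hχ
        exact Finset.mem_sdiff.2 ⟨(Polynomial.mem_nthRootsFinset (by omega) (1 : k)).2 (hgq χ), hχ⟩
      rw [Finset.card_sdiff_of_subset hsub] at h1
      omega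
    rw [hdim, ← Finset.sum_subset (Finset.subset_univ Ω) hzero]
    refine le_trans sq_sum_le_card_mul_sum_sq ?_
    refine Nat.mul_le_mul hΩ ?_
    simp only [sq]
    exact Finset.sum_le_sum_of_subset (Finset.subset_univ _)

/-- An irreducible constituent invariant under an operator normalizing the group. -/
theorem exists_irred_inv_sub [Nontrivial W] (hE : ClassTwo ρ) (hnd : Nondeg ρ)
    (hm : (Nat.card (ScalarQuot ρ) : k) ≠ 0) {q : ℕ} (hq : 0 < q) (σ : E ≃* E) (u : Module.End k W)
    (huq : u ^ q = 1) (hu : ∀ x, u * ρ x = ρ (σ x) * u) :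
    ∃ (V : Submodule k W) (hV : ∀ x : E, ∀ w ∈ V, ρ x w ∈ V),
      V ≠ ⊥ ∧ (∀ w ∈ V, u w ∈ V) ∧ Irred (restrictRep ρ V hV) := by
  classical
  have hq1 : 1 ≤ q := hq
  obtain ⟨U, hU0, hUinv, hUmin⟩ := exists_irred_sub ρ
  haveI : Nontrivial U := Submodule.nontrivial_iff_ne_bot.2 hU0
  set ρU := restrictRep ρ U hUinv with hρU
  have hsub : scalarSub ρU = scalarSub ρ := scalarSub_restrictRep ρ hE hnd hUinv hU0
  have hirr : Irred ρU := by
    intro V hV
    rcases hUmin (V.map U.subtype) (Submodule.map_subtype_le _ _) (fun x w hw => by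
      obtain ⟨v, hv, rfl⟩ := Submodule.mem_map.1 hw
      exact Submodule.mem_map.2 ⟨ρU x v, hV x v hv, rfl⟩) with h | h
    · left
      rwa [← Submodule.map_bot U.subtype,
        (Submodule.map_injective_of_injective U.subtype_injective).eq_iff] at h
    · right
      rw [← Submodule.map_injective_of_injective U.subtype_injective |>.eq_iff, h,
        Submodule.map_subtype_top]
  have hEU : ClassTwo ρU := fun x y => hsub.symm ▸ hE x y
  have hσW : ∀ x (c : k), ρ x = c • 1 → ρ (σ x) = c • 1 := by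
    intro x c hc
    have h := hu x
    rw [hc, mul_smul_comm, mul_one, ← one_mul u, ← smul_mul_assoc] at h
    obtain ⟨v, hv⟩ : ∃ v : Module.End k W, u * v = 1 :=
      ⟨u ^ (q - 1), by rw [← pow_succ', Nat.sub_add_cancel hq1, huq]⟩
    have := congrArg (· * v) h
    simpa [mul_assoc, hv] using this.symm
  have hσU : ∀ x (c : k), ρU x = c • 1 → ρU (σ x) = c • 1 := by
    intro x c hc
    obtain ⟨d, hd⟩ : x ∈ scalarSub ρ := hsub ▸ ⟨c, hc⟩
    have h1 := restrictRep_smul_one ρ (hU := hUinv) hd
    rw [show c = d from smul_rep_inj ρU (x := 1) (by rw [map_one, ← hc, ← h1])]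
    exact restrictRep_smul_one ρ (hσW x d hd)
  have hmU : (Nat.card (ScalarQuot ρU) : k) ≠ 0 := by
    unfold ScalarQuot at hm ⊢
    rw [hsub]; exact hm
  obtain ⟨b, hb⟩ := exists_intertwiner ρU hirr hEU hmU σ hσU
  let Hm : Submodule k (U →ₗ[k] W) :=
    { carrier := {h | ∀ x v, h (ρU x v) = ρ x (h v)}
      add_mem' := fun {h h'} hh hh' x v => by
        rw [LinearMap.add_apply, LinearMap.add_apply, hh, hh', map_add]
      zero_mem' := fun x v => by simp
      smul_mem' := fun c h hh x v => by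
        rw [LinearMap.smul_apply, LinearMap.smul_apply, hh, map_smul] }
  let L₀ : (U →ₗ[k] W) →ₗ[k] (U →ₗ[k] W) :=
    { toFun := fun h => u.comp (h.comp b.symm.toLinearMap)
      map_add' := fun h h' => by simp [LinearMap.add_comp, LinearMap.comp_add]
      map_smul' := fun c h => by simp [LinearMap.smul_comp, LinearMap.comp_smul] }
  have hL : ∀ h ∈ Hm, L₀ h ∈ Hm := by
    intro h hh x v
    show u (h (b.symm (ρU x v))) = ρ x (u (h (b.symm v)))
    have e : b.symm (ρU x v) = ρU (σ.symm x) (b.symm v) := by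
      apply b.injective
      rw [LinearEquiv.apply_symm_apply, hb, MulEquiv.apply_symm_apply, LinearEquiv.apply_symm_apply]
    rw [e, hh]
    have := LinearMap.congr_fun (hu (σ.symm x)) (h (b.symm v))
    simpa using this
  haveI : Nontrivial Hm := Submodule.nontrivial_iff_ne_bot.2 fun h => hU0 (by
    have : U.subtype ∈ Hm := fun x v => rfl
    rw [h, Submodule.mem_bot] at this
    rw [← Submodule.range_subtype U, this, LinearMap.range_zero])
  obtain ⟨ζ, hζ⟩ := Module.End.exists_eigenvalue (L₀.restrict hL : Module.End k Hm)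
  obtain ⟨h, hh⟩ := hζ.exists_hasEigenvector
  have hhe : ∀ v, u ((h : U →ₗ[k] W) (b.symm v)) = ζ • (h : U →ₗ[k] W) v := fun v =>
    LinearMap.congr_fun (congrArg Subtype.val (Module.End.mem_eigenspace_iff.1 hh.1)) v
  have hinj : Function.Injective (h : U →ₗ[k] W) := by
    rw [← LinearMap.ker_eq_bot]
    refine (hirr _ fun x v hv => ?_).resolve_right fun e =>
      hh.2 (Subtype.ext (LinearMap.ker_eq_top.1 e))
    rw [LinearMap.mem_ker] at hv ⊢
    rw [h.2 x v, hv, map_zero]
  have hV : ∀ x : E, ∀ w ∈ LinearMap.range (h : U →ₗ[k] W), ρ x w ∈ LinearMap.range (h : U →ₗ[k] W) := by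
    rintro x _ ⟨v, rfl⟩
    exact ⟨ρU x v, h.2 x v⟩
  refine ⟨LinearMap.range (h : U →ₗ[k] W), hV, ?_, ?_, ?_⟩
  · intro e
    exact hh.2 (Subtype.ext (LinearMap.range_eq_bot.1 e))
  · rintro _ ⟨v, rfl⟩
    refine ⟨ζ • b v, ?_⟩
    rw [map_smul, ← hhe, LinearEquiv.symm_apply_apply]
  · intro P hP
    let g : U →ₗ[k] LinearMap.range (h : U →ₗ[k] W) := (h : U →ₗ[k] W).rangeRestrict
    have hgs : Function.Surjective g := LinearMap.surjective_rangeRestrict _
    have hge : ∀ x v, g (ρU x v) = restrictRep ρ _ hV x (g v) := fun x v => Subtype.ext (h.2 x v)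
    rcases hirr (P.comap g) (fun x v hv => by
      rw [Submodule.mem_comap] at hv ⊢
      rw [hge]
      exact hP x _ hv) with h0 | h0
    · left
      rw [← Submodule.map_comap_eq_of_surjective hgs P, h0, Submodule.map_bot]
    · right
      rw [← Submodule.map_comap_eq_of_surjective hgs P, h0, Submodule.map_top,
        LinearMap.range_eq_top.2 hgs]

/-- Equivariant maps out of an invariant irreducible constituent commute with the operator. -/
theorem exists_commuting_sub [Nontrivial W] (hE : ClassTwo ρ) (hnd : Nondeg ρ)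
    (hm : (Nat.card (ScalarQuot ρ) : k) ≠ 0) {q₀ m : ℕ} (hq : q₀.Prime) {q : ℕ} (hN : q = q₀ ^ (m + 1))
    (hqk : (q : k) ≠ 0) (σ : E ≃* E) (hσq : ∀ x, σ^[q] x = x) (u : Module.End k W) (huq : u ^ q = 1)
    (hu : ∀ x, u * ρ x = ρ (σ x) * u) (hfix : ∀ w, u w = w → w = 0)
    (hfpf : ∀ x, x⁻¹ * σ^[q₀ ^ m] x ∈ scalarSub ρ → x ∈ scalarSub ρ) (hne : scalarSub ρ ≠ ⊤) :
    ∃ (V : Submodule k W) (hV : ∀ x : E, ∀ w ∈ V, ρ x w ∈ V) (hVu : ∀ w ∈ V, u w ∈ V), V ≠ ⊥ ∧
      ∀ h : V →ₗ[k] W, (∀ x v, h (restrictRep ρ V hV x v) = ρ x (h v)) →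
        ∀ v : V, u (h v) = h ⟨u v, hVu v v.2⟩ := by
  classical
  have hN1 : 1 < q := hN ▸ Nat.one_lt_pow (Nat.succ_ne_zero m) hq.one_lt
  obtain ⟨V, hV, hV0, hVu, hirr⟩ := exists_irred_inv_sub ρ hE hnd hm (zero_lt_one.trans hN1) σ u huq hu
  haveI : Nontrivial V := Submodule.nontrivial_iff_ne_bot.2 hV0
  refine ⟨V, hV, hVu, hV0, ?_⟩
  set ρV := restrictRep ρ V hV with hρV
  have hsub : scalarSub ρV = scalarSub ρ := scalarSub_restrictRep ρ hE hnd hV hV0
  have hEV : ClassTwo ρV := fun x y => hsub.symm ▸ hE x y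
  have hmV : (Nat.card (ScalarQuot ρV) : k) ≠ 0 := by
    unfold ScalarQuot at hm ⊢
    rw [hsub]; exact hm
  let B : Module.End k V := u.restrict hVu
  have hBv : ∀ v : V, ((B v : V) : W) = u v := fun v => rfl
  have hBn : ∀ (i : ℕ) (v : V), (((B ^ i) v : V) : W) = (u ^ i) v := by
    intro i
    induction i with
    | zero => intro v; rfl
    | succ i ih => intro v; rw [pow_succ', Module.End.mul_apply, hBv, ih, pow_succ', Module.End.mul_apply]
  have hBq : B ^ q = 1 := LinearMap.ext fun v => Subtype.ext (by rw [hBn, huq]; rfl)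
  have hBσ : ∀ x, B * ρV x = ρV (σ x) * B := fun x => LinearMap.ext fun v => Subtype.ext (by
    rw [Module.End.mul_apply, Module.End.mul_apply, hBv, restrictRep_apply, restrictRep_apply, hBv]
    exact LinearMap.congr_fun (hu x) _)
  have hBfix : ∀ v, B v = v → v = 0 := fun v hv =>
    Subtype.ext (hfix _ (congrArg Subtype.val hv))
  let Binv : Module.End k V := B ^ (q - 1)
  have hB1 : B * Binv = 1 := by
    rw [← pow_succ', Nat.sub_add_cancel hN1.le, hBq]
  have hB2 : Binv * B = 1 := by
    rw [← pow_succ, Nat.sub_add_cancel hN1.le, hBq]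
  have hσV : ∀ x (c : k), ρV x = c • 1 → ρV (σ x) = c • 1 := by
    intro x c hc
    calc ρV (σ x) = ρV (σ x) * (B * Binv) := by rw [hB1, mul_one]
      _ = B * ρV x * Binv := by rw [hBσ, mul_assoc]
      _ = c • (B * Binv) := by rw [hc, mul_smul_comm, mul_one, smul_mul_assoc]
      _ = c • 1 := by rw [hB1]
  obtain ⟨d', hd', hqd⟩ := ShultGross.hh_core ρ hE hnd hm hq hN hqk σ hσq u huq hu hfix hfpf hne
  have hcd := card_scalarQuot ρV hirr hEV hmV
  set d := Module.finrank k V with hd
  have hdd : d = d' := by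
    refine Nat.mul_self_inj.1 ?_
    rw [← hcd, ← hd']
    unfold ScalarQuot
    rw [hsub]
  subst hdd
  have hfr := ShultGross.finrank_commute_le ρV hirr hEV hmV hq hN hqk σ hσq hσV B hBσ hBq
    (fun x hx => hsub.symm ▸ hfpf x (hsub ▸ hx)) (hsub.symm ▸ hne)
  rw [hcd] at hfr
  obtain ⟨S, hS1, -, -, hS4⟩ := exists_dims_forbidden hN1 hqk B hBq
  have hd1 : 1 ≤ d := Module.finrank_pos
  have hqS : q * S + 1 ≤ d * d + q :=
    le_trans (Nat.add_le_add_right (Nat.mul_le_mul_left q hS1) 1) hfr
  have hSd : S ≤ d := by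
    by_contra hlt
    push Not at hlt
    nlinarith [Nat.mul_le_mul_left q hlt]
  -- the action on equivariant maps
  let Hm : Submodule k (V →ₗ[k] W) :=
    { carrier := {h | ∀ x v, h (ρV x v) = ρ x (h v)}
      add_mem' := fun {h h'} hh hh' x v => by
        rw [LinearMap.add_apply, LinearMap.add_apply, hh, hh', map_add]
      zero_mem' := fun x v => by simp
      smul_mem' := fun c h hh x v => by
        rw [LinearMap.smul_apply, LinearMap.smul_apply, hh, map_smul] }
  let L₀ : (V →ₗ[k] W) →ₗ[k] (V →ₗ[k] W) :=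
    { toFun := fun h => u.comp (h.comp Binv)
      map_add' := fun h h' => by simp [LinearMap.add_comp, LinearMap.comp_add]
      map_smul' := fun c h => by simp [LinearMap.smul_comp, LinearMap.comp_smul] }
  have hL : ∀ h ∈ Hm, L₀ h ∈ Hm := by
    intro h hh x v
    show u (h (Binv (ρV x v))) = ρ x (u (h (Binv v)))
    have e : Binv * ρV x = ρV (σ.symm x) * Binv := by
      calc Binv * ρV x = Binv * (ρV x * B) * Binv := by rw [mul_assoc, mul_assoc, hB1, mul_one]
        _ = Binv * (B * ρV (σ.symm x)) * Binv := by rw [hBσ, MulEquiv.apply_symm_apply]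
        _ = ρV (σ.symm x) * Binv := by rw [← mul_assoc, hB2, one_mul]
    rw [show Binv (ρV x v) = ρV (σ.symm x) (Binv v) from LinearMap.congr_fun e v, hh]
    have := LinearMap.congr_fun (hu (σ.symm x)) (h (Binv v))
    simpa using this
  let L : Module.End k Hm := L₀.restrict hL
  have hLq : L ^ q = 1 := LinearMap.ext fun h => Subtype.ext (LinearMap.ext fun v => by
    have hLpow : ∀ (i : ℕ) (v : V),
        (((L ^ i) h : Hm) : V →ₗ[k] W) v = (u ^ i) ((h : V →ₗ[k] W) ((Binv ^ i) v)) := by
      intro i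
      induction i with
      | zero => intro v; rfl
      | succ i ih =>
        intro v
        rw [pow_succ', Module.End.mul_apply]
        show u (((L ^ i) h : Hm).1 (Binv v)) = _
        rw [ih, pow_succ', Module.End.mul_apply, pow_succ Binv, Module.End.mul_apply]
    rw [hLpow, huq, show Binv ^ q = 1 by rw [← pow_mul, mul_comm, pow_mul, hBq, one_pow]]
    rfl)
  have heig : ∀ (η : k) (h : Hm), h ≠ 0 → L h = η • h → η = 1 := by
    intro η h h0 hLh
    have he : ∀ v, u ((h : V →ₗ[k] W) v) = η • (h : V →ₗ[k] W) (B v) := by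
      intro v
      have h1 : u ((h : V →ₗ[k] W) (Binv (B v))) = η • (h : V →ₗ[k] W) (B v) :=
        LinearMap.congr_fun (congrArg Subtype.val hLh) (B v)
      rwa [show Binv (B v) = v from LinearMap.congr_fun hB2 v] at h1
    have hηq : η ^ q = 1 := by
      have h1 : ∀ i : ℕ, (L ^ i) h = η ^ i • h := by
        intro i
        induction i with
        | zero => rw [pow_zero, pow_zero, one_smul, Module.End.one_apply]
        | succ i ih => rw [pow_succ', Module.End.mul_apply, ih, map_smul, hLh, smul_smul, pow_succ]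
      have h2 := h1 q
      rw [hLq, Module.End.one_apply] at h2
      exact smul_left_injective k h0 (h2.symm.trans (one_smul k h).symm)
    by_contra hη
    have hη0 : η ≠ 0 := fun e => by rw [e, zero_pow (by omega)] at hηq; exact zero_ne_one hηq
    have hinj : Function.Injective (h : V →ₗ[k] W) := by
      rw [← LinearMap.ker_eq_bot]
      refine (hirr _ fun x v hv => ?_).resolve_right fun e =>
        h0 (Subtype.ext (LinearMap.ker_eq_top.1 e))
      rw [LinearMap.mem_ker] at hv ⊢
      rw [h.2 x v, hv, map_zero]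
    have hT := hS4 {1, η⁻¹} (fun ζ hζ => by
      rcases Finset.mem_insert.1 hζ with rfl | hζ
      · exact ⟨one_pow q, fun w hw => hBfix w (by rw [hw, one_smul])⟩
      · rw [Finset.mem_singleton] at hζ
        subst hζ
        refine ⟨by rw [inv_pow, hηq, inv_one], fun w hw => hinj ?_⟩
        rw [map_zero]
        exact hfix _ (by rw [he, hw, map_smul, smul_smul, mul_inv_cancel₀ hη0, one_smul]))
    rw [Finset.card_pair (fun e => hη (inv_eq_one.1 e.symm))] at hT
    have h3 : q - 2 = d - 1 := by omega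
    rw [h3] at hT
    change d ^ 2 ≤ _ at hT
    rw [sq] at hT
    have h4 := hT.trans (Nat.mul_le_mul_left (d - 1) hSd)
    have h5 : (d - 1) * d + d = d * d := by
      rw [← Nat.succ_mul, Nat.succ_eq_add_one, Nat.sub_add_cancel hd1]
    omega
  have hL₀pow : ∀ (i : ℕ) (h : V →ₗ[k] W) (v : V), ((L₀ ^ i) h) v = (u ^ i) (h ((Binv ^ i) v)) := by
    intro i
    induction i with
    | zero => intro h v; rfl
    | succ i ih =>
      intro h v
      rw [pow_succ', Module.End.mul_apply]
      show u (((L₀ ^ i) h) (Binv v)) = _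
      rw [ih, pow_succ', Module.End.mul_apply, pow_succ Binv, Module.End.mul_apply]
  have hL₀q : ∀ h, (L₀ ^ q) h = h := fun h => LinearMap.ext fun v => by
    rw [hL₀pow, huq, show Binv ^ q = 1 by rw [← pow_mul, mul_comm, pow_mul, hBq, one_pow]]
    rfl
  let P : (V →ₗ[k] W) →ₗ[k] (V →ₗ[k] W) := ∑ i ∈ Finset.range q, (L₀ ^ i : Module.End k (V →ₗ[k] W))
  have hP : ∀ h, P h = ∑ i ∈ Finset.range q, (L₀ ^ i) h := fun h => by
    show (∑ i ∈ Finset.range q, (L₀ ^ i : Module.End k (V →ₗ[k] W))) h = _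
    rw [LinearMap.sum_apply]
  have hPL : ∀ h, P (L₀ h) = P h := by
    intro h
    rw [hP, hP]
    have e1 := Finset.sum_range_succ' (fun i => (L₀ ^ i) h) q
    rw [Finset.sum_range_succ, hL₀q] at e1
    simp only [pow_zero, Module.End.one_apply] at e1
    rw [add_left_inj] at e1
    rw [e1]
    exact Finset.sum_congr rfl fun i _ => by rw [pow_succ, Module.End.mul_apply]
  have hinj : Hm ⊓ LinearMap.ker P = ⊥ := by
    by_contra hne'
    let N : Submodule k (V →ₗ[k] W) := Hm ⊓ LinearMap.ker P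
    haveI : Nontrivial N := Submodule.nontrivial_iff_ne_bot.2 hne'
    have hinv : ∀ x ∈ N, L₀ x ∈ N := fun x hx =>
      ⟨hL x hx.1, by
        show P (L₀ x) = 0
        rw [hPL]
        exact hx.2⟩
    obtain ⟨η, hη⟩ := Module.End.exists_eigenvalue (L₀.restrict hinv : Module.End k N)
    obtain ⟨h, hh⟩ := hη.exists_hasEigenvector
    have hLh : L₀ (h : V →ₗ[k] W) = η • (h : V →ₗ[k] W) :=
      congrArg Subtype.val (Module.End.mem_eigenspace_iff.1 hh.1)
    have h0 : (h : V →ₗ[k] W) ≠ 0 := fun e => hh.2 (Subtype.ext e)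
    rw [heig η ⟨h, h.2.1⟩ (fun e => h0 (congrArg Subtype.val e)) (Subtype.ext hLh), one_smul] at hLh
    have hfx : ∀ i : ℕ, (L₀ ^ i) (h : V →ₗ[k] W) = h := by
      intro i
      induction i with
      | zero => rfl
      | succ i ih => rw [pow_succ', Module.End.mul_apply, ih, hLh]
    have hP0 : P (h : V →ₗ[k] W) = 0 := h.2.2
    rw [hP, Finset.sum_congr rfl fun i _ => hfx i, Finset.sum_const, Finset.card_range,
      ← Nat.cast_smul_eq_nsmul k] at hP0
    exact h0 ((smul_eq_zero.1 hP0).resolve_left hqk)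
  intro h hh v
  have hfix' : L₀ h = h := by
    refine sub_eq_zero.1 ((Submodule.eq_bot_iff _).1 hinj _
      ⟨Submodule.sub_mem _ (hL h hh) hh, ?_⟩)
    show P (L₀ h - h) = 0
    rw [map_sub, hPL, sub_self]
  have h1 : u (h (Binv (B v))) = h (B v) := LinearMap.congr_fun hfix' (B v)
  rwa [show Binv (B v) = v from LinearMap.congr_fun hB2 v] at h1

end CfsgLib.PGroup.GrossTwo
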